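import Mathlib
import Cfsg.Prelude.Def_GeometricClasses
import Cfsg.Agent.Lib.Structure.SymplecticTypeExpFour

/-!
Symplectic-type 2-subgroups of `GL₄` over a finite field: signs, fixed points of prime order elements of
the normalizer, trace identity, quaternion-dihedral frames, the monomial table and witness elements.
-/

set_option autoImplicit false
set_option linter.unusedSectionVars false

namespace CfsgLib.PrimeElusive.SymplType

open Matrix

open scoped MatrixGroups commutatorElement

variable {F : Type*} [Field F] {ι : Type} [Fintype ι] [DecidableEq ι]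

/-- The matrix of a group element. -/
abbrev mt (g : GL ι F) : Matrix ι ι F := (g : Matrix ι ι F)

/-- Being scalar. -/
def Sc (g : GL ι F) : Prop := ∃ c : F, mt g = c • 1

/-- Anticommuting. -/
def Anti (g h : GL ι F) : Prop := mt g * mt h = -(mt h * mt g)

theorem Sc.commute {g : GL ι F} (hg : Sc g) (h : GL ι F) : g * h = h * g := by
  obtain ⟨c, hc⟩ := hg
  exact Units.ext (by rw [Units.val_mul, Units.val_mul]; show mt g * _ = _ * mt g; rw [hc]; simp)

theorem Anti.symm {g h : GL ι F} (hgh : Anti g h) : Anti h g := by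
  show mt h * mt g = -(mt g * mt h)
  rw [show mt g * mt h = _ from hgh, neg_neg]

theorem Anti.not_commute [Nonempty ι] (h2 : (2 : F) ≠ 0) {g h : GL ι F} (hgh : Anti g h) : g * h ≠ h * g := by
  intro e
  have e' : mt g * mt h = mt h * mt g := congrArg Units.val e
  have h0 : mt h * mt g = -(mt h * mt g) := e'.symm.trans hgh
  have h3 : (2 : F) • (mt h * mt g) = 0 := by
    rw [two_smul]; nth_rw 2 [h0]; exact add_neg_cancel _
  rcases smul_eq_zero.1 h3 with h4 | h4
  · exact h2 h4
  · exact (h * g).isUnit.ne_zero h4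

theorem Anti.not_sc [Nonempty ι] (h2 : (2 : F) ≠ 0) {g h : GL ι F} (hgh : Anti g h) : ¬ Sc g :=
  fun hg => hgh.not_commute h2 (hg.commute h)

/-- A symplectic-type 2-group of order `16 z`, `z` the number of its scalars. -/
structure Data (R : Subgroup (GL ι F)) (z : ℕ) : Prop where
  four : Fintype.card ι = 4
  two : (2 : F) ≠ 0
  irr : Cfsg.Geo.ActsAbsolutelyIrreducibly (Cfsg.Geo.matrixSet R)
  sgn : ∀ a ∈ R, ∀ b ∈ R, a * b = b * a ∨ Anti a b
  sq : ∀ a ∈ R, mt a * mt a = 1 ∨ mt a * mt a = -1
  card : Nat.card R = 16 * z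
  center : Nat.card (Subgroup.center R) = z
  pos : 0 < z

theorem mem_center_iff {R : Subgroup (GL ι F)} (hirr : Cfsg.Geo.ActsAbsolutelyIrreducibly (Cfsg.Geo.matrixSet R))
    (g : R) : g ∈ Subgroup.center R ↔ Sc (g : GL ι F) := by
  rw [Subgroup.mem_center_iff]
  refine ⟨fun h => ?_, fun h x => Subtype.ext (h.commute x).symm⟩
  refine hirr.2 _ ?_
  rintro _ ⟨x, hx, rfl⟩
  exact (congrArg (fun u : R => mt (u : GL ι F)) (h ⟨x, hx⟩)).symm

theorem data_of_symplecticType [Finite F] {R : Subgroup (GL ι F)} {z : ℕ} (h4 : Fintype.card ι = 4)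
    (h2 : (2 : F) ≠ 0) (hs : Cfsg.Geo.IsSymplecticTypeGroup 2 R)
    (hi : Cfsg.Geo.ActsAbsolutelyIrreducibly (Cfsg.Geo.matrixSet R)) (hc : Nat.card R = 16 * z)
    (hz : Nat.card (Subgroup.center R) = z) (hpos : 0 < z) : Data R z := by
  have : Nonempty ι := Fintype.card_pos_iff.1 (by omega)
  have hexp : ∀ q : R, q ^ 4 = 1 := fun q => by
    have := Monoid.pow_exponent_eq_one q
    rw [hs.exponent_eq] at this
    exact this
  have hprops := CfsgLib.SymplecticFour.commutator_props R hs.pGroup hs.cyclic_of_characteristic hexp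
  have hsq1 : ∀ c : F, c ^ 2 = 1 → c = 1 ∨ c = -1 := fun c h => sq_eq_one_iff.1 h
  have entry : ∀ (c d : F), c • (1 : Matrix ι ι F) = d • 1 → c = d := fun c d h => by
    have i := Classical.arbitrary ι
    simpa using congrFun (congrFun h i) i
  refine ⟨h4, h2, hi, fun a ha b hb => ?_, fun a ha => ?_, hc, hz, hpos⟩
  · obtain ⟨h1, h1'⟩ := hprops ⟨a, ha⟩ ⟨b, hb⟩
    obtain ⟨c, hcv⟩ := (mem_center_iff hi _).1 h1
    have e : mt a * mt b = c • (mt b * mt a) := by
      have e1 : (a * b : GL ι F) = ((⁅(⟨a, ha⟩ : R), ⟨b, hb⟩⁆ : R) : GL ι F) * (b * a) := by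
        simp only [commutatorElement_def, Subgroup.coe_mul, Subgroup.coe_inv]; group
      have := congrArg Units.val e1
      rw [Units.val_mul, Units.val_mul, Units.val_mul] at this
      rw [show mt a * mt b = _ from this, show ((⁅(⟨a, ha⟩ : R), ⟨b, hb⟩⁆ : R) : GL ι F).val = c • 1 from hcv,
        smul_mul_assoc, one_mul]
    have hc2 : c ^ 2 = 1 := by
      refine entry _ _ ?_
      have := congrArg (fun u : R => mt (u : GL ι F)) h1'
      simp only [Subgroup.coe_pow, mt, Units.val_pow_eq_pow_val] at this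
      rw [show ((⁅(⟨a, ha⟩ : R), ⟨b, hb⟩⁆ : R) : GL ι F).val = c • 1 from hcv, smul_pow, one_pow] at this
      rw [one_smul]; simpa using this
    rcases hsq1 c hc2 with rfl | rfl
    · left; exact Units.ext (by rw [Units.val_mul, Units.val_mul]; simpa using e)
    · right; show mt a * mt b = _; rw [e, neg_one_smul]
  · have hcen : (⟨a, ha⟩ : R) ^ 2 ∈ Subgroup.center R := by
      rw [Subgroup.mem_center_iff]
      intro x
      refine (commutatorElement_eq_one_iff_mul_comm.mp ?_).symm
      rw [CfsgLib.SymplecticFour.commutator_sq_left (hprops _ x).1, (hprops _ x).2]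
    obtain ⟨c, hcv⟩ := (mem_center_iff hi _).1 hcen
    have e : mt a * mt a = c • 1 := by rw [← hcv]; simp [mt, pow_two]
    have hc2 : c ^ 2 = 1 := by
      refine entry _ _ ?_
      have := congrArg (fun u : R => mt (u : GL ι F)) (hexp ⟨a, ha⟩)
      simp only [Subgroup.coe_pow, mt, Units.val_pow_eq_pow_val] at this
      rw [show 4 = 2 * 2 from rfl, pow_mul, pow_two, pow_two, show (a : Matrix ι ι F) * a = _ from e] at this
      rw [one_smul, pow_two]
      simpa [smul_smul] using this
    rcases hsq1 c hc2 with rfl | rfl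
    · left; rw [e, one_smul]
    · right; rw [e, neg_one_smul]

theorem cmv {g h : GL ι F} (e : g * h = h * g) : mt g * mt h = mt h * mt g := congrArg Units.val e

variable {R : Subgroup (GL ι F)} {z : ℕ} (D : Data R z)

include D

theorem Data.nonempty : Nonempty ι := Fintype.card_pos_iff.1 (by rw [D.four]; norm_num)

theorem Data.finite : Finite R :=
  Nat.finite_of_card_ne_zero (by rw [D.card]; have := D.pos; omega)

theorem Data.sc_of_commute {v : GL ι F} (h : ∀ g ∈ R, v * g = g * v) : Sc v := by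
  refine D.irr.2 _ ?_
  rintro _ ⟨g, hg, rfl⟩
  exact congrArg Units.val (h g hg)

theorem Data.exists_anti {g : GL ι F} (hg : g ∈ R) (hns : ¬ Sc g) : ∃ h ∈ R, Anti g h := by
  by_contra hno
  push Not at hno
  exact hns (D.sc_of_commute fun h hh => (D.sgn g hg h hh).resolve_right (hno h hh))

theorem Data.trace_eq_zero {g : GL ι F} (hg : g ∈ R) (hns : ¬ Sc g) : (mt g).trace = 0 := by
  obtain ⟨h, -, hgh⟩ := D.exists_anti hg hns
  have e : mt g = -(mt h * mt g * mt h⁻¹) := by
    have e1 : mt g * mt h * mt h⁻¹ = mt g := by rw [mul_assoc, ← Units.val_mul, mul_inv_cancel, Units.val_one, mul_one]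
    conv_lhs => rw [← e1, show mt g * mt h = -(mt h * mt g) from hgh]
    simp [mul_assoc]
  have h1 := congrArg Matrix.trace e
  rw [Matrix.trace_neg, Matrix.trace_mul_cycle, show mt h⁻¹ * mt h = 1 by rw [← Units.val_mul, inv_mul_cancel, Units.val_one],
    one_mul] at h1
  have h2 : (2 : F) * (mt g).trace = 0 := by linear_combination h1
  exact (mul_eq_zero.1 h2).resolve_left D.two

theorem Data.trace_one : (1 : Matrix ι ι F).trace = 4 := by
  rw [Matrix.trace_one, D.four]; norm_num

theorem Data.four_ne : (4 : F) ≠ 0 := by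
  rw [show (4 : F) = 2 * 2 by norm_num]; exact mul_ne_zero D.two D.two

/-- Averaging over the group. -/
theorem Data.avg [Fintype R] (M : Matrix ι ι F) :
    ∑ g : R, mt (g : GL ι F) * M * mt (g : GL ι F)⁻¹ = ((4 * z : ℕ) : F) • M.trace • (1 : Matrix ι ι F) := by
  set S := ∑ g : R, mt (g : GL ι F) * M * mt (g : GL ι F)⁻¹ with hS
  obtain ⟨c, hc⟩ := D.irr.2 S (by
    rintro _ ⟨h, hh, rfl⟩
    rw [hS, Finset.sum_mul, Finset.mul_sum, ← Equiv.sum_comp (Equiv.mulLeft (⟨h, hh⟩ : R))]
    refine Finset.sum_congr rfl fun g _ => ?_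
    simp only [Equiv.coe_mulLeft, Subgroup.coe_mul, _root_.mul_inv_rev, mt, Units.val_mul, mul_assoc]
    rw [← Units.val_mul h⁻¹, inv_mul_cancel, Units.val_one, mul_one])
  have ht : S.trace = ((16 * z : ℕ) : F) * M.trace := by
    rw [hS, Matrix.trace_sum, Finset.sum_congr rfl fun g _ => by
      rw [Matrix.trace_mul_cycle, show mt (g : GL ι F)⁻¹ * mt (g : GL ι F) = 1 by
        rw [← Units.val_mul, inv_mul_cancel, Units.val_one], one_mul], Finset.sum_const, Finset.card_univ,
      nsmul_eq_mul, ← Nat.card_eq_fintype_card, D.card]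
  rw [hc, Matrix.trace_smul, D.trace_one, smul_eq_mul] at ht
  rw [hc, smul_smul]
  congr 1
  refine mul_right_cancel₀ D.four_ne ?_
  rw [ht]; push_cast; ring

/-- A permutation of prime order of a finite invariant subset of `R` by conjugation. -/
theorem Data.fixed_modEq {r : ℕ} [hr : Fact r.Prime] {y : GL ι F}
    (hy : y ∈ Subgroup.normalizer (R : Set (GL ι F))) (hyr : y ^ r = 1) (P : GL ι F → Prop)
    (hP : ∀ g ∈ R, P g → P (y * g * y⁻¹)) :
    Nat.card {g : R // P g ∧ y * g = g * y} ≡ Nat.card {g : R // P g} [MOD r] := by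
  classical
  have := D.finite
  have := Fintype.ofFinite {g : R // P g}
  let f : {g : R // P g} → {g : R // P g} := fun x =>
    ⟨⟨y * x.1 * y⁻¹, (Subgroup.mem_normalizer_iff.1 hy _).1 x.1.2⟩, hP _ x.1.2 x.2⟩
  have hf : Function.Injective f := fun a b h => by
    have h' := congrArg (fun x : {g : R // P g} => (x.1 : GL ι F)) h
    exact Subtype.ext (Subtype.ext (by simpa [f] using h'))
  let σ : Equiv.Perm {g : R // P g} := Equiv.ofBijective f (Finite.injective_iff_bijective.1 hf)
  have hσ : σ ^ r = 1 := by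
    have h : ∀ (n : ℕ) (x : {g : R // P g}),
        (((σ ^ n) x).1 : GL ι F) = y ^ n * x.1 * (y ^ n)⁻¹ := fun n x => by
      induction n with
      | zero => simp
      | succ n ih =>
        rw [pow_succ', Equiv.Perm.mul_apply]
        show y * (((σ ^ n) x).1 : GL ι F) * y⁻¹ = _
        rw [ih, pow_succ', _root_.mul_inv_rev]; simp [mul_assoc]
    refine Equiv.ext fun x => Subtype.ext (Subtype.ext ?_)
    rw [h, hyr]; simp
  have hmod := Equiv.Perm.card_compl_support_modEq (p := r) (n := 1) (σ := σ) (by rw [pow_one]; exact hσ)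
  have hC : Nat.card {g : R // P g ∧ y * g = g * y} = (σ.support)ᶜ.card := by
    rw [← Nat.card_congr (Equiv.subtypeSubtypeEquivSubtypeInter (fun g : R => P g) fun g => y * g = g * y),
      Nat.card_eq_fintype_card, Fintype.card_subtype]
    congr 1
    ext x
    simp only [Finset.mem_compl, Equiv.Perm.notMem_support, Finset.mem_filter, Finset.mem_univ, true_and]
    show y * x.1 = x.1 * y ↔ f x = x
    rw [Subtype.ext_iff, Subtype.ext_iff, ← mul_inv_eq_iff_eq_mul]
  rw [hC, Nat.card_eq_fintype_card]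
  exact hmod

omit D in
/-- The centralizer of `y` in `R`. -/
def cent (R : Subgroup (GL ι F)) (y : GL ι F) : Subgroup R :=
  (Subgroup.centralizer ({y} : Set (GL ι F))).subgroupOf R

omit D in
theorem mem_cent {y : GL ι F} {g : R} : g ∈ cent R y ↔ y * g = g * y := by
  simp [cent, Subgroup.mem_subgroupOf, Subgroup.mem_centralizer_singleton_iff, eq_comm]

theorem Data.center_le_cent (y : GL ι F) : Subgroup.center R ≤ cent R y := fun g hg => by
  rw [mem_cent]; exact (((mem_center_iff D.irr g).1 hg).commute y).symm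

theorem Data.cent_card (y : GL ι F) : ∃ k ≤ 4, Nat.card (cent R y) = z * 2 ^ k := by
  have := D.finite
  obtain ⟨m, hm⟩ : z ∣ Nat.card (cent R y) := D.center ▸ Subgroup.card_dvd_of_le (D.center_le_cent y)
  have h2 : z * m ∣ z * 2 ^ 4 := by
    rw [← hm, show z * 2 ^ 4 = Nat.card R by rw [D.card]; ring]
    exact Subgroup.card_subgroup_dvd_card _
  obtain ⟨k, hk, rfl⟩ := (Nat.dvd_prime_pow Nat.prime_two).1 (Nat.dvd_of_mul_dvd_mul_left D.pos h2)
  exact ⟨k, hk, hm⟩

theorem Data.sc_of_cent_top {y : GL ι F} (h : Nat.card (cent R y) = z * 2 ^ 4) : Sc y := by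
  have := D.finite
  have htop : cent R y = ⊤ := Subgroup.eq_top_of_card_eq _ (by rw [h, D.card]; ring)
  exact D.sc_of_commute fun g hg => mem_cent.1 (htop ▸ Subgroup.mem_top (⟨g, hg⟩ : R))

/-- The product of the traces of an element of odd prime order of the normalizer and of its inverse. -/
theorem Data.trace_mul_trace {r : ℕ} [hr : Fact r.Prime] (hr2 : r ≠ 2) {y : GL ι F}
    (hy : y ∈ Subgroup.normalizer (R : Set (GL ι F))) (hyr : y ^ r = 1) :
    (z : F) * ((mt y).trace * (mt y⁻¹).trace) = (Nat.card (cent R y) : F) := by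
  classical
  have := D.finite
  have := Fintype.ofFinite R
  have := D.nonempty
  have h1 : ∑ g : R, (mt y * (mt (g : GL ι F) * mt y⁻¹ * mt (g : GL ι F)⁻¹)).trace =
      ((4 * z : ℕ) : F) * ((mt y⁻¹).trace * (mt y).trace) := by
    rw [← Matrix.trace_sum, ← Finset.mul_sum, D.avg, mul_smul_comm, mul_smul_comm, mul_one, Matrix.trace_smul,
      Matrix.trace_smul, smul_eq_mul, smul_eq_mul]
  have h2 : ∀ g : R, (mt y * (mt (g : GL ι F) * mt y⁻¹ * mt (g : GL ι F)⁻¹)).trace =
      if g ∈ cent R y then 4 else 0 := by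
    intro g
    have e : mt y * (mt (g : GL ι F) * mt y⁻¹ * mt (g : GL ι F)⁻¹) = mt (y * (g : GL ι F) * y⁻¹ * (g : GL ι F)⁻¹) := by
      simp [mt, mul_assoc]
    rw [e]
    split_ifs with hg
    · rw [mem_cent] at hg
      rw [hg, mul_inv_cancel_right, mul_inv_cancel]
      exact D.trace_one
    · have hw : y * (g : GL ι F) * y⁻¹ * (g : GL ι F)⁻¹ ∈ R := R.mul_mem ((Subgroup.mem_normalizer_iff.1 hy _).1 g.2) (R.inv_mem g.2)
      refine D.trace_eq_zero hw fun hsc => hg (mem_cent.2 ?_)
      obtain ⟨c, hc⟩ := hsc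
      set w := y * (g : GL ι F) * y⁻¹ * (g : GL ι F)⁻¹ with hwdef
      have hwc : ∀ x : GL ι F, w * x = x * w := fun x => Sc.commute ⟨c, hc⟩ x
      have hk : ∀ n : ℕ, y ^ n * (g : GL ι F) * (y ^ n)⁻¹ = w ^ n * (g : GL ι F) := by
        intro n
        induction n with
        | zero => simp
        | succ n ih =>
          calc y ^ (n + 1) * g * (y ^ (n + 1))⁻¹ = y * (y ^ n * g * (y ^ n)⁻¹) * y⁻¹ := by
                rw [pow_succ', _root_.mul_inv_rev]; simp [mul_assoc]
            _ = y * w ^ n * g * y⁻¹ := by rw [ih]; simp [mul_assoc]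
            _ = w ^ n * (y * g * y⁻¹) := by
                rw [← ((Commute.pow_left (hwc y) n).eq)]; simp [mul_assoc]
            _ = w ^ (n + 1) * g := by rw [pow_succ, hwdef]; simp [mul_assoc]
      have hwr : w ^ r = 1 := by
        have := hk r
        rw [hyr, one_mul, inv_one, mul_one] at this
        exact mul_eq_right.1 this.symm
      have hw4 : w ^ 4 = 1 := by
        refine Units.ext ?_
        rw [Units.val_pow_eq_pow_val, Units.val_one, show (4 : ℕ) = 2 * 2 from rfl, pow_mul, pow_two, pow_two]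
        rcases D.sq w hw with e | e <;> rw [e] <;> simp
      have hw1 : w = 1 := by
        have hg' : Nat.gcd 4 r = 1 := by
          have h2r : Nat.Coprime 2 r := (Nat.coprime_primes Nat.prime_two hr.out).2 (Ne.symm hr2)
          exact Nat.Coprime.mul_left h2r h2r
        have := pow_gcd_eq_one.2 ⟨hw4, hwr⟩
        rwa [hg', pow_one] at this
      rw [hwdef, mul_inv_eq_one] at hw1
      exact (mul_inv_eq_iff_eq_mul.1 hw1)
  rw [Finset.sum_congr rfl fun g _ => h2 g, Finset.sum_ite, Finset.sum_const, Finset.sum_const_zero, add_zero,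
    nsmul_eq_mul, ← Fintype.card_subtype, ← Nat.card_eq_fintype_card] at h1
  refine mul_left_cancel₀ D.four_ne ?_
  calc (4 : F) * ((z : F) * ((mt y).trace * (mt y⁻¹).trace))
      = ((4 * z : ℕ) : F) * ((mt y⁻¹).trace * (mt y).trace) := by push_cast; ring
    _ = _ := by rw [← h1, mul_comm]

/-- Prime order at least 5: scalar, or order 5 acting with only central fixed points. -/
theorem Data.cases_large {r : ℕ} [hr : Fact r.Prime] (h5 : 5 ≤ r) {y : GL ι F}
    (hy : y ∈ Subgroup.normalizer (R : Set (GL ι F))) (hyr : y ^ r = 1) (hz : z = 2 ∨ z = 4) :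
    Sc y ∨ (r = 5 ∧ Nat.card (cent R y) = z) := by
  classical
  have := D.finite
  have := D.nonempty
  obtain ⟨k, hk4, hk⟩ := D.cent_card y
  have hm : Nat.card (cent R y) ≡ Nat.card R [MOD r] := by
    have h := D.fixed_modEq hy hyr (fun _ => True) (fun _ _ _ => trivial)
    have e1 : Nat.card {g : R // True ∧ y * (g : GL ι F) = g * y} = Nat.card (cent R y) :=
      Nat.card_congr (Equiv.subtypeEquivRight fun g => by rw [mem_cent]; simp)
    rwa [e1, Nat.card_congr (Equiv.subtypeUnivEquiv (α := R) (p := fun _ => True) fun _ => trivial)] at h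
  rw [hk, D.card] at hm
  have hd := (Nat.modEq_iff_dvd' (by
    calc z * 2 ^ k ≤ z * 2 ^ 4 := Nat.mul_le_mul_left _ (Nat.pow_le_pow_right (by norm_num) hk4)
      _ = 16 * z := by ring)).1 hm
  have hdec : ∀ m : ℕ, m ∣ 2 ^ 5 * 3 * 5 * 7 → r ∣ m → r = 5 ∨ r = 7 := by
    intro m hm hdm
    have h := hdm.trans hm
    rcases hr.out.dvd_mul.1 h with h | h
    · rcases hr.out.dvd_mul.1 h with h | h
      · rcases hr.out.dvd_mul.1 h with h | h
        · have := Nat.le_of_dvd two_pos (hr.out.dvd_of_dvd_pow h); omega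
        · have := Nat.le_of_dvd (by norm_num) h; omega
      · exact Or.inl ((Nat.prime_dvd_prime_iff_eq hr.out (by norm_num)).1 h)
    · exact Or.inr ((Nat.prime_dvd_prime_iff_eq hr.out (by norm_num)).1 h)
  rcases (show k = 4 ∨ k = 0 ∨ k = 1 ∨ k = 2 ∨ k = 3 by omega) with rfl | rfl | rfl | rfl | rfl
  · exact Or.inl (D.sc_of_cent_top hk)
  · right
    refine ⟨?_, by rw [hk]; ring⟩
    rcases hz with rfl | rfl <;> norm_num at hd <;> rcases hdec _ (by norm_num) hd with h | h
    all_goals first
      | exact h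
      | (subst h; norm_num at hd)
  · -- one non-central fixed point `u`; use its centralizer
    exfalso
    have hr7 : r = 7 := by
      rcases hz with rfl | rfl <;> norm_num at hd <;> rcases hdec _ (by norm_num) hd with h | h
      all_goals first
        | exact h
        | (subst h; norm_num at hd)
    obtain ⟨u, hu, huz⟩ : ∃ u : R, u ∈ cent R y ∧ u ∉ Subgroup.center R := by
      by_contra hno
      push Not at hno
      have := Subgroup.card_le_of_le (show cent R y ≤ Subgroup.center R from hno)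
      rw [hk, D.center] at this
      have := D.pos
      omega
    have huy := mem_cent.1 hu
    have huns : ¬ Sc (u : GL ι F) := fun h => huz ((mem_center_iff D.irr u).2 h)
    obtain ⟨h, hh, hanti⟩ := D.exists_anti u.2 huns
    let P : GL ι F → Prop := fun g => g * (u : GL ι F) = u * g
    have hhalf : Nat.card {g : R // P g} = 8 * z := by
      have e : {g : R // P g} ≃ {g : R // ¬ P g} :=
        { toFun := fun g => ⟨⟨h, hh⟩ * g.1, fun hP => by
            refine hanti.not_commute D.two ?_
            have e1 : (h * (g.1 : GL ι F)) * u = u * (h * g.1) := hP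
            rw [mul_assoc, show (g.1 : GL ι F) * u = u * g.1 from g.2, ← mul_assoc, ← mul_assoc] at e1
            exact (mul_right_cancel e1).symm⟩
          invFun := fun g => ⟨⟨h, hh⟩⁻¹ * g.1, by
            show (h⁻¹ * (g.1 : GL ι F)) * u = u * (h⁻¹ * g.1)
            refine Units.ext ?_
            have hg2 : Anti (g.1 : GL ι F) u := (D.sgn _ g.1.2 _ u.2).resolve_left g.2
            have hh2 : mt h⁻¹ * mt (u : GL ι F) = -(mt (u : GL ι F) * mt h⁻¹) := by
              have e0 : mt h * mt h⁻¹ = 1 := by rw [← Units.val_mul, mul_inv_cancel, Units.val_one]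
              have e0' : mt h⁻¹ * mt h = 1 := by rw [← Units.val_mul, inv_mul_cancel, Units.val_one]
              calc mt h⁻¹ * mt (u : GL ι F) = mt h⁻¹ * (mt (u : GL ι F) * mt h) * mt h⁻¹ := by
                    rw [mul_assoc, mul_assoc, e0, mul_one]
                _ = _ := by
                    rw [show mt (u : GL ι F) * mt h = -(mt h * mt (u : GL ι F)) from hanti]
                    simp only [mul_neg, neg_mul, ← mul_assoc, e0', one_mul]
            show mt h⁻¹ * mt (g.1 : GL ι F) * mt (u : GL ι F) = mt (u : GL ι F) * (mt h⁻¹ * mt (g.1 : GL ι F))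
            rw [mul_assoc, show mt (g.1 : GL ι F) * mt (u : GL ι F) = _ from hg2, mul_neg, ← mul_assoc, hh2,
              neg_mul, neg_neg, mul_assoc]⟩
          left_inv := fun g => Subtype.ext (by simp)
          right_inv := fun g => Subtype.ext (by simp) }
      have hs := Nat.card_congr (Equiv.sumCompl fun g : R => P g)
      rw [Nat.card_sum, ← Nat.card_congr e, D.card] at hs
      omega
    have hsub : ∀ g : R, y * (g : GL ι F) = g * y → P g := by
      intro g hg
      let C := cent R y
      have hi : (Subgroup.center R).relIndex C = 2 := by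
        have := Subgroup.relIndex_mul_relIndex ⊥ (Subgroup.center R) C bot_le (D.center_le_cent y)
        rw [Subgroup.relIndex_bot_left, Subgroup.relIndex_bot_left, D.center, hk, pow_one] at this
        exact Nat.eq_of_mul_eq_mul_left D.pos this
      have hgC : g ∈ C := mem_cent.2 hg
      by_cases hgz : g ∈ Subgroup.center R
      · exact ((mem_center_iff D.irr g).1 hgz).commute _
      · have h3 := Subgroup.mul_mem_iff_of_index_two (H := (Subgroup.center R).subgroupOf C) hi
          (a := ⟨u, hu⟩) (b := ⟨g, hgC⟩)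
        simp only [Subgroup.mem_subgroupOf, Subgroup.coe_mul, huz, hgz, iff_true] at h3
        have h4 := ((mem_center_iff D.irr _).1 h3).commute (u : GL ι F)
        simp only [Subgroup.coe_mul] at h4
        show (g : GL ι F) * u = u * g
        exact mul_left_cancel (h4.symm.trans (mul_assoc _ _ _)).symm
    have hm2 := D.fixed_modEq hy hyr P (fun g _ hg => by
      show (y * g * y⁻¹) * (u : GL ι F) = u * (y * g * y⁻¹)
      have e : y⁻¹ * (u : GL ι F) = u * y⁻¹ := (Commute.inv_left (show Commute y (u : GL ι F) from huy)).eq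
      rw [mul_assoc _ y⁻¹, e, ← mul_assoc, mul_assoc y g, show g * (u : GL ι F) = u * g from hg, ← mul_assoc, huy]
      simp [mul_assoc])
    have e1 : Nat.card {g : R // P g ∧ y * (g : GL ι F) = g * y} = Nat.card (cent R y) :=
      Nat.card_congr (Equiv.subtypeEquivRight fun g => by rw [mem_cent]; exact ⟨fun h => h.2, fun h => ⟨hsub g h, h⟩⟩)
    rw [e1, hhalf, hk, hr7] at hm2
    rcases hz with rfl | rfl <;> revert hm2 <;> decide
  all_goals
    exfalso
    rcases hz with rfl | rfl <;> norm_num at hd <;> rcases hdec _ (by norm_num) hd with h | h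
    all_goals first
      | (subst h; norm_num at hd)

/-- Order 3: scalar, or the fixed points are the centre or four times it. -/
theorem Data.cases_three {y : GL ι F}
    (hy : y ∈ Subgroup.normalizer (R : Set (GL ι F))) (hyr : y ^ 3 = 1) (hz : z = 2 ∨ z = 4) :
    Sc y ∨ Nat.card (cent R y) = z ∨ Nat.card (cent R y) = 4 * z := by
  classical
  have := D.finite
  have : Fact (Nat.Prime 3) := ⟨by norm_num⟩
  obtain ⟨k, hk4, hk⟩ := D.cent_card y
  have hm : Nat.card (cent R y) ≡ Nat.card R [MOD 3] := by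
    have h := D.fixed_modEq hy hyr (fun _ => True) (fun _ _ _ => trivial)
    have e1 : Nat.card {g : R // True ∧ y * (g : GL ι F) = g * y} = Nat.card (cent R y) :=
      Nat.card_congr (Equiv.subtypeEquivRight fun g => by rw [mem_cent]; simp)
    rwa [e1, Nat.card_congr (Equiv.subtypeUnivEquiv (α := R) (p := fun _ => True) fun _ => trivial)] at h
  rw [hk, D.card] at hm
  rcases (show k = 4 ∨ k = 0 ∨ k = 1 ∨ k = 2 ∨ k = 3 by omega) with rfl | rfl | rfl | rfl | rfl
  · exact Or.inl (D.sc_of_cent_top hk)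
  · exact Or.inr (Or.inl (by rw [hk]; ring))
  · exfalso; rcases hz with rfl | rfl <;> revert hm <;> decide
  · exact Or.inr (Or.inr (by rw [hk]; ring))
  · exfalso; rcases hz with rfl | rfl <;> revert hm <;> decide

/-- A transvection of odd prime order of the normalizer is scalar. -/
theorem Data.sc_of_transvection {r : ℕ} [hr : Fact r.Prime] (hr2 : r ≠ 2) {y : GL ι F}
    (hy : y ∈ Subgroup.normalizer (R : Set (GL ι F))) (hyr : y ^ r = 1)
    {n : Matrix ι ι F} (hyn : mt y = 1 + n) (hn : n * n = 0) (hrk : ∀ M, n * M * n = (n * M).trace • n) :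
    Sc y := by
  classical
  have := D.nonempty
  have := D.finite
  have hinv : mt y⁻¹ = 1 - n := by
    calc mt y⁻¹ = mt y⁻¹ * (mt y * (1 - n)) := by
          rw [hyn, add_mul, one_mul, mul_sub, mul_one, hn, sub_zero, sub_add_cancel, mul_one]
      _ = _ := by rw [← mul_assoc, ← Units.val_mul, inv_mul_cancel, Units.val_one, one_mul]
  have hconj : ∀ j g, g ∈ R → Sc (y ^ j * g * (y ^ j)⁻¹ * g⁻¹) → y ^ j * g = g * y ^ j := by
    intro j g hg hsc
    set c := y ^ j * g * (y ^ j)⁻¹ * g⁻¹ with hc
    have hcs : ∀ m : ℕ, (y ^ j) ^ m * g * ((y ^ j) ^ m)⁻¹ = c ^ m * g := by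
      intro m
      induction m with
      | zero => simp
      | succ m ih =>
        calc (y ^ j) ^ (m + 1) * g * ((y ^ j) ^ (m + 1))⁻¹
            = y ^ j * ((y ^ j) ^ m * g * ((y ^ j) ^ m)⁻¹) * (y ^ j)⁻¹ := by
              rw [pow_succ', _root_.mul_inv_rev]; simp [mul_assoc]
          _ = y ^ j * c ^ m * g * (y ^ j)⁻¹ := by rw [ih]; simp [mul_assoc]
          _ = c ^ m * (y ^ j * g * (y ^ j)⁻¹) := by
              rw [← ((Commute.pow_left (hsc.commute (y ^ j)) m).eq)]; simp [mul_assoc]
          _ = c ^ (m + 1) * g := by rw [pow_succ, hc]; simp [mul_assoc]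
    have hcr : c ^ r = 1 := by
      have := hcs r
      rw [← pow_mul, mul_comm j r, pow_mul, hyr, one_pow, one_mul, inv_one, mul_one] at this
      exact mul_eq_right.1 this.symm
    have hc4 : c ^ 4 = 1 := by
      refine Units.ext ?_
      rw [Units.val_pow_eq_pow_val, Units.val_one, show (4 : ℕ) = 2 * 2 from rfl, pow_mul, pow_two, pow_two]
      rcases D.sq c (R.mul_mem ((Subgroup.mem_normalizer_iff.1 (pow_mem hy j) _).1 hg) (R.inv_mem hg)) with e | e <;>
        rw [e] <;> simp
    have hc1 : c = 1 := by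
      have hg' : Nat.gcd 4 r = 1 := by
        have h2r : Nat.Coprime 2 r := (Nat.coprime_primes Nat.prime_two hr.out).2 (Ne.symm hr2)
        exact Nat.Coprime.mul_left h2r h2r
      have := pow_gcd_eq_one.2 ⟨hc4, hcr⟩
      rwa [hg', pow_one] at this
    rw [hc, mul_inv_eq_one] at hc1
    exact mul_inv_eq_iff_eq_mul.1 hc1
  let t : GL ι F → F := fun g => (n * mt g).trace
  let moved : GL ι F → Prop := fun g => y * g ≠ g * y
  have hG : ∀ g : GL ι F, mt (y * g * y⁻¹) = mt g + (n * mt g - mt g * n) - t g • n := fun g => by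
    show mt y * mt g * mt y⁻¹ = _
    rw [hyn, hinv, ← hrk]; simp only [add_mul, mul_sub, one_mul, mul_one]; abel
  have htr : ∀ g ∈ R, moved g → t g * t g⁻¹ = -2 := by
    intro g hg hm
    have h1 : (mt (y * g * y⁻¹) * mt g⁻¹).trace = 0 := by
      refine D.trace_eq_zero (g := y * g * y⁻¹ * g⁻¹)
        (R.mul_mem ((Subgroup.mem_normalizer_iff.1 hy _).1 hg) (R.inv_mem hg)) fun hsc => hm ?_
      simpa using hconj 1 g hg (by simpa using hsc)
    have h2 : (mt (y * (y * g * y⁻¹) * y⁻¹) * mt g⁻¹).trace = 0 := by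
      refine D.trace_eq_zero (g := y * (y * g * y⁻¹) * y⁻¹ * g⁻¹)
        (R.mul_mem ((Subgroup.mem_normalizer_iff.1 hy _).1 ((Subgroup.mem_normalizer_iff.1 hy _).1 hg)) (R.inv_mem hg))
        fun hsc => hm ?_
      have h := hconj 2 g hg (by simpa [pow_two, mul_assoc] using hsc)
      obtain ⟨m, hm'⟩ := (Nat.Prime.odd_of_ne_two hr.out hr2)
      have e : y = (y ^ 2) ^ (m + 1) := by
        rw [← pow_mul, show 2 * (m + 1) = r + 1 by omega, pow_succ, hyr, one_mul]
      rw [e]
      exact ((show Commute (y ^ 2) g from h).pow_left (m + 1)).eq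
    have e0 : mt g * mt g⁻¹ = 1 := by rw [← Units.val_mul, mul_inv_cancel, Units.val_one]
    have e : mt (y * (y * g * y⁻¹) * y⁻¹) - (2 : F) • mt (y * g * y⁻¹) + mt g = (-2 * t g) • n := by
      have h3 : mt (y * (y * g * y⁻¹) * y⁻¹) = (1 + n) * mt (y * g * y⁻¹) * (1 - n) := by rw [← hyn, ← hinv]; rfl
      rw [h3, hG]
      simp only [add_mul, mul_add, mul_sub, sub_mul, one_mul, mul_one, smul_mul_assoc, mul_smul_comm, ← mul_assoc, hn,
        zero_mul, smul_zero]
      simp only [mul_assoc, hn, mul_zero, smul_zero, sub_zero, zero_sub, add_zero]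
      rw [← mul_assoc, hrk]
      module
    have h3 := congrArg (fun M => (M * mt g⁻¹).trace) e
    simp only [sub_mul, add_mul, smul_mul_assoc, Matrix.trace_sub, Matrix.trace_add, Matrix.trace_smul, h1, h2, e0,
      D.trace_one, smul_eq_mul, mul_zero, sub_zero, zero_add] at h3
    refine mul_left_cancel₀ D.two ?_
    show (2 : F) * ((n * mt g).trace * (n * mt g⁻¹).trace) = _
    simp only [t] at h3
    linear_combination h3
  have ht0 : ∀ g ∈ R, moved g → t g ≠ 0 ∧ t g⁻¹ ≠ 0 := fun g hg hm => by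
    refine mul_ne_zero_iff.1 ?_
    rw [htr g hg hm]; exact neg_ne_zero.2 D.two
  refine D.sc_of_commute fun x hx => ?_
  by_contra hxm
  -- fixed elements commute with moved ones, hence are scalar
  have hfix : ∀ h ∈ R, y * h = h * y → Sc h := by
    intro h hh hf
    have key : ∀ g ∈ R, moved g → h * g = g * h := by
      intro g hg hm
      refine (D.sgn h hh g hg).resolve_right fun ha => ?_
      have hgh : moved (g * h) := fun e => hm (mul_right_cancel (b := h) (by
        rw [mul_assoc, e, mul_assoc, ← hf, mul_assoc]))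
      refine (ht0 _ (R.mul_mem hg hh) hgh).1 ?_
      have hhn : n * mt h = mt h * n := by
        have := cmv hf
        rw [hyn, add_mul, one_mul, mul_add, mul_one] at this
        exact add_left_cancel this
      have e : t (g * h) = -t (g * h) := by
        show (n * (mt g * mt h)).trace = -(n * (mt g * mt h)).trace
        conv_lhs => rw [← mul_assoc, Matrix.trace_mul_comm, ← mul_assoc, ← hhn, mul_assoc,
          show mt h * mt g = _ from ha, mul_neg, Matrix.trace_neg]
      exact (mul_eq_zero.1 (show (2 : F) * t (g * h) = 0 by linear_combination e)).resolve_left D.two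
    refine D.sc_of_commute fun g hg => ?_
    by_cases hm : moved g
    · exact key g hg hm
    · have hgx : moved (g * x) := fun e => hxm (mul_left_cancel (a := g) (by
        rw [← mul_assoc, ← not_not.1 hm, mul_assoc, e, mul_assoc]))
      have h1 := key _ (R.mul_mem hg hx) hgx
      have h2 := key x hx hxm
      refine mul_right_cancel (b := x) ?_
      rw [mul_assoc, h1, mul_assoc g h x, h2, mul_assoc]
  have hmov : ∀ g ∈ R, ¬ Sc g → moved g := fun g hg hns e => hns (hfix g hg e)
  -- two elements `h`, `h * x` commuting with `x` both give the image of `x`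
  obtain ⟨a, ha, hxa⟩ := D.exists_anti hx (fun hsc => hxm (hsc.commute y).symm)
  obtain ⟨h, hh, hhx, hhns, hhxns⟩ : ∃ h ∈ R, h * x = x * h ∧ ¬ Sc h ∧ ¬ Sc (h * x) := by
    by_contra hno
    push Not at hno
    let T : Subgroup.center R × Bool × Bool → R := fun p =>
      (p.1 : R) * (if p.2.2 then (⟨x, hx⟩ : R)⁻¹ else 1) * (if p.2.1 then (⟨a, ha⟩ : R)⁻¹ else 1)
    have hT : Function.Surjective T := by
      intro v
      obtain ⟨ε, hε⟩ : ∃ ε : Bool, ((v : GL ι F) * if ε then a else 1) * x = x * ((v : GL ι F) * if ε then a else 1) := by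
        rcases D.sgn v v.2 x hx with h | h
        · exact ⟨false, by simpa using h⟩
        · refine ⟨true, Units.ext ?_⟩
          show mt (v : GL ι F) * mt a * mt x = mt x * (mt (v : GL ι F) * mt a)
          rw [mul_assoc, show mt a * mt x = _ from hxa.symm, mul_neg, ← mul_assoc,
            show mt (v : GL ι F) * mt x = _ from h, neg_mul, neg_neg, mul_assoc]
      set u := (v : GL ι F) * if ε then a else 1 with hu
      have huR : u ∈ R := R.mul_mem v.2 (by split_ifs; exacts [ha, R.one_mem])
      obtain ⟨δ, hδ⟩ : ∃ δ : Bool, Sc (u * if δ then x else 1) := by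
        by_cases hsc : Sc u
        · exact ⟨false, by simpa using hsc⟩
        · exact ⟨true, by simpa using hno u huR hε hsc⟩
      refine ⟨(⟨⟨_, R.mul_mem huR (by split_ifs; exacts [hx, R.one_mem])⟩, (mem_center_iff D.irr _).2 hδ⟩, ε, δ),
        Subtype.ext ?_⟩
      simp only [T, hu]
      cases ε <;> cases δ <;> simp
    have h := Nat.card_le_card_of_surjective T hT
    rw [Nat.card_prod, Nat.card_prod, D.center, D.card, Nat.card_eq_fintype_card (α := Bool), Fintype.card_bool] at h
    have := D.pos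
    omega
  have him : ∀ k ∈ R, k * x = x * k → ¬ Sc k → ¬ Sc (x * k⁻¹) → Sc (y * x * y⁻¹ * k⁻¹) := by
    intro k hk hkx hkns hxk
    by_contra hns
    have h1 := D.trace_eq_zero (R.mul_mem ((Subgroup.mem_normalizer_iff.1 hy _).1 hx) (R.inv_mem hk)) hns
    have h2 := D.trace_eq_zero (R.mul_mem hx (R.inv_mem hk)) hxk
    change (mt (y * x * y⁻¹) * mt k⁻¹).trace = 0 at h1
    change (mt x * mt k⁻¹).trace = 0 at h2
    rw [hG, sub_mul, add_mul, sub_mul, Matrix.trace_sub, Matrix.trace_add, Matrix.trace_sub, h2, smul_mul_assoc,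
      Matrix.trace_smul, Matrix.trace_mul_cycle (mt x) n,
      show mt k⁻¹ * mt x * n = mt x * mt k⁻¹ * n by
        rw [cmv ((show Commute k x from hkx).inv_left.eq)],
      Matrix.trace_mul_comm _ n, mul_assoc, sub_self, add_zero, zero_sub, neg_eq_zero] at h1
    rcases mul_eq_zero.1 h1 with h | h
    · exact (ht0 x hx hxm).1 h
    · exact (ht0 k hk (hmov k hk hkns)).2 h
  have hk1 : ¬ Sc (x * h⁻¹) := fun ⟨c, hc⟩ => hhxns <| by
    have e : x = (x * h⁻¹) * h := by group
    obtain ⟨s, hs⟩ : Sc (h * h) := by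
      rcases D.sq h hh with e | e
      · exact ⟨1, by rw [one_smul]; exact e⟩
      · exact ⟨-1, by rw [neg_one_smul]; exact e⟩
    refine ⟨c * s, ?_⟩
    have e2 : h * x = (x * h⁻¹) * (h * h) := by rw [hhx]; group
    rw [e2]
    show mt (x * h⁻¹) * mt (h * h) = _
    rw [hc, hs, smul_mul_smul_comm, one_mul]
  have hk2 : ¬ Sc (x * (h * x)⁻¹) := fun hsc => hhns <| by
    rw [show x * (h * x)⁻¹ = h⁻¹ by group] at hsc
    obtain ⟨d, hd⟩ := hsc
    have hd0 : d ≠ 0 := fun h0 => h⁻¹.isUnit.ne_zero (by show mt h⁻¹ = 0; rw [hd, h0, zero_smul])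
    refine ⟨d⁻¹, ?_⟩
    calc mt h = d⁻¹ • (mt h * (d • (1 : Matrix ι ι F))) := by simp [smul_smul, hd0]
      _ = _ := by rw [← hd, ← Units.val_mul, mul_inv_cancel, Units.val_one]
  obtain ⟨c, hc⟩ := him h hh hhx hhns hk1
  obtain ⟨c', hc'⟩ := him (h * x) (R.mul_mem hh hx) (by rw [mul_assoc, ← mul_assoc x, ← hhx]; rw [mul_assoc]) hhxns hk2
  refine hxm (Sc.commute ⟨c'⁻¹ * c, ?_⟩ y).symm
  have hc0 : c' ≠ 0 := fun h0 => (y * x * y⁻¹ * (h * x)⁻¹).isUnit.ne_zero (by
    show mt (y * x * y⁻¹ * (h * x)⁻¹) = 0; rw [hc', h0, zero_smul])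
  have e : (y * x * y⁻¹ * h⁻¹) = (y * x * y⁻¹ * (h * x)⁻¹) * (h * x * h⁻¹) := by group
  rw [show h * x * h⁻¹ = x by rw [hhx, mul_inv_cancel_right]] at e
  have e' := congrArg mt e
  rw [hc, show mt (y * x * y⁻¹ * (h * x)⁻¹ * x) = mt (y * x * y⁻¹ * (h * x)⁻¹) * mt x from rfl, hc',
    smul_mul_assoc, one_mul] at e'
  rw [mul_smul, e', smul_smul, inv_mul_cancel₀ hc0, one_smul]

end CfsgLib.PrimeElusive.SymplType
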