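import Cfsg.Prelude.Def_GeometricClasses
import Cfsg.Agent.Lib.PrimeClasses.SplitRoots
import Cfsg.Agent.Lib.Maximal99.OrderR

/-!
Tools for elements of prime order and similitude groups of forms: indices, conjugation inside `SL(n)` of
diagonalisable elements, and the combinatorics of multiplicities of `r`-th roots of unity.
-/

set_option autoImplicit false

namespace CfsgLib.PrimeElusive.FormTests

open Matrix

section Groups

/-- If `O ≤ H` has at least the `r`-part of `K`, and its `r`-elements lie in `K`, then `r` does not divide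
the index of `H` in `K`. -/
theorem not_dvd_relIndex {G : Type*} [Group G] [Finite G] {r : ℕ} [hr : Fact r.Prime] {H K O : Subgroup G}
    (hOH : O ≤ H) (hK : ∀ g ∈ O, ∀ m : ℕ, g ^ r ^ m = 1 → g ∈ K)
    (hv : padicValNat r (Nat.card K) ≤ padicValNat r (Nat.card O)) : ¬ r ∣ H.relIndex K := by
  intro hd
  obtain ⟨P, hP⟩ := Sylow.exists_subgroup_card_pow_prime (G := O) r
    (n := padicValNat r (Nat.card O)) pow_padicValNat_dvd
  have hle : P.map O.subtype ≤ H ⊓ K := by
    rintro _ ⟨g, hg, rfl⟩
    refine ⟨hOH g.2, hK _ g.2 (padicValNat r (Nat.card O)) ?_⟩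
    have h1 : g ^ r ^ padicValNat r (Nat.card O) = 1 := by
      have h2 : (⟨g, hg⟩ : P) ^ Nat.card P = 1 := pow_card_eq_one'
      rw [hP] at h2
      exact congrArg Subtype.val h2
    exact congrArg Subtype.val h1
  have h1 : r ^ padicValNat r (Nat.card O) ∣ Nat.card ↥(H ⊓ K) := by
    rw [← hP, Nat.card_congr (P.equivMapOfInjective O.subtype O.subtype_injective).toEquiv]
    exact Subgroup.card_dvd_of_le hle
  have h2 : Nat.card ↥(H ⊓ K) * H.relIndex K = Nat.card K := by
    rw [← Subgroup.relIndex_bot_left, ← Subgroup.relIndex_bot_left, ← Subgroup.inf_relIndex_right H K]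
    exact Subgroup.relIndex_mul_relIndex _ _ _ bot_le inf_le_right
  have h3 : r ^ (padicValNat r (Nat.card O) + 1) ∣ Nat.card K := by
    rw [pow_succ, ← h2]
    exact Nat.mul_dvd_mul h1 hd
  have h4 := (padicValNat_dvd_iff_le (Nat.card_pos.ne' : Nat.card K ≠ 0)).1 h3
  omega

variable {F : Type*} [Field F]

/-- A diagonalisable element is conjugate inside `SL(n)` into every group containing a conjugate of its
diagonal form. -/
theorem exists_sl_of_diag {ι : Type} [Fintype ι] [DecidableEq ι] [Nonempty ι] (H : Subgroup (GL ι F))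
    (x g E D : GL ι F) (d : ι → F) (hD : (D : Matrix ι ι F) = Matrix.diagonal d) (hxg : x * g = g * D)
    (hH : E * D * E⁻¹ ∈ H) : ∃ k ∈ Cfsg.Geo.specialLinear ι F, k⁻¹ * x * k ∈ H := by
  classical
  obtain ⟨i₀⟩ := ‹Nonempty ι›
  set a : Fˣ := (Matrix.GeneralLinearGroup.det g)⁻¹ * Matrix.GeneralLinearGroup.det E with ha
  let c : ι → F := fun i => if i = i₀ then (a : F) else 1
  let c' : ι → F := fun i => if i = i₀ then ((a⁻¹ : Fˣ) : F) else 1
  let C : GL ι F := ⟨Matrix.diagonal c, Matrix.diagonal c',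
    by rw [Matrix.diagonal_mul_diagonal, ← Matrix.diagonal_one]
       congr 1; funext i; simp only [c, c']; split_ifs <;> simp,
    by rw [Matrix.diagonal_mul_diagonal, ← Matrix.diagonal_one]
       congr 1; funext i; simp only [c, c']; split_ifs <;> simp⟩
  have hC : Matrix.GeneralLinearGroup.det C = a := Units.ext (by
    show (Matrix.diagonal c).det = a
    rw [Matrix.det_diagonal, Finset.prod_eq_single i₀ (fun j _ hj => by simp [c, hj]) (by simp)]
    simp [c])
  have hCD : D * C = C * D := Units.ext (by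
    show (D : Matrix ι ι F) * Matrix.diagonal c = Matrix.diagonal c * D
    rw [hD, Matrix.diagonal_mul_diagonal, Matrix.diagonal_mul_diagonal]
    congr 1; funext i; ring)
  refine ⟨g * C * E⁻¹, MonoidHom.mem_ker.2 ?_, ?_⟩
  · rw [map_mul, map_mul, map_inv, hC, ha]
    group
  · have : (g * C * E⁻¹)⁻¹ * x * (g * C * E⁻¹) = E * (C⁻¹ * (g⁻¹ * (x * g)) * C) * E⁻¹ := by group
    rw [this, hxg, inv_mul_cancel_left, mul_assoc C⁻¹ D C, hCD, inv_mul_cancel_left]
    exact hH

variable [Fintype F]

theorem eq_one_of_pow_eq_one {r q : ℕ} (hr : r.Prime) (hq : Fintype.card F = q) (h : ¬ r ∣ q - 1) {c : F}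
    {m : ℕ} (hc : c ^ r ^ m = 1) : c = 1 := by
  have h0 : c ≠ 0 := fun e => by
    rw [e, zero_pow (pow_ne_zero _ hr.ne_zero)] at hc; exact zero_ne_one hc
  have h2 : c ^ (q - 1) = 1 := hq ▸ FiniteField.pow_card_sub_one_eq_one _ h0
  have := pow_gcd_eq_one.2 ⟨hc, h2⟩
  rwa [((hr.coprime_iff_not_dvd.2 h).pow_left m).gcd_eq_one, pow_one] at this

theorem mem_specialLinear_of_pow {ι : Type} [Fintype ι] [DecidableEq ι] {r q : ℕ} (hr : r.Prime)
    (hq : Fintype.card F = q) (h : ¬ r ∣ q - 1) {g : GL ι F} {m : ℕ} (hg : g ^ r ^ m = 1) :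
    g ∈ Cfsg.Geo.specialLinear ι F := by
  refine MonoidHom.mem_ker.2 (Units.ext ?_)
  refine eq_one_of_pow_eq_one hr hq h (m := m) ?_
  rw [← Units.val_pow_eq_pow_val, ← map_pow, hg, map_one, Units.val_one]

end Groups

/-- The `r`-part of `|GL(n, q)|` only sees the multiples of the order of `q` modulo `r`. -/
theorem val_card_GL {F : Type*} [Field F] [Fintype F] {r q : ℕ} [Fact r.Prime] (hq : Fintype.card F = q)
    (hrq : ¬ r ∣ q) (n : ℕ) :
    padicValNat r (Nat.card (GL (Fin n) F)) =
      ∑ M ∈ Finset.range (n / orderOf (q : ZMod r)), padicValNat r (q ^ (orderOf (q : ZMod r) * (M + 1)) - 1) := by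
  classical
  have hq1 : 2 ≤ q := by rw [← hq]; exact Fintype.one_lt_card
  have hpow : ∀ j, padicValNat r (q ^ j) = 0 := fun j =>
    padicValNat.eq_zero_of_not_dvd fun h => hrq ((Fact.out : r.Prime).dvd_of_dvd_pow h)
  rw [Matrix.card_GL_field, hq]
  induction n with
  | zero => simp
  | succ n ih =>
    have hne : ∀ i : Fin n, q ^ n - q ^ (i : ℕ) ≠ 0 := fun i =>
      Nat.sub_ne_zero_of_lt (Nat.pow_lt_pow_right hq1 i.2)
    have hstep : ∀ i : Fin n, q ^ (n + 1) - q ^ ((i.succ : Fin (n + 1)) : ℕ) = q * (q ^ n - q ^ (i : ℕ)) :=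
      fun i => by rw [Fin.val_succ, Nat.mul_sub, pow_succ', pow_succ']
    have hn1 : q ^ (n + 1) - q ^ 0 ≠ 0 := Nat.sub_ne_zero_of_lt (Nat.pow_lt_pow_right hq1 (Nat.succ_pos n))
    have hprod : ∏ i : Fin n, (q ^ n - q ^ (i : ℕ)) ≠ 0 := Finset.prod_ne_zero_iff.2 fun i _ => hne i
    rw [Fin.prod_univ_succ, Finset.prod_congr rfl (fun i _ => hstep i), Finset.prod_mul_distrib,
      Finset.prod_const, Finset.card_univ, Fintype.card_fin, Fin.val_zero,
      padicValNat.mul hn1 (mul_ne_zero (pow_ne_zero _ (by omega)) hprod),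
      padicValNat.mul (pow_ne_zero _ (by omega)) hprod, hpow, zero_add, ih, pow_zero]
    by_cases h : orderOf (q : ZMod r) ∣ n + 1
    · obtain ⟨t, ht⟩ := id h
      rw [Nat.succ_div_of_dvd h, Finset.sum_range_succ, add_comm]
      congr 3
      have h' := Nat.mul_div_cancel' h
      rw [Nat.succ_div_of_dvd h] at h'
      rw [h']
    · rw [Nat.succ_div_of_not_dvd h, padicValNat.eq_zero_of_not_dvd (fun hd =>
        h ((CfsgLib.OrderR.orderOf_dvd_iff (by omega)).2 hd)), zero_add]

section Combinatorics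

variable {r : ℕ} [hr : Fact r.Prime]

theorem card_fibre_of_pairing {n : ℕ} {e : Fin n → ZMod r} {t : ZMod r} {σ : Equiv.Perm (Fin n)}
    (h : ∀ i, e i + e (σ i) = t) (a : ZMod r) :
    Fintype.card {i // e i = a} = Fintype.card {i // e i = t - a} :=
  Fintype.card_congr (σ.subtypeEquiv fun i => by
    rw [← h i]
    constructor
    · intro ha; rw [ha, add_sub_cancel_left]
    · intro ha
      linear_combination -ha)

theorem step_facts (a b c : ℕ) (A B C X : ZMod r) :
    Fintype.card {i : Fin (a + b + c) //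
        Fin.append (Fin.append (fun _ : Fin a => A) fun _ : Fin b => B) (fun _ : Fin c => C) i = X} =
      (if A = X then a else 0) + (if B = X then b else 0) + (if C = X then c else 0) ∧
    ∑ i, Fin.append (Fin.append (fun _ : Fin a => A) fun _ : Fin b => B) (fun _ : Fin c => C) i =
      a * A + b * B + c * C := by
  constructor
  · rw [Fintype.card_subtype, Finset.card_filter, Fin.sum_univ_add, Fin.sum_univ_add]
    simp [Fin.append_left, Fin.append_right]
  · rw [Fin.sum_univ_add, Fin.sum_univ_add]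
    simp [Fin.append_left, Fin.append_right]

/-- Three blocks of exponents with no pairing `a ↦ t - a`. -/
theorem exists_of_counts {n a b c : ℕ} (hn : n = a + b + c) (A B C : ZMod r) (hsum : (a : ZMod r) * A + b * B + c * C = 0)
    (ha : 0 < a) (hb : 0 < b) (hAB : A ≠ B)
    (key : ∀ t : ZMod r, (∀ X : ZMod r,
      ((if A = X then a else 0) + (if B = X then b else 0) + (if C = X then c else 0)) =
        ((if A = t - X then a else 0) + (if B = t - X then b else 0) + (if C = t - X then c else 0))) → False) :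
    ∃ e : Fin n → ZMod r, ∑ i, e i = 0 ∧ (∃ i j, e i ≠ e j) ∧
      ∀ (t : ZMod r) (σ : Equiv.Perm (Fin n)), ¬ ∀ i, e i + e (σ i) = t := by
  subst hn
  refine ⟨_, (step_facts a b c A B C 0).2.trans hsum,
    ⟨Fin.castAdd c (Fin.castAdd b ⟨0, ha⟩), Fin.castAdd c (Fin.natAdd a ⟨0, hb⟩), ?_⟩, fun t σ h => key t fun X => ?_⟩
  · simp only [Fin.append_left, Fin.append_right]
    exact hAB
  · rw [← (step_facts a b c A B C X).1, ← (step_facts a b c A B C (t - X)).1]
    exact card_fibre_of_pairing h X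

theorem natCast_ne_zero_of_lt {k : ℕ} (h0 : 0 < k) (hk : k < r) : (k : ZMod r) ≠ 0 := fun h =>
  absurd (Nat.le_of_dvd h0 ((ZMod.natCast_eq_zero_iff k r).1 h)) (not_le.2 hk)

/-- Outside `n = r ∈ {3, 5}` and `(n, r) = (6, 3)` some multiset of exponents is not of the form `a ↦ t - a`
invariant. -/
theorem exists_unbalanced {n : ℕ} (hr2 : r ≠ 2) (hn : 3 ≤ n) (hgap : ¬ (n = 6 ∧ r = 3))
    (hbad : ¬ ((r = 3 ∨ r = 5) ∧ n = r)) :
    ∃ e : Fin n → ZMod r, ∑ i, e i = 0 ∧ (∃ i j, e i ≠ e j) ∧
      ∀ (t : ZMod r) (σ : Equiv.Perm (Fin n)), ¬ ∀ i, e i + e (σ i) = t := by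
  classical
  have h2r := hr.out.two_le
  have h4 : r ≠ 4 := fun h => absurd (h ▸ hr.out) (by norm_num)
  have one_ne : (1 : ZMod r) ≠ 0 := one_ne_zero
  have two_ne : (2 : ZMod r) ≠ 0 := by exact_mod_cast natCast_ne_zero_of_lt (r := r) (k := 2) two_pos (by omega)
  by_cases h3 : r = 3
  · subst h3
    have hn3 : n ≠ 3 := fun h => hbad ⟨Or.inl rfl, h⟩
    have hn6 : n ≠ 6 := fun h => hgap ⟨h, rfl⟩
    have e3 : ((3 : ℕ) : ZMod 3) = 0 := ZMod.natCast_self 3
    refine exists_of_counts (a := 3) (b := n - 3) (c := 0) (by omega) 1 0 0 ?_ (by omega) (by omega) one_ne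
      fun t key => ?_
    · rw [e3]; simp
    have h1 := key 1
    have h0 := key 0
    simp only [if_true, if_neg one_ne.symm, add_zero, ite_self] at h1
    simp only [if_neg one_ne, if_true, add_zero, zero_add, ite_self] at h0
    have ht : t = 2 := by
      by_contra ht
      have hne : (1 : ZMod 3) ≠ t - 1 := fun e => ht (by linear_combination -e)
      rw [if_neg hne] at h1
      split_ifs at h1 <;> omega
    subst ht
    rw [if_neg (fun e : (1 : ZMod 3) = 2 - 0 => one_ne (by linear_combination -e)),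
      if_neg (fun e : (0 : ZMod 3) = 2 - 0 => two_ne (by linear_combination -e))] at h0
    omega
  · have h5 : 5 ≤ r := by omega
    have three_ne : (3 : ZMod r) ≠ 0 := by exact_mod_cast natCast_ne_zero_of_lt (r := r) (k := 3) (by omega) (by omega)
    have four_ne : (4 : ZMod r) ≠ 0 := by exact_mod_cast natCast_ne_zero_of_lt (r := r) (k := 4) (by omega) (by omega)
    have six_ne : (6 : ZMod r) ≠ 0 := by
      intro h
      have h' : ((6 : ℕ) : ZMod r) = 0 := by exact_mod_cast h
      rcases (hr.out.dvd_mul).1 (show r ∣ 2 * 3 from (ZMod.natCast_eq_zero_iff 6 r).1 h') with d | d <;>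
        have := Nat.le_of_dvd (by norm_num) d <;> omega
    have h12 : (1 : ZMod r) ≠ -2 := fun e => three_ne (by linear_combination e)
    have h10 : (1 : ZMod r) ≠ 0 := one_ne
    have h20 : (-2 : ZMod r) ≠ 0 := neg_ne_zero.2 two_ne
    refine exists_of_counts (a := 2) (b := 1) (c := n - 3) (by omega) 1 (-2) 0 (by push_cast; ring) (by omega) one_pos
      h12 fun t key => ?_
    have k1 := key 1
    have km := key (-2)
    have k0 := key 0
    simp only [if_true, if_neg h12, if_neg h12.symm, if_neg h10, if_neg h10.symm, if_neg h20, if_neg h20.symm,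
      add_zero, zero_add] at k1 km k0
    by_cases hc : n - 3 = 2
    · have hr5 : r ≠ 5 := fun e => hbad ⟨Or.inr e, by omega⟩
      have five_ne : (5 : ZMod r) ≠ 0 := by
        intro h
        exact hr5 ((Nat.prime_dvd_prime_iff_eq hr.out (by norm_num : Nat.Prime 5)).1
          ((ZMod.natCast_eq_zero_iff 5 r).1 (by exact_mod_cast h)))
      rw [hc] at k1 km k0
      by_cases ha : (-2 : ZMod r) = t - (-2)
      · have ht : t = -4 := by linear_combination -ha
        subst ht
        rw [if_neg (fun e : (1 : ZMod r) = -4 - 1 => six_ne (by linear_combination e)),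
          if_neg (fun e : (-2 : ZMod r) = -4 - 1 => three_ne (by linear_combination e)),
          if_neg (fun e : (0 : ZMod r) = -4 - 1 => five_ne (by linear_combination e))] at k1
        omega
      · rw [if_neg ha] at km
        split_ifs at km <;> omega
    · by_cases ha : (1 : ZMod r) = t - 1
      · have ht : t = 2 := by linear_combination -ha
        subst ht
        rw [if_neg (fun e : (1 : ZMod r) = 2 - (-2) => three_ne (by linear_combination -e)),
          if_neg (fun e : (-2 : ZMod r) = 2 - (-2) => six_ne (by linear_combination -e))] at km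
        rw [if_neg (fun e : (1 : ZMod r) = 2 - 0 => one_ne (by linear_combination -e)),
          if_neg (fun e : (-2 : ZMod r) = 2 - 0 => four_ne (by linear_combination -e)),
          if_neg (fun e : (0 : ZMod r) = 2 - 0 => two_ne (by linear_combination -e))] at k0
        split_ifs at km <;> omega
      · rw [if_neg ha] at k1
        have hno : (-2 : ZMod r) = t - 1 → (0 : ZMod r) = t - 1 → False := fun u v => h20 (u.trans v.symm)
        split_ifs at k1 <;> first | omega | (exfalso; apply hno <;> assumption)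

/-- An involution realising a symmetry `a ↦ t - a` of multiplicities. -/
theorem exists_involution {ι : Type*} [Fintype ι] [DecidableEq ι] (e : ι → ZMod r) (t : ZMod r)
    (h : ∀ a, Fintype.card {i // e i = a} = Fintype.card {i // e i = t - a}) :
    ∃ σ : ι → ι, Function.Involutive σ ∧ ∀ i, e i + e (σ i) = t := by
  classical
  let E : ι ≃ Σ a : ZMod r, Fin (Fintype.card {i // e i = a}) :=
    (Equiv.sigmaFiberEquiv e).symm.trans (Equiv.sigmaCongrRight fun a => Fintype.equivFin _)
  let τ : (Σ a : ZMod r, Fin (Fintype.card {i // e i = a})) → Σ a : ZMod r, Fin (Fintype.card {i // e i = a}) :=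
    fun p => ⟨t - p.1, Fin.cast (h p.1) p.2⟩
  have hfst : ∀ i, (E i).1 = e i := fun i => rfl
  have hτ : ∀ p, τ (τ p) = p := by
    rintro ⟨a, k⟩
    refine Sigma.ext (sub_sub_cancel t a) ?_
    simp only [τ]
    rw [Fin.heq_ext_iff (by rw [sub_sub_cancel])]
    simp
  refine ⟨fun i => E.symm (τ (E i)), fun i => by simp [hτ], fun i => ?_⟩
  show e i + e (E.symm (τ (E i))) = t
  rw [← hfst (E.symm _), E.apply_symm_apply]
  show e i + (t - (E i).1) = t
  rw [hfst]
  ring

theorem symm_three : ∀ a b c : Fin 4, a.val + b.val + c.val = 3 → (b.val + 2 * c.val) % 3 = 0 →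
    ∃ t : Fin 3, ∀ k : Fin 3, ![a.val, b.val, c.val] k = ![a.val, b.val, c.val] (t - k) := by
  decide +kernel

theorem symm_five : ∀ a b c d : Fin 6, a.val + b.val + c.val + d.val ≤ 5 →
    (b.val + 2 * c.val + 3 * d.val + 4 * (5 - a.val - b.val - c.val - d.val)) % 5 = 0 →
    ∃ t : Fin 5, ∀ k : Fin 5, ![a.val, b.val, c.val, d.val, 5 - a.val - b.val - c.val - d.val] k =
      ![a.val, b.val, c.val, d.val, 5 - a.val - b.val - c.val - d.val] (t - k) := by
  decide +kernel

/-- For `r ∈ {3, 5}` every multiset of `r` exponents with sum zero is symmetrical. -/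
theorem exists_pairing_small {n : ℕ} (hr35 : r = 3 ∨ r = 5) (hn : n = r) (e : Fin n → ZMod r)
    (hsum : ∑ i, e i = 0) :
    ∃ (t : ZMod r) (σ : Fin n → Fin n), Function.Involutive σ ∧ ∀ i, e i + e (σ i) = t := by
  classical
  set m : ZMod r → ℕ := fun a => Fintype.card {i // e i = a}
  have hm : ∑ a, m a = n := by
    simp only [m, Fintype.card_subtype]
    rw [← Finset.card_eq_sum_card_fiberwise (fun i _ => Finset.mem_univ (e i)), Finset.card_univ, Fintype.card_fin]
  have hms : ((∑ a, a.val * m a : ℕ) : ZMod r) = 0 := by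
    rw [Nat.cast_sum, ← hsum, ← Finset.sum_fiberwise Finset.univ e]
    refine Finset.sum_congr rfl fun a _ => ?_
    rw [Finset.sum_congr rfl (fun i hi => (Finset.mem_filter.1 hi).2), Finset.sum_const, Nat.cast_mul,
      ZMod.natCast_zmod_val, nsmul_eq_mul, mul_comm]
    simp [m, Fintype.card_subtype]
  rw [ZMod.natCast_eq_zero_iff] at hms
  obtain ⟨t, ht⟩ : ∃ t : ZMod r, ∀ k, m k = m (t - k) := by
    rcases hr35 with rfl | rfl
    · have hm3 : m 0 + m 1 + m 2 = 3 := by
        exact (Fin.sum_univ_three (f := (m : Fin 3 → ℕ))).symm.trans (hm.trans hn)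
      have hs3 : (m 1 + 2 * m 2) % 3 = 0 := Nat.mod_eq_zero_of_dvd (by
        have e' := Fin.sum_univ_three (f := fun a : Fin 3 => (a : ℕ) * m a)
        rw [show (∑ a : ZMod 3, a.val * m a) = _ from e', Fin.val_zero, Fin.val_one, Fin.val_two, zero_mul, zero_add,
          one_mul] at hms
        exact hms)
      obtain ⟨t, ht⟩ := symm_three ⟨m 0, by omega⟩ ⟨m 1, by omega⟩ ⟨m 2, by omega⟩ hm3 hs3
      have hmm : ∀ k : ZMod 3, m k = (![m 0, m 1, m 2] : ZMod 3 → ℕ) k := fun k => by fin_cases k <;> rfl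
      exact ⟨t, fun (k : ZMod 3) => (hmm k).trans ((ht k).trans (hmm _).symm)⟩
    · have hm5 : m 0 + m 1 + m 2 + m 3 + m 4 = 5 := by
        exact (Fin.sum_univ_five (f := (m : Fin 5 → ℕ))).symm.trans (hm.trans hn)
      have h4 : m 4 = 5 - m 0 - m 1 - m 2 - m 3 := by omega
      have hs5 : (m 1 + 2 * m 2 + 3 * m 3 + 4 * m 4) % 5 = 0 := Nat.mod_eq_zero_of_dvd (by
        have e' := Fin.sum_univ_five (f := fun a : Fin 5 => (a : ℕ) * m a)
        rw [show (∑ a : ZMod 5, a.val * m a) = _ from e', Fin.val_zero, Fin.val_one, Fin.val_two, zero_mul, zero_add,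
          one_mul] at hms
        exact hms)
      obtain ⟨t, ht⟩ := symm_five ⟨m 0, by omega⟩ ⟨m 1, by omega⟩ ⟨m 2, by omega⟩ ⟨m 3, by omega⟩
        (show m 0 + m 1 + m 2 + m 3 ≤ 5 by omega) (h4 ▸ hs5)
      have hmm : ∀ k : ZMod 5, m k = (![m 0, m 1, m 2, m 3, 5 - m 0 - m 1 - m 2 - m 3] : ZMod 5 → ℕ) k :=
        fun k => by fin_cases k <;> first | rfl | exact h4
      exact ⟨t, fun (k : ZMod 5) => (hmm k).trans ((ht k).trans (hmm _).symm)⟩
  exact ⟨t, exists_involution e t ht⟩

end Combinatorics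

section Roots

variable {F : Type*} [Field F] {r : ℕ} [hr : Fact r.Prime] {ζ : F} (hζ : IsPrimitiveRoot ζ r)

open CfsgLib.PrimeClasses

theorem rootChar_injective : Function.Injective (rootChar hζ) := fun a b h => by
  rw [rootChar_apply, rootChar_apply] at h
  exact ZMod.val_injective _ (hζ.pow_inj (ZMod.val_lt a) (ZMod.val_lt b) h)

theorem rootChar_sum {ι : Type*} (s : Finset ι) (e : ι → ZMod r) :
    rootChar hζ (∑ i ∈ s, e i) = ∏ i ∈ s, rootChar hζ (e i) := by
  classical
  induction s using Finset.induction_on with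
  | empty => simp
  | insert a s ha ih => rw [Finset.sum_insert ha, Finset.prod_insert ha, AddChar.map_add_eq_mul, ih]

variable [Fintype F]

/-- An element of order dividing `r` is diagonalisable. -/
theorem exists_diag_form {n : ℕ} (x : GL (Fin n) F) (hx : (x : Matrix (Fin n) (Fin n) F) ^ r = 1) :
    ∃ (g : GL (Fin n) F) (e : Fin n → ZMod r),
      (x : Matrix (Fin n) (Fin n) F) * (g : Matrix (Fin n) (Fin n) F) =
        (g : Matrix (Fin n) (Fin n) F) * Matrix.diagonal fun i => rootChar hζ (e i) := by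
  classical
  set X := (x : Matrix (Fin n) (Fin n) F)
  have hcard : Fintype.card (Σ u : ZMod r, Fin (mult hζ X u)) = n := by
    rw [Fintype.card_sigma]
    simp only [Fintype.card_fin]
    rw [sum_mult hζ (natCast_ne_zero_of_root hζ) hx, Fintype.card_fin]
  let E : Fin n ≃ Σ u : ZMod r, Fin (mult hζ X u) := (Fintype.equivFinOfCardEq hcard).symm
  let e : Fin n → ZMod r := fun i => (E i).1
  have hD : (Matrix.diagonal fun i => rootChar hζ (e i)) ^ r = 1 := by
    rw [Matrix.diagonal_pow, ← Matrix.diagonal_one]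
    congr 1
    funext i
    exact rootChar_pow_self hζ _
  obtain ⟨g, hg⟩ := exists_conj_of_mult hζ hD hx fun u => by
    rw [mult_diagonal, Fintype.card_congr ((E.subtypeEquiv (q := fun p => p.1 = u) fun i => Iff.rfl).trans
      (Equiv.sigmaSubtype u)), Fintype.card_fin]
  exact ⟨g, e, hg.symm⟩

end Roots

end CfsgLib.PrimeElusive.FormTests
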