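import Cfsg.Agent.Lib.PrimeElusive.UnitFixBasic
import Cfsg.Agent.Lib.PrimeElusive.FormTests
import Cfsg.Agent.Lib.PrimeClasses.Kummer

/-!
Diagonal and monomial unitary matrices of prime order modulo scalars, and the subspaces they fix.
-/

set_option autoImplicit false
set_option linter.unusedSectionVars false

open scoped MatrixGroups

namespace CfsgLib.PrimeElusive.UnitFix

open Matrix CfsgLib.PrimeClasses CfsgLib.GeomClasses

variable {F : Type*} [Field F] [Fintype F] {q n m r : ℕ}

/-- A primitive root of prime order. -/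
theorem exists_prim (hF : Fintype.card F = q ^ 2) [hr : Fact r.Prime] (h : r ∣ q + 1) :
    ∃ ζ : F, IsPrimitiveRoot ζ r := by
  have hd : r ∣ Nat.card Fˣ := by
    rw [Nat.card_units, Nat.card_eq_fintype_card, hF, show q ^ 2 - 1 = (q + 1) * (q - 1) by
      rw [← Nat.sq_sub_sq, one_pow]]
    exact h.trans (dvd_mul_right _ _)
  obtain ⟨u, hu⟩ := exists_prime_orderOf_dvd_card' r hd
  exact ⟨u, IsPrimitiveRoot.iff_orderOf.2 (by rw [orderOf_units]; exact hu)⟩

theorem rootChar_norm [hr : Fact r.Prime] {ζ : F} (hζ : IsPrimitiveRoot ζ r) (h : r ∣ q + 1) (a : ZMod r) :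
    rootChar hζ a ^ (q + 1) = 1 := by
  obtain ⟨c, hc⟩ := h
  rw [hc, pow_mul, rootChar_pow_self hζ, one_pow]

/-- Unitary matrices of exponent `r ∣ q + 1` are diagonalisable by isometries. -/
theorem exists_diag_conj (hF : Fintype.card F = q ^ 2) [hr : Fact r.Prime] (h : r ∣ q + 1) {ζ : F}
    (hζ : IsPrimitiveRoot ζ r) {Y : Matrix (Fin n) (Fin n) F} (hY : Y ^ r = 1) (hYu : IsU q Y) :
    ∃ g ∈ Cfsg.GU n F q, ∃ e : Fin n → ZMod r,
      Y = (g : Matrix (Fin n) (Fin n) F) * Matrix.diagonal (fun i => rootChar hζ (e i)) *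
        (↑g⁻¹ : Matrix (Fin n) (Fin n) F) := by
  obtain ⟨y, -, rfl⟩ := hYu.gl hF
  obtain ⟨g, e, hge⟩ := FormTests.exists_diag_form hζ y hY
  obtain ⟨k, hk, hke⟩ := exists_GU_conj hF (isU_diagonal hF _ fun i => rootChar_norm hζ h (e i)) hYu ⟨g, hge.symm⟩
  exact ⟨k, hk, e, hke⟩

/-- Pigeonhole pairing of equal values. -/
theorem exists_pairs {α : Type*} [Fintype α] [DecidableEq α] (e : Fin n → α) : ∀ (m : ℕ) (s : Finset (Fin n)),
    (Fintype.card α + 2 * m ≤ s.card + 1 ∨ ((∀ v, Even (s.filter fun i => e i = v).card) ∧ 2 * m ≤ s.card)) →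
    ∃ π : Fin m → Fin 2 → Fin n, (∀ k j, π k j ∈ s) ∧ (∀ k j k' j', π k j = π k' j' → k = k' ∧ j = j') ∧
      ∀ k, e (π k 0) = e (π k 1) := by
  intro m
  induction m with
  | zero => exact fun s _ => ⟨fun k => k.elim0, fun k => k.elim0, fun k => k.elim0, fun k => k.elim0⟩
  | succ m ih =>
    intro s hs
    obtain ⟨a, ha, b, hb, hab, heab⟩ : ∃ a ∈ s, ∃ b ∈ s, a ≠ b ∧ e a = e b := by
      rcases hs with hs | ⟨hev, hs⟩
      · exact Finset.exists_ne_map_eq_of_card_lt_of_maps_to (t := Finset.univ) (by rw [Finset.card_univ]; omega)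
          fun x _ => Finset.mem_univ _
      · obtain ⟨a, ha⟩ := Finset.card_pos.1 (show 0 < s.card by omega)
        have hpos : 0 < (s.filter fun i => e i = e a).card := Finset.card_pos.2 ⟨a, by simp [ha]⟩
        have htwo : 1 < (s.filter fun i => e i = e a).card := by
          obtain ⟨k, hk⟩ := hev (e a); omega
        obtain ⟨b, hb, hba⟩ := Finset.exists_mem_ne htwo a
        rw [Finset.mem_filter] at hb
        exact ⟨a, ha, b, hb.1, hba.symm, hb.2.symm⟩
    set s' := (s.erase a).erase b
    have hcard : s'.card + 2 = s.card := by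
      have h1 := Finset.card_erase_add_one (show b ∈ s.erase a from Finset.mem_erase.2 ⟨hab.symm, hb⟩)
      have h2 := Finset.card_erase_add_one ha
      simp only [s']
      omega
    obtain ⟨π, hπs, hπi, hπe⟩ := ih s' (by
      rcases hs with hs | ⟨hev, hs⟩
      · exact Or.inl (by omega)
      · refine Or.inr ⟨fun v => ?_, by omega⟩
        have h1 : (s'.filter fun i => e i = v) = ((s.filter fun i => e i = v).erase a).erase b := by
          ext i; simp [s']; tauto
        by_cases hv : e a = v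
        · have h2 : (((s.filter fun i => e i = v).erase a).erase b).card + 2 = (s.filter fun i => e i = v).card := by
            have h3 := Finset.card_erase_add_one (show b ∈ (s.filter fun i => e i = v).erase a by
              simp [hab.symm, hb, ← heab, hv])
            have h4 := Finset.card_erase_add_one (show a ∈ s.filter fun i => e i = v by simp [ha, hv])
            omega
          obtain ⟨k, hk⟩ := hev v
          exact ⟨k - 1, by rw [h1]; omega⟩
        · rw [h1, Finset.erase_eq_of_notMem, Finset.erase_eq_of_notMem]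
          · exact hev v
          · simp [hv]
          · simp [← heab, hv])
    have hs' : ∀ k j, π k j ∈ s ∧ π k j ≠ a ∧ π k j ≠ b := fun k j => by
      have := hπs k j
      simp only [s', Finset.mem_erase] at this
      exact ⟨this.2.2, this.2.1, this.1⟩
    refine ⟨Fin.cons ![a, b] π, fun k j => ?_, fun k j k' j' h => ?_, fun k => ?_⟩
    · cases k using Fin.cases with
      | zero => fin_cases j <;> simp [ha, hb]
      | succ k => simpa using (hs' k j).1
    · cases k using Fin.cases with
      | zero =>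
        cases k' using Fin.cases with
        | zero =>
          refine ⟨rfl, ?_⟩
          fin_cases j <;> fin_cases j' <;> simp at h ⊢
          · exact hab h
          · exact hab h.symm
        | succ k' =>
          have h2 := hs' k' j'
          simp only [Fin.cons_zero, Fin.cons_succ] at h
          rw [← h] at h2
          fin_cases j <;> simp at h2
      | succ k =>
        cases k' using Fin.cases with
        | zero =>
          have h2 := hs' k j
          simp only [Fin.cons_zero, Fin.cons_succ] at h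
          rw [h] at h2
          fin_cases j' <;> simp at h2
        | succ k' =>
          simp only [Fin.cons_succ] at h
          obtain ⟨h1, h2⟩ := hπi k j k' j' h
          exact ⟨by rw [h1], h2⟩
    · cases k using Fin.cases with
      | zero => simpa using heab
      | succ k => simpa using hπe k

theorem monomial'_single (σ : Equiv.Perm (Fin n)) (d : Fin n → F) (j : Fin n) (x : F) :
    monomial' σ d *ᵥ Pi.single j x = Pi.single (σ j) (d j * x) := by
  funext i
  rw [Matrix.mulVec_single]
  by_cases h : i = σ j <;> simp [monomial', h]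

theorem monomial'_mulVec (σ : Equiv.Perm (Fin n)) (d : Fin n → F) (v : Fin n → F) (i : Fin n) :
    (monomial' σ d *ᵥ v) (σ i) = d i * v i := by
  simp [monomial', Matrix.mulVec, dotProduct, σ.injective.eq_iff]

theorem isU_monomial (hF : Fintype.card F = q ^ 2) (σ : Equiv.Perm (Fin n)) (d : Fin n → F)
    (hd : ∀ i, d i ^ (q + 1) = 1) : IsU q (monomial' σ d) := by
  refine (isU_iff_herm hF).2 fun u v => ?_
  rw [Cfsg.hermForm, Cfsg.hermForm, ← Equiv.sum_comp σ]
  refine Finset.sum_congr rfl fun i _ => ?_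
  rw [monomial'_mulVec, monomial'_mulVec, mul_pow]
  linear_combination (u i * v i ^ q) * hd i

theorem herm_single (hF : Fintype.card F = q ^ 2) (a b : Fin n) (x y : F) :
    Cfsg.hermForm n F q (Pi.single a x) (Pi.single b y) = if a = b then x * y ^ q else 0 := by
  have hq0 : q ≠ 0 := by have := UnitPow.two_le hF; omega
  rw [Cfsg.hermForm, Fintype.sum_eq_single a fun k hk => by simp [hk]]
  by_cases h : a = b <;> simp [h, hq0]

/-- A monomial matrix respecting pairs fixes a totally isotropic subspace. -/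
theorem hasTI_monomial (hF : Fintype.card F = q ^ 2) (σ : Equiv.Perm (Fin n)) (d : Fin n → F)
    (π : Fin m → Fin 2 → Fin n) (hπ : ∀ k j k' j', π k j = π k' j' → k = k' ∧ j = j') (τ : Fin m → Fin m)
    (c : Fin m → F) (hσ : ∀ k j, σ (π k j) = π (τ k) j) (hd : ∀ k j, d (π k j) = c k) :
    HasTI q m (monomial' σ d) := by
  classical
  have hu := UnitPow.isUnitaryForm_hermForm hF n
  obtain ⟨l, hl⟩ := Unit.exists_norm hu.ne_refl hu.involutive (show UnitPow.conj hF (-1 : F) = -1 by
    rw [map_neg, map_one])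
  rw [UnitPow.conj_apply] at hl
  let u : Fin m → Fin n → F := fun k => Pi.single (π k 0) 1 + Pi.single (π k 1) l
  have hval : ∀ k k', u k (π k' 0) = if k = k' then 1 else 0 := fun k k' => by
    have h1 : π k' 0 ≠ π k 1 := fun h => absurd (hπ _ _ _ _ h).2 (by decide)
    by_cases hk : k = k'
    · subst hk; simp [u, h1]
    · have h0 : π k' 0 ≠ π k 0 := fun h => hk (hπ _ _ _ _ h).1.symm
      simp [u, h0, h1, hk]
  have hli : LinearIndependent F u := by
    rw [Fintype.linearIndependent_iff]
    intro g hg k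
    have := congrFun hg (π k 0)
    simpa [Finset.sum_apply, hval] using this
  have hiso : ∀ k k', Cfsg.hermForm n F q (u k) (u k') = 0 := fun k k' => by
    simp only [u, Unit.add_left hu, Unit.add_right hu, herm_single hF]
    by_cases hk : k = k'
    · subst hk
      have h1 : π k 0 ≠ π k 1 := fun h => absurd (hπ _ _ _ _ h).2 (by decide)
      simp only [h1, h1.symm, if_true, if_false, one_pow, mul_one, add_zero, zero_add]
      rw [hl, add_neg_cancel]
    · have h : ∀ j j', π k j ≠ π k' j' := fun j j' h => hk (hπ _ _ _ _ h).1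
      simp [h]
  set W := Submodule.span F (Set.range u)
  refine ⟨W, by rw [finrank_span_eq_card hli, Fintype.card_fin], ?_, ?_⟩
  · have h1 : ∀ k, ∀ w ∈ W, Cfsg.hermForm n F q (u k) w = 0 := fun k w hw => by
      have hle : W ≤ Unit.perp hu (Submodule.span F {u k}) := Submodule.span_le.2 (by
        rintro _ ⟨k', rfl⟩
        refine (Unit.mem_perp hu).2 fun x hx => ?_
        obtain ⟨a, rfl⟩ := Submodule.mem_span_singleton.1 hx
        rw [Unit.smul_right hu, hiso, mul_zero])
      exact Unit.eq_zero_comm hu ((Unit.mem_perp hu).1 (hle hw) _ (Submodule.mem_span_singleton_self _))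
    have hle : W ≤ Unit.perp hu W := Submodule.span_le.2 (by
      rintro _ ⟨k, rfl⟩
      exact (Unit.mem_perp hu).2 (h1 k))
    exact fun x hx y hy => (Unit.mem_perp hu).1 (hle hx) y hy
  · intro v hv
    have hle : W ≤ W.comap (monomial' σ d).mulVecLin := Submodule.span_le.2 (by
      rintro _ ⟨k, rfl⟩
      show monomial' σ d *ᵥ u k ∈ W
      have : monomial' σ d *ᵥ u k = c k • u (τ k) := by
        simp only [u, Matrix.mulVec_add, monomial'_single, hσ, hd, smul_add, mul_one]
        rw [← Pi.single_smul', ← Pi.single_smul', smul_eq_mul, smul_eq_mul, mul_one]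
      rw [this]
      exact W.smul_mem _ (Submodule.subset_span ⟨τ k, rfl⟩))
    exact hle hv

/-- A monomial matrix respecting a set of coordinates fixes a non-degenerate subspace. -/
theorem hasND_monomial (hF : Fintype.card F = q ^ 2) (σ : Equiv.Perm (Fin n)) (d : Fin n → F) (S : Finset (Fin n))
    (hS : S.card = m) (hσ : ∀ i ∈ S, σ i ∈ S) : HasND q m (monomial' σ d) := by
  classical
  set W := Submodule.span F (Set.range fun i : S => (Pi.single (i : Fin n) 1 : Fin n → F))
  have hli : LinearIndependent F fun i : S => (Pi.single (i : Fin n) 1 : Fin n → F) := by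
    have := (Pi.basisFun F (Fin n)).linearIndependent.comp (Subtype.val : S → Fin n) Subtype.val_injective
    simpa [Function.comp_def] using this
  refine ⟨W, by rw [finrank_span_eq_card hli, Fintype.card_coe, hS], fun u hu hu0 => ?_, fun v hv => ?_⟩
  · obtain ⟨i, hi⟩ := Function.ne_iff.1 hu0
    have hiS : i ∈ S := by
      by_contra hiS
      have hle : W ≤ LinearMap.ker (LinearMap.proj i : (Fin n → F) →ₗ[F] F) := Submodule.span_le.2 (by
        rintro _ ⟨k, rfl⟩
        exact Pi.single_eq_of_ne (fun h : i = (k : Fin n) => hiS (h ▸ k.2)) _)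
      exact hi (hle hu)
    refine ⟨Pi.single i 1, Submodule.subset_span ⟨⟨i, hiS⟩, rfl⟩, ?_⟩
    have hq0 : q ≠ 0 := by have := UnitPow.two_le hF; omega
    rw [Cfsg.hermForm, Fintype.sum_eq_single i fun k hk => by simp [hk, hq0]]
    simpa using hi
  · have hle : W ≤ W.comap (monomial' σ d).mulVecLin := Submodule.span_le.2 (by
      rintro _ ⟨⟨k, hk⟩, rfl⟩
      show monomial' σ d *ᵥ Pi.single k 1 ∈ W
      rw [monomial'_single, show (Pi.single (σ k) (d k * 1) : Fin n → F) = d k • Pi.single (σ k) 1 by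
        rw [← Pi.single_smul', smul_eq_mul]]
      exact W.smul_mem _ (Submodule.subset_span ⟨⟨σ k, hσ k hk⟩, rfl⟩))
    exact hle hv

/-- A totally isotropic subspace invariant under a diagonal matrix avoids the simple eigenvalues. -/
theorem le_of_diag (hF : Fintype.card F = q ^ 2) (d : Fin n → F) (S : Finset (Fin n))
    (hS : ∀ i ∈ S, ∀ j, j ≠ i → d j ≠ d i) (h : HasTI q m (Matrix.diagonal d)) : 2 * m + S.card ≤ n := by
  classical
  obtain ⟨W, hWd, hWi, hWX⟩ := h
  have hu := UnitPow.isUnitaryForm_hermForm hF n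
  have hpoly : ∀ (s : Finset (Fin n)), ∀ w ∈ W, (fun l => (∏ j ∈ s, (d l - d j)) * w l) ∈ W := by
    intro s
    induction s using Finset.induction_on with
    | empty => intro w hw; simpa using hw
    | insert a s ha ih =>
      intro w hw
      have h1 := ih w hw
      convert W.sub_mem (hWX _ h1) (W.smul_mem (d a) h1) using 1
      funext l
      rw [Finset.prod_insert ha, Pi.sub_apply, Pi.smul_apply, Matrix.mulVec_diagonal, smul_eq_mul]
      ring
  have hzero : ∀ i ∈ S, ∀ w ∈ W, w i = 0 := by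
    intro i hi w hw
    by_contra hne
    have h1 := hpoly (Finset.univ.erase i) w hw
    set x := fun l => (∏ j ∈ Finset.univ.erase i, (d l - d j)) * w l
    have hx : x = Pi.single i (x i) := by
      funext l
      by_cases hl : l = i
      · subst hl; simp
      · rw [Pi.single_eq_of_ne hl]
        show _ * w l = 0
        rw [Finset.prod_eq_zero (Finset.mem_erase.2 ⟨hl, Finset.mem_univ l⟩) (sub_self _), zero_mul]
    have hxi : x i ≠ 0 := mul_ne_zero (Finset.prod_ne_zero_iff.2 fun j hj =>
      sub_ne_zero.2 fun e => hS i hi j (Finset.ne_of_mem_erase hj) e.symm) hne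
    have h2 := hWi _ h1 _ h1
    rw [hx, herm_single hF, if_pos rfl] at h2
    rcases mul_eq_zero.1 h2 with h3 | h3
    · exact hxi h3
    · exact hxi (eq_zero_of_pow_eq_zero h3)
  set U := Submodule.span F (Set.range fun i : S => (Pi.single (i : Fin n) 1 : Fin n → F))
  have hUd : Module.finrank F U = S.card := by
    rw [finrank_span_eq_card, Fintype.card_coe]
    simpa [Function.comp_def] using
      (Pi.basisFun F (Fin n)).linearIndependent.comp (Subtype.val : S → Fin n) Subtype.val_injective
  have hU : U ≤ Unit.perp hu W := Submodule.span_le.2 (by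
    rintro _ ⟨⟨i, hi⟩, rfl⟩
    refine (Unit.mem_perp hu).2 fun w hw => ?_
    have hq0 : q ≠ 0 := by have := UnitPow.two_le hF; omega
    rw [Cfsg.hermForm, Fintype.sum_eq_single i fun k hk => by simp [hk]]
    simp [hzero i hi w hw, hq0])
  have hWW : W ≤ Unit.perp hu W := fun x hx => (Unit.mem_perp hu).2 fun y hy => hWi x hx y hy
  have hdisj : W ⊓ U = ⊥ := by
    rw [Submodule.eq_bot_iff]
    rintro x ⟨hx, hxU⟩
    funext i
    by_cases hi : i ∈ S
    · exact hzero i hi x hx
    · have hle : U ≤ LinearMap.ker (LinearMap.proj i : (Fin n → F) →ₗ[F] F) := Submodule.span_le.2 (by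
        rintro _ ⟨k, rfl⟩
        exact Pi.single_eq_of_ne (fun h : i = (k : Fin n) => hi (h ▸ k.2)) _)
      exact hle hxU
  have h1 := Submodule.finrank_sup_add_finrank_inf_eq W U
  rw [hdisj, finrank_bot, hWd, hUd] at h1
  have h2 := Submodule.finrank_mono (sup_le hWW hU)
  have h3 := Unit.finrank_perp hu W
  rw [Fintype.card_fin, hWd] at h3
  omega

/-- The monomial element with `r`-th power `z`. -/
theorem exists_kummer_model (hF : Fintype.card F = q ^ 2) [hr : Fact r.Prime] (hr2 : r ≠ 2) {w : ℕ}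
    (hn : n = r * w) {z : F} (hz : z ^ (q + 1) = 1) :
    ∃ M : Matrix (Fin n) (Fin n) F, IsU q M ∧ M ^ r = z • 1 ∧ M.det = z ^ w ∧
      (∀ k, 2 * k ≤ w → HasTI q (r * k) M) ∧ ∀ k, k ≤ w → HasND q (r * k) M := by
  classical
  let e : Fin n ≃ Fin w × ZMod r := Fintype.equivOfCardEq (by simp [hn, mul_comm])
  let σ : Equiv.Perm (Fin n) := e.trans (((Equiv.refl _).prodCongr (Equiv.addRight 1)).trans e.symm)
  let d : Fin n → F := fun j => if (e j).2 = 0 then z else 1
  have hσ : ∀ (l : ℕ) (j : Fin n), e ((σ ^ l) j) = ((e j).1, (e j).2 + l) := by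
    intro l
    induction l with
    | zero => intro j; simp
    | succ l ih =>
      intro j
      rw [pow_succ', Equiv.Perm.mul_apply]
      simp [σ, ih, add_assoc]
  have hσr : σ ^ r = 1 := Equiv.ext fun j => e.injective (by simp [hσ])
  have hdn : ∀ j, d j ^ (q + 1) = 1 := fun j => by simp only [d]; split_ifs <;> simp [hz]
  refine ⟨monomial' σ d, isU_monomial hF σ d hdn, ?_, ?_, fun k hk => ?_, fun k hk => ?_⟩
  · rw [monomial'_pow, hσr, monomial'_one, Matrix.smul_one_eq_diagonal]
    congr 1
    funext j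
    rw [Finset.prod_eq_single_of_mem (-(e j).2).val (Finset.mem_range.2 (ZMod.val_lt _))]
    · simp only [d, hσ, ZMod.natCast_zmod_val, add_neg_cancel, if_true]
    · intro l hl hne
      simp only [d, hσ]
      refine if_neg fun h0 => hne ?_
      rw [← eq_neg_of_add_eq_zero_right h0, ZMod.val_natCast, Nat.mod_eq_of_lt (Finset.mem_range.1 hl)]
  · have h1 : monomial' σ d = monomial' σ (fun _ => (1 : F)) * Matrix.diagonal d := by
      rw [← monomial'_one, monomial'_mul, mul_one]
      simp
    have ht : (monomial' σ fun _ => (1 : F))ᵀ = monomial' σ⁻¹ fun _ => (1 : F) := by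
      ext a b
      simp [monomial', Equiv.Perm.inv_def, Equiv.eq_symm_apply, eq_comm]
    have h2 : (monomial' σ fun _ => (1 : F)).det ^ 2 = 1 := by
      rw [pow_two]
      nth_rewrite 2 [← Matrix.det_transpose]
      rw [← Matrix.det_mul, ht, monomial'_mul, mul_inv_cancel, monomial'_one]
      simp
    have h3 : (monomial' σ fun _ => (1 : F)).det ^ r = 1 := by
      rw [← Matrix.det_pow, monomial'_pow, hσr, monomial'_one]
      simp
    have h4 := pow_gcd_eq_one.2 ⟨h2, h3⟩
    rw [((Nat.coprime_primes Nat.prime_two hr.out).2 (Ne.symm hr2)).gcd_eq_one, pow_one] at h4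
    rw [h1, Matrix.det_mul, h4, one_mul, Matrix.det_diagonal,
      Fintype.prod_equiv e d (fun p => if p.2 = 0 then z else 1) (fun j => rfl), Fintype.prod_prod_type]
    simp
  · let f : Fin (r * k) ≃ Fin k × ZMod r := Fintype.equivOfCardEq (by simp [mul_comm])
    let π : Fin (r * k) → Fin 2 → Fin n := fun a j =>
      e.symm (⟨2 * ((f a).1 : ℕ) + (j : ℕ), by have := (f a).1.isLt; have := j.isLt; omega⟩, (f a).2)
    refine hasTI_monomial hF σ d π (fun a j a' j' h => ?_) (fun a => f.symm ((f a).1, (f a).2 + 1))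
      (fun a => if (f a).2 = 0 then z else 1) (fun a j => e.injective ?_) (fun a j => ?_)
    · have h1 := e.symm.injective h
      simp only [Prod.mk.injEq, Fin.mk.injEq] at h1
      have := j.isLt; have := j'.isLt
      refine ⟨f.injective (Prod.ext (Fin.ext (by omega)) h1.2), Fin.ext (by omega)⟩
    · simp [π, σ]
    · simp [π, d]
  · let S : Finset (Fin n) := Finset.univ.filter fun i => ((e i).1 : ℕ) < k
    refine hasND_monomial hF σ d S ?_ fun i hi => ?_
    · rw [← Fintype.card_subtype, show r * k = Fintype.card (Fin k × ZMod r) by simp [mul_comm]]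
      exact Fintype.card_congr
        { toFun := fun i => (⟨(e i.1).1, i.2⟩, (e i.1).2)
          invFun := fun p => ⟨e.symm (⟨p.1, p.1.isLt.trans_le hk⟩, p.2), by simp⟩
          left_inv := fun i => Subtype.ext (by simp)
          right_inv := fun p => by simp }
    · simp only [S, Finset.mem_filter, Finset.mem_univ, true_and] at hi ⊢
      simpa [σ] using hi

/-- Without an `r`-th root of `z`, all elements with `r`-th power `z` look like the monomial one. -/
theorem exists_kummer_conj' (hF : Fintype.card F = q ^ 2) [hr : Fact r.Prime] (hr2 : r ≠ 2) {z : F}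
    (hz : z ^ (q + 1) = 1) (hno : ∀ w : F, w ^ r ≠ z) {X : Matrix (Fin n) (Fin n) F} (hX : X ^ r = z • 1)
    (hXu : IsU q X) :
    ∃ w, n = r * w ∧ X.det = z ^ w ∧ (∀ k, 2 * k ≤ w → HasTI q (r * k) X) ∧
      ∀ k, k ≤ w → HasND q (r * k) X := by
  have hXr : Matrix.toLin' X ^ r = z • 1 := by rw [← Matrix.toLin'_pow, hX, map_smul, Matrix.toLin'_one]; rfl
  obtain ⟨⟨w, hw⟩, -⟩ := exists_kummer_intertwine hr.out hno rfl hXr hXr
  rw [Module.finrank_fin_fun] at hw
  obtain ⟨M, hMu, hMr, hMd, hMT, hMN⟩ := exists_kummer_model hF hr2 hw hz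
  have hMr' : Matrix.toLin' M ^ r = z • 1 := by rw [← Matrix.toLin'_pow, hMr, map_smul, Matrix.toLin'_one]; rfl
  obtain ⟨-, E, hE⟩ := exists_kummer_intertwine hr.out hno rfl hMr' hXr
  obtain ⟨g, hg⟩ := UnitPair.exists_GL E
  obtain ⟨k, hk, rfl⟩ := exists_GU_conj hF hMu hXu ⟨g, Matrix.ext_of_mulVec_single fun j => by
    rw [← Matrix.mulVec_mulVec, ← Matrix.mulVec_mulVec, hg, hg, ← Matrix.toLin'_apply, hE, Matrix.toLin'_apply]⟩
  refine ⟨w, hw, ?_, fun j hj => (hMT j hj).conj hk, fun j hj => (hMN j hj).conj hk⟩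
  rw [Matrix.det_mul_right_comm, ← Units.val_mul, mul_inv_cancel, Units.val_one, Matrix.one_mul, hMd]

/-- Without an `r`-th root of `z`, invariant subspaces have dimension divisible by `r`. -/
theorem dvd_of_kummer {r : ℕ} (hr : r.Prime) {z : F} (hno : ∀ w : F, w ^ r ≠ z)
    {X : Matrix (Fin n) (Fin n) F} (hX : X ^ r = z • 1) {W : Submodule F (Fin n → F)}
    (hW : ∀ v ∈ W, X *ᵥ v ∈ W) : r ∣ Module.finrank F W := by
  have hW' : ∀ v ∈ W, Matrix.toLin' X v ∈ W := hW
  have hXr : Matrix.toLin' X ^ r = z • 1 := by rw [← Matrix.toLin'_pow, hX, map_smul, Matrix.toLin'_one]; rfl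
  have hpow : (Matrix.toLin' X).restrict hW' ^ r = z • 1 := LinearMap.ext fun v => Subtype.ext (by
    rw [Module.End.pow_restrict, LinearMap.coe_restrict_apply, hXr]
    rfl)
  exact (exists_kummer_intertwine hr hno rfl hpow hpow).1

/-- A norm-one element without `r`-th root, killed by `w`. -/
theorem exists_no_root (hF : Fintype.card F = q ^ 2) [hr : Fact r.Prime] (hr2 : r ≠ 2) (hd : r ∣ q + 1) {w : ℕ}
    (hw : w = 0 ∨ padicValNat r (q + 1) ≤ padicValNat r w) :
    ∃ z : F, z ^ (q + 1) = 1 ∧ z ^ w = 1 ∧ ∀ t : F, t ^ r ≠ z := by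
  classical
  have hq := UnitPow.two_le hF
  set e := padicValNat r (q + 1)
  have he : r ^ e ∣ q + 1 := pow_padicValNat_dvd
  have hN : Nat.card Fˣ = (q + 1) * (q - 1) := by
    rw [Nat.card_units, Nat.card_eq_fintype_card, hF, ← Nat.sq_sub_sq, one_pow]
  obtain ⟨g, hg⟩ := IsCyclic.exists_generator (α := Fˣ)
  have hog : orderOf g = Nat.card Fˣ := orderOf_eq_card_of_forall_mem_zpowers hg
  obtain ⟨c, hc⟩ : r ^ e ∣ Nat.card Fˣ := by rw [hN]; exact he.trans (dvd_mul_right _ _)
  have hpos : 0 < c := Nat.pos_of_ne_zero fun hc0 => by rw [hc0, mul_zero] at hc; exact Nat.card_pos.ne' hc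
  have hu : orderOf (g ^ c) = r ^ e := by
    rw [orderOf_pow' g (by omega), hog, hc, Nat.gcd_mul_left_left, Nat.mul_div_cancel _ hpos]
  refine ⟨((g ^ c : Fˣ) : F), ?_, ?_, fun t ht => ?_⟩
  · rw [← Units.val_pow_eq_pow_val, orderOf_dvd_iff_pow_eq_one.1 (hu ▸ he), Units.val_one]
  · rw [← Units.val_pow_eq_pow_val, orderOf_dvd_iff_pow_eq_one.1, Units.val_one]
    rw [hu]
    rcases hw with rfl | hw
    · exact dvd_zero _
    · exact (pow_dvd_pow r hw).trans pow_padicValNat_dvd
  · have ht0 : t ≠ 0 := fun h => by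
      rw [h, zero_pow hr.out.ne_zero] at ht
      exact Units.ne_zero _ ht.symm
    have h1 : (g ^ c) = Units.mk0 t ht0 ^ r := Units.ext (by push_cast; exact ht.symm)
    have h2 : orderOf (Units.mk0 t ht0) ∣ (q + 1) * (q - 1) := hN ▸ orderOf_dvd_natCard _
    have hepos : 1 ≤ e := one_le_padicValNat_of_dvd (by omega) hd
    have h3 : r ^ (e + 1) ∣ orderOf (Units.mk0 t ht0) := by
      have h4 : orderOf (Units.mk0 t ht0 ^ r) = r ^ e := h1 ▸ hu
      rw [orderOf_pow' _ hr.out.ne_zero] at h4
      rcases (Nat.dvd_prime hr.out).1 (Nat.gcd_dvd_right (orderOf (Units.mk0 t ht0)) r) with hg1 | hg1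
      · rw [hg1, Nat.div_one] at h4
        exfalso
        rw [h4, Nat.gcd_eq_right (dvd_pow_self r (show e ≠ 0 by omega))] at hg1
        exact hr.out.one_lt.ne' hg1
      · rw [hg1] at h4
        have h6 : r ∣ orderOf (Units.mk0 t ht0) := hg1 ▸ Nat.gcd_dvd_left (orderOf (Units.mk0 t ht0)) r
        rw [← Nat.div_mul_cancel h6, h4, pow_succ]
    have hnd : ¬ r ∣ q - 1 := fun h => by
      have h2' := Nat.dvd_sub hd h
      rw [show q + 1 - (q - 1) = 2 by omega] at h2'
      exact hr2 ((Nat.prime_dvd_prime_iff_eq hr.out Nat.prime_two).1 h2')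
    have h5 : r ^ (e + 1) ∣ q + 1 :=
      (Nat.Coprime.pow_left (e + 1) ((Nat.Prime.coprime_iff_not_dvd hr.out).2 hnd)).dvd_of_dvd_mul_right (h3.trans h2)
    exact pow_succ_padicValNat_not_dvd (by omega) h5

/-- Conversely, a norm-one element killed by `w` has an `r`-th root if `w` has the smaller `r`-part. -/
theorem le_val_of_no_root (hF : Fintype.card F = q ^ 2) [hr : Fact r.Prime] {z : F}
    (hz : z ^ (q + 1) = 1) {w : ℕ} (hw0 : w ≠ 0) (hw : z ^ w = 1) (hno : ∀ t : F, t ^ r ≠ z) :
    padicValNat r (q + 1) ≤ padicValNat r w := by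
  classical
  by_contra hlt
  push Not at hlt
  have hq := UnitPow.two_le hF
  obtain ⟨c, hc⟩ := Nat.gcd_dvd_right w (q + 1)
  have hrc : r ∣ c := by
    by_contra hrc
    have h1 : r ^ padicValNat r (q + 1) ∣ Nat.gcd w (q + 1) :=
      (Nat.Coprime.pow_left _ ((Nat.Prime.coprime_iff_not_dvd hr.out).2 hrc)).dvd_of_dvd_mul_right
        (hc ▸ pow_padicValNat_dvd)
    have := (padicValNat_dvd_iff_le hw0).1 (h1.trans (Nat.gcd_dvd_left _ _))
    omega
  obtain ⟨c', rfl⟩ := hrc
  have hz0 : z ≠ 0 := fun h => by rw [h, zero_pow (by omega)] at hz; exact zero_ne_one hz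
  obtain ⟨g, hg⟩ := IsCyclic.exists_generator (α := Fˣ)
  obtain ⟨k, hk⟩ := Submonoid.mem_powers_iff _ _ |>.1 (mem_powers_iff_mem_zpowers.2 (hg (Units.mk0 z hz0)))
  have hgz : z ^ Nat.gcd w (q + 1) = 1 := pow_gcd_eq_one.2 ⟨hw, hz⟩
  have h2 : g ^ (k * Nat.gcd w (q + 1)) = 1 := by
    rw [pow_mul, hk]
    exact Units.ext (by push_cast; exact hgz)
  have h3 := orderOf_dvd_of_pow_eq_one h2
  rw [orderOf_eq_card_of_forall_mem_zpowers hg, Nat.card_units, Nat.card_eq_fintype_card, hF,
    show q ^ 2 - 1 = (q + 1) * (q - 1) by rw [← Nat.sq_sub_sq, one_pow]] at h3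
  nth_rewrite 1 [hc] at h3
  rw [show Nat.gcd w (q + 1) * (r * c') * (q - 1) = Nat.gcd w (q + 1) * (r * (c' * (q - 1))) by ring, mul_comm k] at h3
  have h4 : r ∣ k := (dvd_mul_right r _).trans
    (Nat.dvd_of_mul_dvd_mul_left (Nat.gcd_pos_of_pos_right _ (by omega)) h3)
  obtain ⟨k', rfl⟩ := h4
  refine hno ((g ^ k' : Fˣ) : F) ?_
  rw [← Units.val_pow_eq_pow_val, ← pow_mul, mul_comm, hk, Units.val_mk0]

end CfsgLib.PrimeElusive.UnitFix
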