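import Cfsg.Agent.Lib.PrimeElusive.UnitFixOrbit
import Cfsg.Agent.Lib.PrimeElusive.UnitFixDiag

/-!
Non-degenerate subspaces of the standard hermitian space: frames, splitting of unitary matrices, and the primes
dividing their number.
-/

set_option autoImplicit false
set_option linter.unusedSectionVars false

open scoped MatrixGroups Pointwise

namespace CfsgLib.PrimeElusive.UnitFix

open Matrix CfsgLib.PrimeClasses CfsgLib.GeomClasses

variable {F : Type*} [Field F] [Fintype F] {q n m r : ℕ}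

/-- Orthonormal coordinates of a non-degenerate subspace. -/
theorem exists_std_sub (hF : Fintype.card F = q ^ 2) {W : Submodule F (Fin n → F)} (hd : Module.finrank F W = m)
    (hW : ∀ u ∈ W, u ≠ 0 → ∃ v ∈ W, Cfsg.hermForm n F q u v ≠ 0) :
    ∃ f : (Fin m → F) →ₗ[F] (Fin n → F), Function.Injective f ∧ LinearMap.range f = W ∧
      ∀ a b, Cfsg.hermForm n F q (f a) (f b) = Cfsg.hermForm m F q a b := by
  have hu := UnitPow.isUnitaryForm_hermForm hF n
  have hp := UnitPow.hermForm_pow hF n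
  let e := Module.finBasisOfFinrankEq F W hd
  let g : (Fin m → F) →ₗ[F] (Fin n → F) := W.subtype ∘ₗ (e.equivFun.symm : (Fin m → F) ≃ₗ[F] W).toLinearMap
  have hgW : ∀ a, g a ∈ W := fun a => Submodule.coe_mem _
  have hginj : Function.Injective g := Subtype.val_injective.comp e.equivFun.symm.injective
  have hgsurj : ∀ w ∈ W, ∃ a, g a = w := fun w hw => ⟨e.equivFun ⟨w, hw⟩, by simp [g]⟩
  let f' : (Fin m → F) → (Fin m → F) → F := fun a b => Cfsg.hermForm n F q (g a) (g b)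
  have hf' : Cfsg.Geo.IsUnitaryFormPow q f' := by
    refine ⟨fun x y v => ?_, fun c x v => ?_, fun v w => hp.herm _ _, fun v hv => ?_⟩
    · simp only [f', map_add]; exact hp.add_left _ _ _
    · simp only [f', map_smul]; exact hp.smul_left _ _ _
    · obtain ⟨w, hw, hne⟩ := hW _ (hgW v) fun h0 => hv (hginj (by rw [h0, map_zero]))
      obtain ⟨a, rfl⟩ := hgsurj w hw
      exact ⟨⟨a, Unit.ne_zero_comm hu hne⟩, ⟨a, hne⟩⟩
  obtain ⟨E, hE⟩ := UnitarySimilitude.exists_std hF hf'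
  refine ⟨g ∘ₗ E.toLinearMap, hginj.comp E.injective, le_antisymm ?_ ?_, hE⟩
  · rintro _ ⟨a, rfl⟩; exact hgW _
  · intro w hw
    obtain ⟨a, rfl⟩ := hgsurj w hw
    exact ⟨E.symm a, by simp⟩

theorem perp_nondeg (hF : Fintype.card F = q ^ 2) {W : Submodule F (Fin n → F)}
    (hW : ∀ u ∈ W, u ≠ 0 → ∃ v ∈ W, Cfsg.hermForm n F q u v ≠ 0) :
    IsCompl W (Unit.perp (UnitPow.isUnitaryForm_hermForm hF n) W) ∧
      ∀ u ∈ Unit.perp (UnitPow.isUnitaryForm_hermForm hF n) W, u ≠ 0 →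
        ∃ v ∈ Unit.perp (UnitPow.isUnitaryForm_hermForm hF n) W, Cfsg.hermForm n F q u v ≠ 0 := by
  set hu := UnitPow.isUnitaryForm_hermForm hF n
  have hc := Unit.isCompl_perp hu (W := W) fun x hx hx0 => by
    obtain ⟨v, hv, hne⟩ := hW x hx hx0
    exact ⟨⟨v, hv, Unit.ne_zero_comm hu hne⟩, ⟨v, hv, hne⟩⟩
  refine ⟨hc, fun u hu' hu0 => ?_⟩
  obtain ⟨x, hx⟩ := (hu.nondegenerate u hu0).2
  obtain ⟨a, ha, b, hb, rfl⟩ := Submodule.mem_sup.1 (hc.sup_eq_top ▸ Submodule.mem_top : x ∈ W ⊔ Unit.perp hu W)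
  refine ⟨b, hb, ?_⟩
  rwa [Unit.add_right hu, (Unit.mem_perp hu).1 hu' a ha, zero_add] at hx

/-- Coordinates adapted to a non-degenerate subspace and its perpendicular. -/
theorem exists_frame (hF : Fintype.card F = q ^ 2) {k : ℕ} (hn : n = m + k) {W : Submodule F (Fin n → F)}
    (hd : Module.finrank F W = m) (hW : ∀ u ∈ W, u ≠ 0 → ∃ v ∈ W, Cfsg.hermForm n F q u v ≠ 0) :
    ∃ Φ : (Fin m ⊕ Fin k → F) ≃ₗ[F] (Fin n → F),
      (∀ a b, Cfsg.hermForm n F q (Φ a) (Φ b) =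
        Cfsg.hermForm m F q (a ∘ Sum.inl) (b ∘ Sum.inl) + Cfsg.hermForm k F q (a ∘ Sum.inr) (b ∘ Sum.inr)) ∧
      (∀ v, v ∈ W ↔ Φ.symm v ∘ Sum.inr = 0) ∧
      ∀ v, v ∈ Unit.perp (UnitPow.isUnitaryForm_hermForm hF n) W ↔ Φ.symm v ∘ Sum.inl = 0 := by
  set hu := UnitPow.isUnitaryForm_hermForm hF n
  obtain ⟨hc, hP⟩ := perp_nondeg hF hW
  obtain ⟨f, hfi, hfr, hff⟩ := exists_std_sub hF hd hW
  obtain ⟨g, hgi, hgr, hgg⟩ := exists_std_sub hF (m := k) (W := Unit.perp hu W) (by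
    have := Unit.finrank_perp hu W
    rw [Fintype.card_fin] at this
    omega) hP
  let L : (Fin m ⊕ Fin k → F) →ₗ[F] (Fin n → F) :=
    f ∘ₗ LinearMap.funLeft F F Sum.inl + g ∘ₗ LinearMap.funLeft F F Sum.inr
  have hL : ∀ a, L a = f (a ∘ Sum.inl) + g (a ∘ Sum.inr) := fun a => rfl
  have hfW : ∀ a, f a ∈ W := fun a => hfr ▸ LinearMap.mem_range_self f a
  have hgW : ∀ a, g a ∈ Unit.perp hu W := fun a => hgr ▸ LinearMap.mem_range_self g a
  have hinj : Function.Injective L := by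
    rw [injective_iff_map_eq_zero]
    intro c hc0
    rw [hL] at hc0
    have h0 : f (c ∘ Sum.inl) = 0 := Submodule.disjoint_def.1 hc.disjoint _ (hfW _)
      (by rw [eq_neg_of_add_eq_zero_left hc0]; exact Submodule.neg_mem _ (hgW _))
    rw [h0, zero_add] at hc0
    funext x
    rcases x with x | x
    · exact congrFun (hfi (h0.trans (map_zero f).symm)) x
    · exact congrFun (hgi (hc0.trans (map_zero g).symm)) x
  let Φ := LinearEquiv.ofInjectiveOfFinrankEq L hinj (by simp [hn])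
  have hΦ : ∀ a, Φ a = L a := fun a => rfl
  refine ⟨Φ, fun a b => ?_, fun v => ?_, fun v => ?_⟩
  · rw [hΦ, hΦ, hL, hL, Unit.add_left hu, Unit.add_right hu, Unit.add_right hu, hff, hgg,
      Unit.eq_zero_comm hu ((Unit.mem_perp hu).1 (hgW _) _ (hfW _)), (Unit.mem_perp hu).1 (hgW _) _ (hfW _),
      add_zero, zero_add]
  · obtain ⟨a, rfl⟩ := Φ.surjective v
    rw [Φ.symm_apply_apply, hΦ, hL]
    constructor
    · intro hv
      have h0 : g (a ∘ Sum.inr) ∈ W := by simpa using W.sub_mem hv (hfW (a ∘ Sum.inl))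
      exact hgi ((Submodule.disjoint_def.1 hc.disjoint _ h0 (hgW _)).trans (map_zero g).symm)
    · intro h
      rw [h, map_zero, add_zero]
      exact hfW _
  · obtain ⟨a, rfl⟩ := Φ.surjective v
    rw [Φ.symm_apply_apply, hΦ, hL]
    constructor
    · intro hv
      have h0 : f (a ∘ Sum.inl) ∈ Unit.perp hu W := by simpa using Submodule.sub_mem _ hv (hgW (a ∘ Sum.inr))
      exact hfi ((Submodule.disjoint_def.1 hc.disjoint _ (hfW _) h0).trans (map_zero f).symm)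
    · intro h
      rw [h, map_zero, zero_add]
      exact hgW _

/-- An isometry fixing `W` fixes its perpendicular. -/
theorem perp_invariant (hF : Fintype.card F = q ^ 2) {X : Matrix (Fin n) (Fin n) F} (hX : IsU q X)
    {W : Submodule F (Fin n → F)} (hW : ∀ v ∈ W, X *ᵥ v ∈ W) :
    ∀ v ∈ Unit.perp (UnitPow.isUnitaryForm_hermForm hF n) W,
      X *ᵥ v ∈ Unit.perp (UnitPow.isUnitaryForm_hermForm hF n) W := by
  intro v hv
  obtain ⟨g, hg, rfl⟩ := hX.gl hF
  have hinj : Function.Injective (Matrix.toLin' (g : Matrix (Fin n) (Fin n) F)) := fun a b hab => by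
    rw [Matrix.toLin'_apply, Matrix.toLin'_apply] at hab
    simpa using congrArg ((↑g⁻¹ : Matrix (Fin n) (Fin n) F) *ᵥ ·) hab
  have hmap : W.map (Matrix.toLin' (g : Matrix (Fin n) (Fin n) F)) = W :=
    Submodule.eq_of_le_of_finrank_eq (map_le_iff.2 hW) (Submodule.equivMapOfInjective _ hinj W).finrank_eq.symm
  refine (Unit.mem_perp _).2 fun w hw => ?_
  rw [← hmap] at hw
  obtain ⟨w', hw', rfl⟩ := hw
  rw [Matrix.toLin'_apply, UnitPow.mem_GU.1 hg]
  exact (Unit.mem_perp _).1 hv w' hw'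

/-- A block matrix fixes a non-degenerate subspace. -/
theorem hasND_blocks (hF : Fintype.card F = q ^ 2) {k : ℕ} (A : Matrix (Fin m) (Fin m) F)
    (D : Matrix (Fin k) (Fin k) F) :
    HasND q m (Matrix.reindex finSumFinEquiv finSumFinEquiv (Matrix.fromBlocks A 0 0 D)) := by
  have hq0 : q ≠ 0 := by have := UnitPow.two_le hF; omega
  let ι₀ : (Fin m → F) →ₗ[F] (Fin (m + k) → F) :=
    { toFun := fun a x => Sum.elim a 0 (finSumFinEquiv.symm x)
      map_add' := fun a a' => funext fun x => by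
        rcases h : finSumFinEquiv.symm x with y | y <;> simp [h]
      map_smul' := fun s a => funext fun x => by
        rcases h : finSumFinEquiv.symm x with y | y <;> simp [h] }
  have hι : ∀ a x, ι₀ a x = Sum.elim a 0 (finSumFinEquiv.symm x) := fun a x => rfl
  have hform : ∀ a b, Cfsg.hermForm (m + k) F q (ι₀ a) (ι₀ b) = Cfsg.hermForm m F q a b := fun a b => by
    rw [Cfsg.hermForm, Cfsg.hermForm, ← finSumFinEquiv.sum_comp, Fintype.sum_sum_type]
    simp [hι, -finSumFinEquiv_apply_left, -finSumFinEquiv_apply_right, hq0]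
  have hinj : Function.Injective ι₀ := fun a b hab => funext fun i => by
    simpa [hι, -finSumFinEquiv_apply_left] using congrFun hab (finSumFinEquiv (Sum.inl i))
  refine ⟨LinearMap.range ι₀, by rw [LinearMap.finrank_range_of_inj hinj, Module.finrank_fin_fun], ?_, ?_⟩
  · rintro _ ⟨a, rfl⟩ hne
    have ha : a ≠ 0 := fun h => hne (by rw [h, map_zero])
    obtain ⟨b, hb⟩ := ((UnitPow.isUnitaryForm_hermForm hF m).nondegenerate a ha).2
    exact ⟨ι₀ b, LinearMap.mem_range_self _ b, by rw [hform]; exact hb⟩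
  · rintro _ ⟨a, rfl⟩
    refine ⟨A *ᵥ a, funext fun x => ?_⟩
    rw [Matrix.reindex_apply, Matrix.submatrix_mulVec_equiv]
    obtain ⟨y, rfl⟩ := finSumFinEquiv.surjective x
    rcases y with y | y <;>
      simp [hι, Function.comp_def, Matrix.fromBlocks_mulVec, -finSumFinEquiv_apply_left,
        -finSumFinEquiv_apply_right, ← Pi.zero_def]

theorem reindex_blocks_isU (hF : Fintype.card F = q ^ 2) {k : ℕ} {A : Matrix (Fin m) (Fin m) F}
    {D : Matrix (Fin k) (Fin k) F} (hA : IsU q A) (hD : IsU q D) :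
    IsU q (Matrix.reindex finSumFinEquiv finSumFinEquiv (Matrix.fromBlocks A 0 0 D)) := by
  have hq0 : q ≠ 0 := by have := UnitPow.two_le hF; omega
  rw [IsU, CfsgLib.PrimeClasses.ctr_fromBlocks hq0, CfsgLib.PrimeClasses.reindex_mul, Matrix.fromBlocks_multiply]
  simp only [show _ = _ from hA, show _ = _ from hD, Matrix.mul_zero, Matrix.zero_mul, add_zero, zero_add,
    Matrix.fromBlocks_one, CfsgLib.PrimeClasses.reindex_one]

section Split

variable [hr : Fact r.Prime] {L : Type*} [Field L] [Algebra F L] {ζ : L} (hζ : IsPrimitiveRoot ζ r)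

/-- An invariant non-degenerate subspace splits the tuple. -/
theorem split_of_ND (hF : Fintype.card F = q ^ 2) (hrK : (r : F) ≠ 0) {k : ℕ} (hn : n = m + k)
    {X : Matrix (Fin n) (Fin n) F} (hX : X ^ r = 1) (hXu : IsU q X) (h : HasND q m X) :
    ∃ c₁ c₂ : Orbits hrK → ℕ, IsSym (gOrb hF hrK) c₁ ∧ IsSym (gOrb hF hrK) c₂ ∧
      orderOf (Fintype.card F : ZMod r) * ∑ ω, c₁ ω ≤ m ∧ orderOf (Fintype.card F : ZMod r) * ∑ ω, c₂ ω ≤ k ∧
      orbitMult hζ hrK X = c₁ + c₂ := by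
  classical
  obtain ⟨W, hd, hW, hWX⟩ := h
  obtain ⟨Φ, hΦ, hΦW, hΦP⟩ := exists_frame hF hn hd hW
  have hPX := perp_invariant hF hXu hWX
  let T : (Fin m ⊕ Fin k → F) →ₗ[F] (Fin m ⊕ Fin k → F) :=
    Φ.symm.toLinearMap ∘ₗ Matrix.toLin' X ∘ₗ Φ.toLinearMap
  have hT : ∀ a, T a = Φ.symm (X *ᵥ Φ a) := fun a => rfl
  set Y := LinearMap.toMatrix' T
  have hYv : ∀ a, Y *ᵥ a = Φ.symm (X *ᵥ Φ a) := fun a => (LinearMap.toMatrix'_mulVec T a).trans (hT a)
  have hl : ∀ a : Fin m ⊕ Fin k → F, a ∘ Sum.inr = 0 → (Y *ᵥ a) ∘ Sum.inr = 0 := fun a ha => by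
    rw [hYv, ← hΦW]
    exact hWX _ ((hΦW _).2 (by rw [Φ.symm_apply_apply]; exact ha))
  have hr' : ∀ a : Fin m ⊕ Fin k → F, a ∘ Sum.inl = 0 → (Y *ᵥ a) ∘ Sum.inl = 0 := fun a ha => by
    rw [hYv, ← hΦP]
    exact hPX _ ((hΦP _).2 (by rw [Φ.symm_apply_apply]; exact ha))
  set A := Y.toBlocks₁₁
  set D := Y.toBlocks₂₂
  have hYb : Y = fromBlocks A 0 0 D := by
    ext (i | i) (j | j)
    · rfl
    · have := congrFun (hr' (Pi.single (Sum.inr j) 1) (funext fun x => by simp)) i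
      simpa using this
    · have := congrFun (hl (Pi.single (Sum.inl j) 1) (funext fun x => by simp)) i
      simpa using this
    · rfl
  have hXv : ∀ a, X *ᵥ Φ a = Φ (Y *ᵥ a) := fun a => by rw [hYv, Φ.apply_symm_apply]
  have hpow : ∀ (l : ℕ) a, (X ^ l) *ᵥ Φ a = Φ ((Y ^ l) *ᵥ a) := fun l => by
    induction l with
    | zero => simp
    | succ l ih => intro a; rw [pow_succ', pow_succ', ← Matrix.mulVec_mulVec, ih, hXv, Matrix.mulVec_mulVec]
  have hYr : Y ^ r = 1 := Matrix.ext_of_mulVec_single fun j => Φ.injective (by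
    rw [← hpow, hX, Matrix.one_mulVec, Matrix.one_mulVec])
  have hblk : fromBlocks (A ^ r) 0 0 (D ^ r) = (1 : Matrix (Fin m ⊕ Fin k) (Fin m ⊕ Fin k) F) := by
    rw [← CfsgLib.PrimeClasses.fromBlocks_pow, ← hYb, hYr]
  rw [← Matrix.fromBlocks_one] at hblk
  obtain ⟨hAr, -, -, hDr⟩ := Matrix.fromBlocks_inj.1 hblk
  have hiso := (isU_iff_herm hF).1 hXu
  have hAu : IsU q A := (isU_iff_herm hF).2 fun u v => by
    have h1 := hiso (Φ (Sum.elim u 0)) (Φ (Sum.elim v 0))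
    rw [hXv, hXv, hΦ, hΦ, hYb, Matrix.fromBlocks_mulVec, Matrix.fromBlocks_mulVec] at h1
    simpa using h1
  have hDu : IsU q D := (isU_iff_herm hF).2 fun u v => by
    have h1 := hiso (Φ (Sum.elim 0 u)) (Φ (Sum.elim 0 v))
    rw [hXv, hXv, hΦ, hΦ, hYb, Matrix.fromBlocks_mulVec, Matrix.fromBlocks_mulVec] at h1
    simpa using h1
  refine ⟨orbitMult hζ hrK A, orbitMult hζ hrK D, GU_isSym hζ hF hrK hAr hAu, GU_isSym hζ hF hrK hDr hDu, ?_, ?_, ?_⟩
  · simpa using weight_orbitMult_le hζ hrK hAr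
  · simpa using weight_orbitMult_le hζ hrK hDr
  · obtain ⟨X', -, hX'c, hX'v⟩ := exists_transport hζ hrK Φ hYr
    have hXX : X' = X := Matrix.ext_of_mulVec_single fun j => by
      obtain ⟨a, ha⟩ := Φ.surjective (Pi.single j 1)
      rw [← ha, hX'v, hXv]
    rw [← hXX, hX'c, hYb, orbitMult_fromBlocks]

/-- Conversely. -/
theorem hasND_of_split (hF : Fintype.card F = q ^ 2) (hr2 : r ≠ 2) (hrK : (r : F) ≠ 0) {k i : ℕ}
    (hi : i = orderOf (q : ZMod r)) (hgen : Algebra.adjoin F ({ζ} : Set L) = ⊤) (hn : n = m + k)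
    {X : Matrix (Fin n) (Fin n) F} (hX : X ^ r = 1) (hXu : IsU q X) (c₁ c₂ : Orbits hrK → ℕ)
    (hs₁ : IsSym (gOrb hF hrK) c₁) (hs₂ : IsSym (gOrb hF hrK) c₂)
    (h₁ : orderOf (Fintype.card F : ZMod r) * ∑ ω, c₁ ω ≤ m) (h₂ : orderOf (Fintype.card F : ZMod r) * ∑ ω, c₂ ω ≤ k)
    (hc : orbitMult hζ hrK X = c₁ + c₂) : HasND q m X := by
  subst hn
  obtain ⟨A, hA, hAu, hAc⟩ := realised_of_le hζ hF hr2 hi hs₁ h₁
  obtain ⟨D, hD, hDu, hDc⟩ := realised_of_le hζ hF hr2 hi hs₂ h₂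
  set M := Matrix.reindex finSumFinEquiv finSumFinEquiv (Matrix.fromBlocks A 0 0 D)
  have hMr : M ^ r = 1 := by
    rw [CfsgLib.PrimeClasses.reindex_pow, CfsgLib.PrimeClasses.fromBlocks_pow, hA, hD, Matrix.fromBlocks_one,
      CfsgLib.PrimeClasses.reindex_one]
  have hMu : IsU q M := reindex_blocks_isU hF hAu hDu
  obtain ⟨g, hg, rfl⟩ := exists_GU_conj hF hMu hXu (exists_conj_of_orbitMult hζ hgen hrK hMr hX (by
    rw [hc, orbitMult_reindex, orbitMult_fromBlocks, hAc, hDc]))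
  exact (hasND_blocks hF A D).conj hg

end Split

/-- A prime not dividing `q` that divides the number of non-degenerate `m`-spaces. -/
theorem of_dvd_countND (hF : Fintype.card F = q ^ 2) [hr : Fact r.Prime] (hrq : ¬ r ∣ q) (hmn : m ≤ n)
    (h : r ∣ Nat.card {W : Submodule F (Fin n → F) //
      Module.finrank F ↥W = m ∧ (∀ u ∈ W, u ≠ 0 → ∃ v ∈ W, Cfsg.hermForm n F q u v ≠ 0)}) :
    ∃ j, n - m < j ∧ j ≤ n ∧ (-(q : ZMod r)) ^ j = 1 := by
  classical
  have : Finite ((Fin n → F) ≃ₗ[F] (Fin n → F)) :=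
    Finite.of_injective (fun g => (g : (Fin n → F) → (Fin n → F))) DFunLike.coe_injective
  have hu := UnitPow.isUnitaryForm_hermForm hF n
  set k := n - m
  obtain ⟨W₀, hd, hW, -⟩ := hasND_monomial hF (1 : Equiv.Perm (Fin n)) (fun _ => 1)
    (Finset.univ.filter fun i : Fin n => (i : ℕ) < m) (m := m)
    (by rw [Fin.card_filter_val_lt]; omega) (fun i hi => hi)
  obtain ⟨Φ, hΦ, hΦW, -⟩ := exists_frame hF (show n = m + k by omega) hd hW
  have horb : Nat.card {W : Submodule F (Fin n → F) //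
      Module.finrank F ↥W = m ∧ (∀ u ∈ W, u ≠ 0 → ∃ v ∈ W, Cfsg.hermForm n F q u v ≠ 0)} =
      (MulAction.orbit (isoEquiv n F q) W₀).ncard := by
    rw [← Nat.card_coe_set_eq]
    refine Nat.card_congr (Equiv.subtypeEquivRight fun W => ⟨fun hh => ?_, ?_⟩)
    · obtain ⟨Ψ, hΨ, hΨW, -⟩ := exists_frame hF (show n = m + k by omega) hh.1 hh.2
      refine ⟨⟨Φ.symm.trans Ψ, fun u v => ?_⟩, ?_⟩
      · show Cfsg.hermForm n F q (Ψ (Φ.symm u)) (Ψ (Φ.symm v)) = _
        rw [hΨ, ← hΦ, Φ.apply_symm_apply, Φ.apply_symm_apply]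
      · show W₀.map (Φ.symm.trans Ψ).toLinearMap = W
        refine le_antisymm ?_ fun w hw => ⟨Φ (Ψ.symm w), (hΦW _).2 ?_, ?_⟩
        · rintro _ ⟨x, hx, rfl⟩
          rw [LinearEquiv.coe_toLinearMap, LinearEquiv.trans_apply, hΨW, Ψ.symm_apply_apply]
          exact (hΦW x).1 hx
        · rw [Φ.symm_apply_apply]; exact (hΨW w).1 hw
        · rw [LinearEquiv.coe_toLinearMap, LinearEquiv.trans_apply, Φ.symm_apply_apply, Ψ.apply_symm_apply]
    · rintro ⟨⟨g, hg⟩, rfl⟩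
      show Module.finrank F ↥(W₀.map g.toLinearMap) = m ∧ ∀ u ∈ W₀.map g.toLinearMap, u ≠ 0 →
        ∃ v ∈ W₀.map g.toLinearMap, Cfsg.hermForm n F q u v ≠ 0
      refine ⟨(LinearEquiv.finrank_map_eq g W₀).trans hd, ?_⟩
      rintro _ ⟨u, hu', rfl⟩ hne
      obtain ⟨v, hv, hv'⟩ := hW u hu' fun h0 => hne (by rw [h0, map_zero])
      refine ⟨g v, Submodule.mem_map_of_mem hv, ?_⟩
      rw [LinearEquiv.coe_toLinearMap, hg]
      exact hv'
  rw [horb, ← MulAction.index_stabilizer] at h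
  let R : Cfsg.GU k F q → (Fin m ⊕ Fin k → F) →ₗ[F] (Fin m ⊕ Fin k → F) := fun D =>
    Matrix.toLin' (Matrix.fromBlocks 1 0 0 ((D : GL (Fin k) F) : Matrix (Fin k) (Fin k) F))
  have hR : ∀ D a, R D a = Sum.elim (a ∘ Sum.inl) (((D : GL (Fin k) F) : Matrix (Fin k) (Fin k) F) *ᵥ (a ∘ Sum.inr)) :=
    fun D a => by simp [R, Matrix.fromBlocks_mulVec]
  have hRinj : ∀ D, Function.Injective (R D) := fun D a b hab => by
    rw [hR, hR] at hab
    funext x
    rcases x with x | x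
    · exact congrFun hab (Sum.inl x)
    · have h2 : ((D : GL (Fin k) F) : Matrix (Fin k) (Fin k) F) *ᵥ (a ∘ Sum.inr) =
          ((D : GL (Fin k) F) : Matrix (Fin k) (Fin k) F) *ᵥ (b ∘ Sum.inr) :=
        funext fun y => congrFun hab (Sum.inr y)
      have h3 := congrArg ((↑(D : GL (Fin k) F)⁻¹ : Matrix (Fin k) (Fin k) F) *ᵥ ·) h2
      simp only [Matrix.mulVec_mulVec, Units.inv_mul, Matrix.one_mulVec] at h3
      exact congrFun h3 x
  let ψ : Cfsg.GU k F q → isoEquiv n F q := fun D =>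
    ⟨(Φ.symm.trans (LinearEquiv.ofInjectiveEndo (R D) (hRinj D))).trans Φ, fun u v => by
      show Cfsg.hermForm n F q (Φ (R D (Φ.symm u))) (Φ (R D (Φ.symm v))) = _
      conv_rhs => rw [← Φ.apply_symm_apply u, ← Φ.apply_symm_apply v, hΦ]
      rw [hΦ, hR, hR, Sum.elim_comp_inl, Sum.elim_comp_inr, Sum.elim_comp_inl, Sum.elim_comp_inr]
      congr 1
      exact D.2 (Φ.symm u ∘ Sum.inr) (Φ.symm v ∘ Sum.inr)⟩
  have hψ : ∀ D v, ((ψ D).1 : (Fin n → F) ≃ₗ[F] (Fin n → F)) v = Φ (R D (Φ.symm v)) := fun D v => rfl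
  have hmul : ∀ D D', ψ (D * D') = ψ D * ψ D' := fun D D' => Subtype.ext (LinearEquiv.ext fun v => by
    show Φ (R (D * D') _) = Φ (R D (Φ.symm (Φ (R D' _))))
    rw [Φ.symm_apply_apply, hR, hR, hR]
    simp [Matrix.mulVec_mulVec])
  let ψh : Cfsg.GU k F q →* isoEquiv n F q := MonoidHom.mk' ψ hmul
  have hψinj : Function.Injective ψh := fun D D' hDD => CfsgLib.UnitaryEmbed.gu_ext fun w => by
    have h1 := DFunLike.congr_fun (congrArg Subtype.val hDD) (Φ (Sum.elim 0 w))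
    change ((ψ D).1 : (Fin n → F) ≃ₗ[F] (Fin n → F)) _ = ((ψ D').1 : (Fin n → F) ≃ₗ[F] (Fin n → F)) _ at h1
    rw [hψ, hψ, Φ.symm_apply_apply, Φ.injective.eq_iff, hR, hR, Sum.elim_comp_inr] at h1
    funext j
    exact congrFun h1 (Sum.inr j)
  have hle : ψh.range ≤ MulAction.stabilizer (isoEquiv n F q) W₀ := by
    rintro _ ⟨D, rfl⟩
    refine smul_eq_of_map_le (g := ((ψ D).1 : (Fin n → F) ≃ₗ[F] (Fin n → F))) ?_
    rintro _ ⟨v, hv, rfl⟩
    rw [SetLike.mem_coe, hΦW] at hv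
    rw [hΦW, LinearEquiv.coe_toLinearMap, hψ, Φ.symm_apply_apply, hR, Sum.elim_comp_inr, hv, Matrix.mulVec_zero]
  have hlt : padicValNat r (Nat.card (Cfsg.GU k F q)) < padicValNat r (Nat.card (Cfsg.GU n F q)) := by
    have h1 : r ∣ ψh.range.index := h.trans (Subgroup.index_dvd_of_le hle)
    have h2 : Nat.card (Cfsg.GU k F q) * ψh.range.index = Nat.card (Cfsg.GU n F q) := by
      rw [Nat.card_congr (MonoidHom.ofInjective hψinj).toEquiv, Subgroup.card_mul_index, card_isoEquiv]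
    rw [← h2, padicValNat.mul Nat.card_pos.ne' Subgroup.index_ne_zero_of_finite]
    have := one_le_padicValNat_of_dvd Subgroup.index_ne_zero_of_finite h1
    omega
  exact exists_factor hF hrq k n (by omega) hlt

end CfsgLib.PrimeElusive.UnitFix
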