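import Mathlib

/-!
Invariant spans of basis pieces, and endomorphisms whose `r`-th power is a scalar without root.
-/

set_option autoImplicit false

namespace CfsgLib.PrimeElusive

open Module Polynomial

variable {F V : Type*} [Field F] [AddCommGroup V] [Module F V]

theorem span_piece_inv {ι L : Type*} (B : Basis ι F V) (β : ι → L) {T : Module.End F V}
    (hT : ∀ i, T (B i) ∈ Submodule.span F (B '' {l | β l = β i})) (S : Set L) :
    (Submodule.span F (B '' (β ⁻¹' S))).map T ≤ Submodule.span F (B '' (β ⁻¹' S)) := by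
  rw [Submodule.map_span, Submodule.span_le]
  rintro _ ⟨_, ⟨i, hi, rfl⟩, rfl⟩
  refine Submodule.span_mono (Set.image_mono ?_) (hT i)
  intro l hl
  show β l ∈ S
  rw [show β l = β i from hl]
  exact hi

theorem finrank_span_piece {ι : Type*} [Finite ι] (B : Basis ι F V) (s : Set ι) :
    finrank F ↥(Submodule.span F (B '' s)) = Nat.card s := by
  have : Fintype s := Fintype.ofFinite _
  have h := finrank_span_eq_card (b := fun i : s => B i)
    (B.linearIndependent.comp _ Subtype.val_injective)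
  rw [Set.image_eq_range, h, Nat.card_eq_fintype_card]

theorem isCompl_span_piece {ι : Type*} (B : Basis ι F V) (s : Set ι) :
    IsCompl (Submodule.span F (B '' s)) (Submodule.span F (B '' sᶜ)) := by
  refine ⟨B.linearIndependent.disjoint_span_image disjoint_compl_right, codisjoint_iff.2 ?_⟩
  rw [← Submodule.span_union, ← Set.image_union, Set.union_compl_self, Set.image_univ, B.span_eq]

theorem exists_root_of_pow {r : ℕ} (hr : r.Prime) {k : ℕ} (hk : ¬ r ∣ k) {c d : F} (hc : c ≠ 0)
    (h : c ^ k = d ^ r) : ∃ b : F, b ^ r = c := by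
  have hg : Nat.gcd k r = 1 := Nat.coprime_comm.1 ((hr.coprime_iff_not_dvd).2 hk)
  have hb := Nat.gcd_eq_gcd_ab k r
  rw [hg] at hb
  refine ⟨d ^ (Nat.gcdA k r) * c ^ (Nat.gcdB k r), ?_⟩
  calc (d ^ (Nat.gcdA k r) * c ^ (Nat.gcdB k r)) ^ r
      = (d ^ r) ^ (Nat.gcdA k r) * (c ^ r) ^ (Nat.gcdB k r) := by
        rw [mul_pow, ← zpow_natCast, ← zpow_natCast, ← zpow_natCast d, ← zpow_natCast c, ← zpow_mul,
          ← zpow_mul, ← zpow_mul, ← zpow_mul, mul_comm (Nat.gcdA k r), mul_comm (Nat.gcdB k r)]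
    _ = c ^ ((k : ℤ) * Nat.gcdA k r + (r : ℤ) * Nat.gcdB k r) := by
        rw [← h, ← zpow_natCast c k, ← zpow_natCast c r, ← zpow_mul, ← zpow_mul, zpow_add₀ hc]
    _ = c := by rw [← hb, Nat.cast_one, zpow_one]

theorem dvd_finrank_of_rootfree [FiniteDimensional F V] {r : ℕ} (hr : r.Prime) {T : Module.End F V}
    {c : F} (hT : T ^ r = c • 1) (hnp : ∀ b : F, b ^ r ≠ c) {U : Submodule F V} (hU : U.map T ≤ U) :
    r ∣ finrank F ↥U := by
  by_contra hd
  have hc : c ≠ 0 := fun e => hnp 0 (by rw [zero_pow hr.ne_zero, e])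
  have hTU : ∀ v ∈ U, T v ∈ U := fun v hv => hU (Submodule.mem_map_of_mem hv)
  have he : (T.restrict hTU) ^ r = c • 1 := by
    refine LinearMap.ext fun v => Subtype.ext ?_
    rw [Module.End.pow_restrict r hTU, LinearMap.restrict_coe_apply, hT]
    rfl
  have hdet := congrArg LinearMap.det he
  rw [map_pow, LinearMap.det_smul, map_one, mul_one] at hdet
  obtain ⟨b, hb⟩ := exists_root_of_pow hr hd hc hdet.symm
  exact hnp b hb

theorem restrictScalars_smul_pow {K W : Type*} [Field K] [Algebra F K] [AddCommGroup W] [Module F W]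
    [Module K W] [IsScalarTower F K W] (a : K) (j : ℕ) (w : W) :
    (((a • LinearMap.id : W →ₗ[K] W).restrictScalars F : Module.End F W) ^ j) w = a ^ j • w := by
  induction j generalizing w with
  | zero => simp
  | succ j ih => rw [pow_succ', Module.End.mul_apply, ih, pow_succ', mul_smul]; rfl

theorem det_smul_root {r : ℕ} {c : F} (hf : Irreducible (X ^ r - C c : F[X])) {W : Type*} [AddCommGroup W]
    [Module F W] [Module (AdjoinRoot (X ^ r - C c : F[X])) W]
    [IsScalarTower F (AdjoinRoot (X ^ r - C c : F[X])) W]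
    [Module.Finite (AdjoinRoot (X ^ r - C c : F[X])) W] :
    LinearMap.det ((AdjoinRoot.root (X ^ r - C c : F[X]) • LinearMap.id :
      W →ₗ[AdjoinRoot (X ^ r - C c : F[X])] W).restrictScalars F) =
      ((-1) ^ (r + 1) * c) ^ finrank (AdjoinRoot (X ^ r - C c : F[X])) W := by
  have : Fact (Irreducible (X ^ r - C c : F[X])) := ⟨hf⟩
  have hr : 0 < r := by
    by_contra h
    obtain rfl : r = 0 := by omega
    rw [pow_zero, ← C_1, ← C_sub] at hf
    exact hf.not_isUnit (by
      rcases eq_or_ne (1 - c) 0 with e | e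
      · exact absurd (by rw [e, C_0]) hf.ne_zero
      · exact isUnit_C.2 e.isUnit)
  let pb := AdjoinRoot.powerBasis hf.ne_zero
  have hmon : (X ^ r - C c : F[X]).Monic := monic_X_pow_sub_C c hr.ne'
  have hmin : minpoly F pb.gen = X ^ r - C c := by
    rw [AdjoinRoot.powerBasis_gen, AdjoinRoot.minpoly_root hf.ne_zero, hmon.leadingCoeff]; simp
  have hdim : pb.dim = r := by rw [AdjoinRoot.powerBasis_dim, natDegree_X_pow_sub_C]
  have hnorm : Algebra.norm F (AdjoinRoot.root (X ^ r - C c : F[X])) = (-1) ^ (r + 1) * c := by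
    rw [← AdjoinRoot.powerBasis_gen hf.ne_zero, Algebra.PowerBasis.norm_gen_eq_coeff_zero_minpoly pb,
      hmin, hdim]
    simp [coeff_X_pow, hr.ne, pow_succ]
  have : Module.Finite F (AdjoinRoot (X ^ r - C c : F[X])) := pb.finite
  rw [LinearMap.det_restrictScalars, LinearMap.det_smul, LinearMap.det_id, mul_one, map_pow, hnorm]

/-- A map with `T ^ r = c` (no root) makes the space a free module over `F[X]/(X ^ r - c)`. -/
theorem exists_rootfree_basis [FiniteDimensional F V] {r : ℕ} (hr : r.Prime) {T : Module.End F V}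
    {c : F} (hT : T ^ r = c • 1) (hnp : ∀ b : F, b ^ r ≠ c) :
    ∃ (k : ℕ) (B : Basis (Fin k × Fin r) F V),
      (∀ i, T (B i) ∈ Submodule.span F (B '' {l | l.1 = i.1})) ∧
      LinearMap.det T = ((-1) ^ (r + 1) * c) ^ k := by
  have hf : Irreducible (X ^ r - C c : F[X]) := X_pow_sub_C_irreducible_of_prime hr hnp
  have : Fact (Irreducible (X ^ r - C c : F[X])) := ⟨hf⟩
  let φ : AdjoinRoot (X ^ r - C c : F[X]) →+* Module.End F V :=
    Ideal.Quotient.lift _ (aeval T).toRingHom (by
      intro a ha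
      obtain ⟨b, rfl⟩ := Ideal.mem_span_singleton.1 ha
      show aeval T ((X ^ r - C c) * b) = 0
      rw [map_mul, map_sub, map_pow, aeval_X, aeval_C, hT, Algebra.algebraMap_eq_smul_one, sub_self, zero_mul])
  letI : Module (AdjoinRoot (X ^ r - C c : F[X])) V := Module.compHom V φ
  have : IsScalarTower F (AdjoinRoot (X ^ r - C c : F[X])) V := IsScalarTower.of_algebraMap_smul fun a v => by
    show aeval T (C a) v = a • v
    rw [aeval_C, Algebra.algebraMap_eq_smul_one]
    rfl
  have : Module.Finite (AdjoinRoot (X ^ r - C c : F[X])) V := Module.Finite.of_restrictScalars_finite F _ V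
  have hTroot : T = ((AdjoinRoot.root (X ^ r - C c : F[X]) • LinearMap.id :
      V →ₗ[AdjoinRoot (X ^ r - C c : F[X])] V).restrictScalars F) := LinearMap.ext fun v => by
    show T v = aeval T X v
    rw [aeval_X]
  obtain ⟨k, hk⟩ : ∃ k, finrank (AdjoinRoot (X ^ r - C c : F[X])) V = k := ⟨_, rfl⟩
  let pb := AdjoinRoot.powerBasis hf.ne_zero
  have hdim : pb.dim = r := by rw [AdjoinRoot.powerBasis_dim, natDegree_X_pow_sub_C]
  let b := Module.finBasisOfFinrankEq (AdjoinRoot (X ^ r - C c : F[X])) V hk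
  let B : Basis (Fin k × Fin r) F V := ((pb.basis.smulTower b).reindex
    ((Equiv.prodComm _ _).trans ((Equiv.refl _).prodCongr (finCongr hdim))))
  refine ⟨k, B, ?_, ?_⟩
  · intro ⟨i, j⟩
    have hB : ∀ j : Fin r, B (i, j) = pb.gen ^ (j : ℕ) • b i := fun j => by
      simp [B, Basis.smulTower_apply, pb.coe_basis]
    have hspan : ∀ z : AdjoinRoot (X ^ r - C c : F[X]),
        z • b i ∈ Submodule.span F (B '' {l | l.1 = i}) := by
      intro z
      rw [← pb.basis.sum_repr z, Finset.sum_smul]
      refine Submodule.sum_mem _ fun s _ => ?_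
      rw [smul_assoc]
      refine Submodule.smul_mem _ _ (Submodule.subset_span ⟨(i, finCongr hdim s), rfl, ?_⟩)
      rw [hB, pb.coe_basis]
      rfl
    rw [hB, show T (pb.gen ^ (j : ℕ) • b i) =
      AdjoinRoot.root (X ^ r - C c : F[X]) • (pb.gen ^ (j : ℕ) • b i) from LinearMap.congr_fun hTroot _, smul_smul]
    exact hspan _
  · rw [hTroot, det_smul_root hf, hk]

theorem exists_rootfree_witness {r : ℕ} (hr : r.Prime) {c : F} (hnp : ∀ b : F, b ^ r ≠ c) {n k : ℕ}
    (hn : n = r * k) :
    ∃ T : Module.End F (Fin n → F), T ^ r = c • 1 ∧ LinearMap.det T = ((-1) ^ (r + 1) * c) ^ k := by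
  have hf : Irreducible (X ^ r - C c : F[X]) := X_pow_sub_C_irreducible_of_prime hr hnp
  have : Fact (Irreducible (X ^ r - C c : F[X])) := ⟨hf⟩
  let pb := AdjoinRoot.powerBasis hf.ne_zero
  have hdim : pb.dim = r := by rw [AdjoinRoot.powerBasis_dim, natDegree_X_pow_sub_C]
  have : Module.Finite F (AdjoinRoot (X ^ r - C c : F[X])) := pb.finite
  have hfr : finrank F (Fin k → AdjoinRoot (X ^ r - C c : F[X])) = finrank F (Fin n → F) := by
    rw [Module.finrank_pi_fintype, Finset.sum_const, Finset.card_univ, Fintype.card_fin, pb.finrank, hdim,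
      Module.finrank_fin_fun, smul_eq_mul, hn, mul_comm]
  let e := LinearEquiv.ofFinrankEq _ _ hfr
  let R : Module.End F (Fin k → AdjoinRoot (X ^ r - C c : F[X])) :=
    (AdjoinRoot.root (X ^ r - C c : F[X]) • LinearMap.id :
      (Fin k → AdjoinRoot (X ^ r - C c : F[X])) →ₗ[AdjoinRoot (X ^ r - C c : F[X])]
        (Fin k → AdjoinRoot (X ^ r - C c : F[X]))).restrictScalars F
  refine ⟨e.conj R, ?_, ?_⟩
  · have hpow : ∀ (j : ℕ) v, (e.conj R ^ j) v = e ((R ^ j) (e.symm v)) := by
      intro j
      induction j with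
      | zero => intro v; simp
      | succ j ih =>
        intro v
        rw [pow_succ', Module.End.mul_apply, ih, pow_succ', Module.End.mul_apply, LinearEquiv.conj_apply_apply,
          LinearEquiv.symm_apply_apply]
    refine LinearMap.ext fun v => ?_
    rw [hpow, restrictScalars_smul_pow]
    show _ = c • v
    have hr' : AdjoinRoot.root (X ^ r - C c : F[X]) ^ r = algebraMap F _ c := by
      rw [← sub_eq_zero, ← AdjoinRoot.mk_X, ← map_pow, AdjoinRoot.algebraMap_eq, ← AdjoinRoot.mk_C, ← map_sub,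
        AdjoinRoot.mk_self]
    rw [hr', algebraMap_smul, map_smul, LinearEquiv.apply_symm_apply]
  · rw [LinearEquiv.conj_apply, LinearMap.comp_assoc, LinearMap.det_conj, det_smul_root hf,
      Module.finrank_fin_fun]

end CfsgLib.PrimeElusive
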