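import Cfsg.Agent.Lib.Maximal99.SemiR
import Cfsg.Agent.Lib.PrimeElusive.Pieces

/-!
Elements of `SL(n)` of prime order `r ≠ p` modulo scalars, with invariant structures on them.
-/

set_option autoImplicit false

namespace CfsgLib.PrimeElusive

open Module

variable {F : Type*} [Field F] [Fintype F]

theorem pow_eq_one_iff_root {r q : ℕ} [Fact r.Prime] (hq : Fintype.card F = q) (hr : r ∣ q - 1) {e : F}
    (he : e ≠ 0) : e ^ ((q - 1) / r) = 1 ↔ ∃ b : F, b ^ r = e := by
  classical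
  have hcard : Fintype.card Fˣ = q - 1 := by rw [Fintype.card_units, hq]
  obtain ⟨g, hg⟩ := IsCyclic.exists_generator (α := Fˣ)
  have hog : orderOf g = q - 1 := by
    rw [orderOf_eq_card_of_forall_mem_zpowers hg, Nat.card_eq_fintype_card, hcard]
  obtain ⟨j, hj⟩ := mem_powers_iff_mem_zpowers.2 (hg (Units.mk0 e he))
  have hje : (g : F) ^ j = e := by rw [← Units.val_pow_eq_pow_val, show g ^ j = Units.mk0 e he from hj]; rfl
  constructor
  · intro h
    have h' : g ^ (j * ((q - 1) / r)) = 1 := Units.ext (by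
      rw [Units.val_pow_eq_pow_val, pow_mul, hje, h, Units.val_one])
    have hd := orderOf_dvd_of_pow_eq_one h'
    rw [hog] at hd
    have hq1 : 0 < q - 1 := by rw [← hcard]; exact Fintype.card_pos
    have hpos : 0 < (q - 1) / r := Nat.div_pos (Nat.le_of_dvd hq1 hr) (Fact.out : r.Prime).pos
    obtain ⟨t, rfl⟩ : r ∣ j := by
      refine Nat.dvd_of_mul_dvd_mul_right hpos ?_
      rwa [Nat.mul_div_cancel' hr]
    exact ⟨(g : F) ^ t, by rw [← pow_mul, mul_comm, hje]⟩
  · rintro ⟨b, rfl⟩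
    rw [← pow_mul, Nat.mul_div_cancel' hr]
    exact hq ▸ FiniteField.pow_card_sub_one_eq_one b fun hb => he (by rw [hb, zero_pow (Fact.out : r.Prime).ne_zero])

/-- An element killed by `k` is an `r`-th power if the `r`-part of `k` is smaller than that of `q - 1`. -/
theorem exists_root_of_small {r q k : ℕ} [Fact r.Prime] (hq : Fintype.card F = q) (hr : r ∣ q - 1) (hk : 0 < k)
    (hv : padicValNat r k < padicValNat r (q - 1)) {e : F} (he : e ≠ 0) (hek : e ^ k = 1) :
    ∃ b : F, b ^ r = e := by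
  rw [← pow_eq_one_iff_root hq hr he]
  have hdq : orderOf e ∣ q - 1 := orderOf_dvd_of_pow_eq_one (hq ▸ FiniteField.pow_card_sub_one_eq_one e he)
  have hdk : orderOf e ∣ k := orderOf_dvd_of_pow_eq_one hek
  refine orderOf_dvd_iff_pow_eq_one.1 ?_
  obtain ⟨t, ht⟩ := hdq
  have hrt : r ∣ t := by
    by_contra hrt
    have h1 : r ^ padicValNat r (q - 1) ∣ orderOf e * t := ht ▸ pow_padicValNat_dvd
    have h2 := (((Fact.out : r.Prime).coprime_iff_not_dvd.2 hrt).pow_left _).dvd_of_dvd_mul_right h1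
    exact absurd ((padicValNat_dvd_iff_le hk.ne').1 (h2.trans hdk)) (not_le.2 hv)
  obtain ⟨s, rfl⟩ := hrt
  rw [ht, show orderOf e * (r * s) = r * (orderOf e * s) by ring, Nat.mul_div_cancel_left _ (Fact.out : r.Prime).pos]
  exact dvd_mul_right _ _

theorem exists_nonroot_of_large {r q k : ℕ} [Fact r.Prime] (hq : Fintype.card F = q) (hr : r ∣ q - 1)
    (hv : r ^ padicValNat r (q - 1) ∣ k) : ∃ e : F, e ^ k = 1 ∧ ∀ b : F, b ^ r ≠ e := by
  classical
  have hcard : Fintype.card Fˣ = q - 1 := by rw [Fintype.card_units, hq]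
  obtain ⟨g, hg⟩ := IsCyclic.exists_generator (α := Fˣ)
  have hog : orderOf g = q - 1 := by
    rw [orderOf_eq_card_of_forall_mem_zpowers hg, Nat.card_eq_fintype_card, hcard]
  have hq1 : 0 < q - 1 := by rw [← hcard]; exact Fintype.card_pos
  set v := padicValNat r (q - 1) with hvdef
  obtain ⟨t, ht⟩ : r ^ v ∣ q - 1 := pow_padicValNat_dvd
  have ht0 : 0 < t := Nat.pos_of_ne_zero fun e => by rw [e, mul_zero] at ht; omega
  have hrt : ¬ r ∣ t := by
    rintro ⟨s, rfl⟩
    have : r ^ (v + 1) ∣ q - 1 := ⟨s, by rw [ht, pow_succ]; ring⟩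
    exact absurd ((padicValNat_dvd_iff_le hq1.ne').1 this) (by omega)
  refine ⟨((g ^ t : Fˣ) : F), ?_, fun b hb => ?_⟩
  · obtain ⟨s, rfl⟩ := hv
    rw [← Units.val_pow_eq_pow_val, ← pow_mul, show t * (r ^ v * s) = (r ^ v * t) * s by ring, ← ht, ← hog,
      pow_mul, pow_orderOf_eq_one, one_pow, Units.val_one]
  · have h1 := (pow_eq_one_iff_root hq hr (Units.ne_zero (g ^ t))).2 ⟨b, hb⟩
    have h2 : g ^ (t * ((q - 1) / r)) = 1 := Units.ext (by
      rw [pow_mul, Units.val_pow_eq_pow_val, h1, Units.val_one])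
    have hd := orderOf_dvd_of_pow_eq_one h2
    rw [hog] at hd
    refine hrt (Nat.dvd_of_mul_dvd_mul_right (Nat.div_pos (Nat.le_of_dvd hq1 hr) (Fact.out : r.Prime).pos) ?_)
    rwa [Nat.mul_div_cancel' hr]

theorem exists_root_sign {r q k : ℕ} [Fact r.Prime] (hq : Fintype.card F = q) (hr : r ∣ q - 1) (hk : 0 < k)
    (hv : padicValNat r (r * k) ≤ padicValNat r (q - 1)) (h2 : r = 2 → q % 4 = 1) {c : F} (hc : c ≠ 0)
    (hck : ((-1) ^ (r + 1) * c) ^ k = 1) : ∃ b : F, b ^ r = c := by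
  have hvk : padicValNat r k < padicValNat r (q - 1) := by
    rw [padicValNat.mul (Fact.out : r.Prime).ne_zero hk.ne', padicValNat_self] at hv
    omega
  have hs : ((-1 : F) ^ (r + 1)) ≠ 0 := pow_ne_zero _ (neg_ne_zero.2 one_ne_zero)
  obtain ⟨b, hb⟩ := exists_root_of_small hq hr hk hvk (mul_ne_zero hs hc) hck
  rcases (Fact.out : r.Prime).eq_two_or_odd' with rfl | hodd
  · obtain ⟨s, hs⟩ := (FiniteField.isSquare_neg_one_iff (F := F)).2 (by rw [hq, h2 rfl]; decide)
    refine ⟨s * b, ?_⟩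
    rw [mul_pow, hb, sq s, ← hs]
    ring
  · exact ⟨b, by rw [hb, (hodd.add_odd odd_one).neg_one_pow, one_mul]⟩

theorem exists_nonroot_sign {r q n : ℕ} [Fact r.Prime] (hq : Fintype.card F = q) (hr : r ∣ q - 1) (hn : 0 < n)
    (h : ¬ (padicValNat r n ≤ padicValNat r (q - 1) ∧ (r = 2 → Even n → q % 4 = 1))) :
    ∃ (c : F) (k : ℕ), (∀ b : F, b ^ r ≠ c) ∧ n = r * k ∧ ((-1) ^ (r + 1) * c) ^ k = 1 := by
  have hq1 : 0 < q - 1 := by
    have := Fintype.one_lt_card (α := F)
    omega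
  by_cases hspec : r = 2 ∧ Even n ∧ q % 4 ≠ 1
  · obtain ⟨rfl, ⟨k, hk⟩, h4⟩ := hspec
    refine ⟨-1, k, fun b hb => ?_, by omega, by norm_num⟩
    have h3 := (FiniteField.isSquare_neg_one_iff (F := F)).1 ⟨b, by rw [← hb, sq]⟩
    rw [hq] at h3
    omega
  have hv : padicValNat r (q - 1) + 1 ≤ padicValNat r n := by
    by_contra hlt
    exact h ⟨by omega, fun h2 he => by by_contra h4; exact hspec ⟨h2, he, h4⟩⟩
  obtain ⟨s, hs⟩ := (padicValNat_dvd_iff_le hn.ne').2 hv
  obtain ⟨e, he1, he2⟩ := exists_nonroot_of_large (k := r ^ padicValNat r (q - 1) * s) hq hr (dvd_mul_right _ _)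
  refine ⟨(-1) ^ (r + 1) * e, r ^ padicValNat r (q - 1) * s, fun b hb => ?_, by rw [hs, pow_succ]; ring, ?_⟩
  · rcases (Fact.out : r.Prime).eq_two_or_odd' with h2 | hodd
    · subst h2
      have hne : Even n := ⟨2 ^ padicValNat 2 (q - 1) * s, by rw [hs, pow_succ]; ring⟩
      obtain ⟨w, hw⟩ := (FiniteField.isSquare_neg_one_iff (F := F)).2 (by
        rw [hq]
        intro h4
        exact hspec ⟨rfl, hne, by omega⟩)
      refine he2 (w * b) ?_
      rw [mul_pow, hb, sq w, ← hw]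
      ring
    · refine he2 b ?_
      rw [hb, (hodd.add_odd odd_one).neg_one_pow, one_mul]
  · rw [← mul_assoc, ← pow_add, show (-1 : F) ^ (r + 1 + (r + 1)) = 1 from Even.neg_one_pow ⟨r + 1, rfl⟩, one_mul, he1]

theorem exists_split_witness {r q c n : ℕ} [Fact r.Prime] (hq : Fintype.card F = q) (hc : c = orderOf (q : ZMod r))
    (hc1 : 1 < c) (hr0 : (r : F) ≠ 0) :
    ∃ x : Matrix.SpecialLinearGroup (Fin n) F, (Matrix.toLin' (x : Matrix (Fin n) (Fin n) F)) ^ r = 1 ∧
      finrank F ↥(LinearMap.ker (Matrix.toLin' (x : Matrix (Fin n) (Fin n) F) - 1 : Module.End F (Fin n → F))) = n % c := by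
  obtain ⟨x, -, hx, -, -, -, -, -, hrk⟩ := CfsgLib.SemiR.exists_witness hq hc hc1 hr0 (n := n) (e := n / c) (k := n % c)
    (by rw [mul_comm]; exact Nat.div_add_mod n c)
  refine ⟨x, by rw [← Matrix.toLin'_pow, hx, Matrix.toLin'_one]; rfl, ?_⟩
  have h := LinearMap.finrank_range_add_finrank_ker
    (Matrix.toLinAlgEquiv' (x : Matrix (Fin n) (Fin n) F) - 1 : Module.End F (Fin n → F))
  rw [hrk, Module.finrank_fin_fun] at h
  show finrank F ↥(LinearMap.ker (Matrix.toLinAlgEquiv' (x : Matrix (Fin n) (Fin n) F) - 1 : Module.End F (Fin n → F))) = n % c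
  have := Nat.div_add_mod n c
  rw [mul_comm] at this
  omega

theorem orderOf_pos_of_ne {p q r : ℕ} [Fact p.Prime] [CharP F p] [Fact r.Prime] (hq : Fintype.card F = q)
    (hrp : r ≠ p) : 0 < orderOf (q : ZMod r) :=
  (orderOf_pos_iff.2 (isOfFinOrder_iff_pow_eq_one.2 ⟨r - 1, Nat.sub_pos_of_lt (Fact.out : r.Prime).one_lt,
    ZMod.pow_card_sub_one_eq_one (CfsgLib.OrderR.natCast_ne_zero_of_card hq hrp)⟩))

theorem det_scalar_ne {n : ℕ} (hn : 0 < n) (x : Matrix.SpecialLinearGroup (Fin n) F) {s : F}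
    (h : (x : Matrix (Fin n) (Fin n) F) = s • (1 : Matrix (Fin n) (Fin n) F)) : s ≠ 0 := by
  rintro rfl
  have h1 := x.2
  have : Nonempty (Fin n) := ⟨⟨0, hn⟩⟩
  rw [h, zero_smul, Matrix.det_zero] at h1
  exact zero_ne_one h1

theorem master {p q r n m : ℕ} [Fact p.Prime] [CharP F p] [Fact r.Prime] (hq : Fintype.card F = q) (hrp : r ≠ p)
    (hn : 0 < n) (P : Module.End F (Fin n → F) → Prop) (num : Prop)
    (hscale : ∀ (T : Module.End F (Fin n → F)) (d : F), P T → P (d • T))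
    (hsplit : ∀ T : Module.End F (Fin n → F), T ^ r = 1 → num → P T)
    (hroot : ∀ (T : Module.End F (Fin n → F)) (c : F), (∀ b : F, b ^ r ≠ c) → T ^ r = c • 1 → r ∣ m → P T)
    (hroot' : ∀ (T : Module.End F (Fin n → F)) (c : F), (∀ b : F, b ^ r ≠ c) → T ^ r = c • 1 → P T → r ∣ m)
    (hsplit' : ∀ T : Module.End F (Fin n → F), T ^ r = 1 →
      finrank F ↥(LinearMap.ker (T - 1)) = n % orderOf (q : ZMod r) → P T → num)
    (hP1 : P 1) (hnum1 : orderOf (q : ZMod r) = 1 → num) (hbig : num → orderOf (q : ZMod r) ≤ m) :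
    (∀ x : Matrix.SpecialLinearGroup (Fin n) F,
      (∃ c : F, ((x ^ r : Matrix.SpecialLinearGroup (Fin n) F) : Matrix (Fin n) (Fin n) F) = c • (1 : Matrix (Fin n) (Fin n) F)) →
      (∀ c : F, (x : Matrix (Fin n) (Fin n) F) ≠ c • (1 : Matrix (Fin n) (Fin n) F)) →
      P (Matrix.toLin' (x : Matrix (Fin n) (Fin n) F))) ↔
    ((orderOf (q : ZMod r) = 1 ∧ (r ∣ m ∨ (padicValNat r n ≤ padicValNat r (q - 1) ∧ (r = 2 → Even n → q % 4 = 1)))) ∨
      (2 ≤ orderOf (q : ZMod r) ∧ orderOf (q : ZMod r) ≤ m ∧ num)) := by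
  have hi0 : 0 < orderOf (q : ZMod r) := orderOf_pos_of_ne hq hrp
  have hr0 : (r : F) ≠ 0 := CfsgLib.OrderR.cast_ne_zero hrp
  have hq1 : 1 ≤ q := hq ▸ Fintype.card_pos
  have hrdvd : orderOf (q : ZMod r) = 1 → r ∣ q - 1 := fun h => by
    simpa using (CfsgLib.OrderR.orderOf_dvd_iff (r := r) (m := 1) hq1).1 (h ▸ dvd_rfl)
  have hPs : ∀ (x : Matrix.SpecialLinearGroup (Fin n) F) (s : F),
      (x : Matrix (Fin n) (Fin n) F) = s • (1 : Matrix (Fin n) (Fin n) F) →
      P (Matrix.toLin' (x : Matrix (Fin n) (Fin n) F)) := fun x s h => by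
    rw [h, map_smul, Matrix.toLin'_one]
    exact hscale 1 s hP1
  have hto : ∀ (x : Matrix.SpecialLinearGroup (Fin n) F) (c : F),
      ((x ^ r : Matrix.SpecialLinearGroup (Fin n) F) : Matrix (Fin n) (Fin n) F) = c • (1 : Matrix (Fin n) (Fin n) F) ↔
      (Matrix.toLin' (x : Matrix (Fin n) (Fin n) F)) ^ r = c • 1 := fun x c => by
    rw [← Matrix.toLin'_pow, ← Matrix.SpecialLinearGroup.coe_pow,
      show (c • 1 : Module.End F (Fin n → F)) = Matrix.toLin' (c • (1 : Matrix (Fin n) (Fin n) F)) by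
        rw [map_smul, Matrix.toLin'_one]; rfl, Matrix.toLin'.injective.eq_iff]
  constructor
  · intro H
    have hall : ∀ (x : Matrix.SpecialLinearGroup (Fin n) F) (c : F),
        (Matrix.toLin' (x : Matrix (Fin n) (Fin n) F)) ^ r = c • 1 → P (Matrix.toLin' (x : Matrix (Fin n) (Fin n) F)) := by
      intro x c hxc
      by_cases hs : ∃ s : F, (x : Matrix (Fin n) (Fin n) F) = s • (1 : Matrix (Fin n) (Fin n) F)
      · obtain ⟨s, hs⟩ := hs
        exact hPs x s hs
      · push Not at hs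
        exact H x ⟨c, (hto x c).2 hxc⟩ hs
    rcases Nat.lt_or_ge (orderOf (q : ZMod r)) 2 with h1 | h2
    · left
      refine ⟨by omega, or_iff_not_imp_left.2 fun hrm => ?_⟩
      by_contra hA
      obtain ⟨c, k, hc, hnk, hck⟩ := exists_nonroot_sign hq (hrdvd (by omega)) hn hA
      obtain ⟨T, hT, hdet⟩ := exists_rootfree_witness (Fact.out : r.Prime) hc hnk
      let x : Matrix.SpecialLinearGroup (Fin n) F := ⟨LinearMap.toMatrix' T, by rw [LinearMap.det_toMatrix', hdet, hck]⟩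
      have hx : Matrix.toLin' (x : Matrix (Fin n) (Fin n) F) = T := Matrix.toLin'_toMatrix' T
      have := hall x c (by rw [hx, hT])
      rw [hx] at this
      exact hrm (hroot' T c hc hT this)
    · right
      have hnum : num := by
        obtain ⟨x, hx, hker⟩ := exists_split_witness (n := n) hq rfl (show 1 < orderOf (q : ZMod r) by omega) hr0
        exact hsplit' _ hx hker (hall x 1 (by rw [hx, one_smul]))
      exact ⟨h2, hbig hnum, hnum⟩
  · intro hcond x ⟨c, hxc⟩ _
    rw [hto] at hxc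
    set T : Module.End F (Fin n → F) := Matrix.toLin' (x : Matrix (Fin n) (Fin n) F) with hTdef
    have hdetT : LinearMap.det T = 1 := by rw [hTdef, LinearMap.det_toLin', x.2]
    have hnum : num := by
      rcases hcond with ⟨h1, -⟩ | ⟨-, -, h⟩
      · exact hnum1 h1
      · exact h
    have hc0 : c ≠ 0 := by
      rintro rfl
      have := congrArg LinearMap.det hxc
      rw [map_pow, hdetT, one_pow, zero_smul, LinearMap.det_zero, Module.finrank_fin_fun, zero_pow hn.ne'] at this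
      exact one_ne_zero this
    by_cases hd : ∃ b : F, b ^ r = c
    · obtain ⟨b, hb⟩ := hd
      have hb0 : b ≠ 0 := by rintro rfl; exact hc0 (by rw [← hb, zero_pow (Fact.out : r.Prime).ne_zero])
      have h1 : (b⁻¹ • T) ^ r = 1 := by
        rw [smul_pow, hxc, smul_smul, ← hb, ← mul_pow, inv_mul_cancel₀ hb0, one_pow, one_smul]
      have := hscale _ b (hsplit _ h1 hnum)
      rwa [smul_smul, mul_inv_cancel₀ hb0, one_smul] at this
    · push Not at hd
      refine hroot T c hd hxc ?_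
      by_contra hrm
      obtain ⟨k, B, -, hdet⟩ := exists_rootfree_basis (Fact.out : r.Prime) hxc hd
      have hnk := Module.finrank_eq_card_basis B
      simp only [Module.finrank_fin_fun, Fintype.card_prod, Fintype.card_fin] at hnk
      have hk : 0 < k := Nat.pos_of_ne_zero fun e => by simp [e] at hnk; omega
      rcases hcond with ⟨h1, hA⟩ | ⟨h2, -, -⟩
      · obtain ⟨hv, h4⟩ := hA.resolve_left hrm
        obtain ⟨b, hb⟩ := exists_root_sign hq (hrdvd h1) hk (by rwa [mul_comm, ← hnk])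
          (fun h => h4 h ⟨k, by rw [hnk, h]; ring⟩) hc0 (by rw [← hdet, hdetT])
        exact hd b hb
      · have hcop : ¬ r ∣ q - 1 := fun h => by
          have : orderOf (q : ZMod r) ∣ 1 := (CfsgLib.OrderR.orderOf_dvd_iff hq1).2 (by rwa [pow_one])
          rw [Nat.dvd_one] at this
          omega
        obtain ⟨b, hb⟩ := exists_root_of_pow (Fact.out : r.Prime) hcop (d := 1) hc0
          (by rw [one_pow]; exact hq ▸ FiniteField.pow_card_sub_one_eq_one c hc0)
        exact hd b hb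

end CfsgLib.PrimeElusive
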