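import Cfsg.Agent.Lib.PrimeElusive.FormTests
import Cfsg.Agent.Lib.PrimeElusive.Master
import Cfsg.Agent.Lib.GeomClasses.UnitPow
import Cfsg.Agent.Lib.UnitaryEmbed.HermSpace
import Cfsg.Agent.Lib.PrimeClasses.Unitary
import Cfsg.Agent.Lib.ClassicalGroups.HermGroup
import Cfsg.Agent.Lib.Maximal99.ConjTools

/-!
Which elements of prime order of `SL(n, q₀²)` are similitudes of some form equivalent to a given unitary
form.
-/

set_option autoImplicit false
set_option linter.unusedSectionVars false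

namespace CfsgLib.PrimeElusive.UnitarySimilitude

open Matrix CfsgLib.PrimeClasses

variable {F : Type*} [Field F] [Fintype F] {q₀ : ℕ}

section Split

/-- In the split case some diagonal element has no pairing of its values to a constant. -/
theorem exists_split_witness {r n : ℕ} [hr : Fact r.Prime] (hF : Fintype.card F = q₀ ^ 2) (hr2 : r ≠ 2)
    (hn : 3 ≤ n) (hdvd : r ∣ q₀ - 1) (hgap : ¬ (n = 6 ∧ r = 3))
    (hno : ¬ ((r = 3 ∨ r = 5) ∧ n = r ∧ padicValNat r (q₀ - 1) = 1)) :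
    ∃ d : Fin n → F, ∏ i, d i = 1 ∧ (∀ i j, d i ^ r = d j ^ r) ∧ (∃ i j, d i ≠ d j) ∧ (∀ i, d i ^ q₀ = d i) ∧
      ∀ (c : F) (σ : Equiv.Perm (Fin n)), ¬ ∀ i, d i * d (σ i) = c := by
  classical
  have hq := CfsgLib.GeomClasses.UnitPow.two_le hF
  have hq1 : q₀ - 1 ≠ 0 := by omega
  have hdiv : q₀ - 1 ∣ q₀ ^ 2 - 1 := Nat.sub_one_dvd_pow_sub_one q₀ 2
  have hfix : ∀ {a : F}, a ^ (q₀ - 1) = 1 → a ^ q₀ = a := fun {a} h => by
    conv_lhs => rw [← Nat.sub_add_cancel (show 1 ≤ q₀ by omega), pow_succ, h, one_mul]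
  have hroot : ∀ m, m ∣ q₀ - 1 → ∃ μ : F, IsPrimitiveRoot μ m := fun m hm => by
    obtain ⟨u, hu⟩ := IsCyclic.exists_ofOrder_eq_natCard (α := Fˣ)
    rw [Nat.card_units, Nat.card_eq_fintype_card, hF] at hu
    obtain ⟨k, hk⟩ := hm.trans hdiv
    have hq2 : 0 < q₀ ^ 2 - 1 := Nat.pos_of_ne_zero fun h => hq1 (Nat.eq_zero_of_zero_dvd (by
      have := Nat.le_self_pow two_ne_zero q₀
      omega))
    have hk0 : k ≠ 0 := fun h => by rw [hk, h, mul_zero] at hq2; exact lt_irrefl _ hq2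
    refine ⟨((u ^ k : Fˣ) : F), IsPrimitiveRoot.coe_units_iff.2 ?_⟩
    have ho : orderOf (u ^ k) = m := by
      rw [orderOf_pow' _ hk0, hu, hk, Nat.gcd_mul_left_left, Nat.mul_div_cancel _ (Nat.pos_of_ne_zero hk0)]
    exact ho ▸ IsPrimitiveRoot.orderOf _
  by_cases hbad : (r = 3 ∨ r = 5) ∧ n = r
  · obtain ⟨hr35, hnr⟩ := hbad
    have hv2 : r ^ 2 ∣ q₀ - 1 := (padicValNat_dvd_iff_le hq1).2 (by
      have := (padicValNat_dvd_iff_le hq1).1 (show r ^ 1 ∣ q₀ - 1 by rwa [pow_one])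
      have hv : padicValNat r (q₀ - 1) ≠ 1 := fun h => hno ⟨hr35, hnr, h⟩
      omega)
    obtain ⟨μ, hμ⟩ := hroot _ hv2
    have hμ0 : μ ≠ 0 := hμ.ne_zero (pow_ne_zero _ hr.out.ne_zero)
    have hω : IsPrimitiveRoot (μ ^ r) r := hμ.pow (pow_pos hr.out.pos 2) (by rw [pow_two])
    have hμq : μ ^ q₀ = μ := hfix (by
      obtain ⟨k, hk⟩ := hv2
      rw [hk, pow_mul, hμ.pow_eq_one, one_pow])
    let i0 : Fin n := ⟨0, by omega⟩
    let d : Fin n → F := fun i => if i = i0 then μ * (μ ^ r)⁻¹ else μ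
    have hd0 : d i0 = μ * (μ ^ r)⁻¹ := if_pos rfl
    have hdn : ∀ i, i ≠ i0 → d i = μ := fun i hi => if_neg hi
    have hneq : μ * (μ ^ r)⁻¹ ≠ μ := fun h => hω.ne_one hr.out.one_lt
      (inv_eq_one.1 (mul_left_cancel₀ hμ0 (h.trans (mul_one μ).symm)))
    refine ⟨d, ?_, fun i j => ?_, ⟨i0, ⟨1, by omega⟩, by rw [hd0, hdn _ (by simp [i0])]; exact hneq⟩,
      fun i => ?_, fun c σ hσ => ?_⟩
    · rw [← Finset.mul_prod_erase Finset.univ d (Finset.mem_univ i0), Finset.prod_congr rfl (g := fun _ => μ)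
        (fun i hi => hdn i (Finset.ne_of_mem_erase hi)), Finset.prod_const, Finset.card_erase_of_mem
        (Finset.mem_univ i0), Finset.card_univ, Fintype.card_fin, hd0, mul_comm μ, mul_assoc, ← pow_succ',
        Nat.sub_add_cancel (by omega), hnr, inv_mul_cancel₀ (pow_ne_zero _ hμ0)]
    · simp only [d]
      split_ifs <;> simp [mul_pow, inv_pow, hω.pow_eq_one]
    · simp only [d]
      split_ifs
      · rw [mul_pow, inv_pow, ← pow_mul, mul_comm r, pow_mul, hμq]
      · exact hμq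
    · obtain ⟨i, hi, hσi⟩ : ∃ i, i ≠ i0 ∧ σ i ≠ i0 := by
        obtain ⟨i, -, hi⟩ := Finset.exists_mem_notMem_of_card_lt_card (s := {i0, σ.symm i0}) (t := Finset.univ)
          ((Finset.card_le_two).trans_lt (by rw [Finset.card_univ, Fintype.card_fin]; omega))
        simp at hi
        exact ⟨i, hi.1, fun h => hi.2 (by rw [← h, Equiv.symm_apply_apply])⟩
      have hc := hσ i
      rw [hdn _ hi, hdn _ hσi] at hc
      have h0 := hσ i0
      by_cases h00 : σ i0 = i0
      · rw [h00, hd0, ← hc] at h0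
        have h4 : (μ ^ r) ^ 2 = 1 := by
          have hne : (μ ^ r) ≠ 0 := pow_ne_zero _ hμ0
          field_simp at h0
          linear_combination -h0
        have := Nat.le_of_dvd two_pos (hω.dvd_of_pow_eq_one 2 h4)
        have := hr.out.two_le
        omega
      · rw [hd0, hdn _ h00, ← hc] at h0
        exact hneq (mul_right_cancel₀ hμ0 h0)
  · obtain ⟨ω, hω⟩ := hroot r hdvd
    obtain ⟨e, he0, ⟨i, j, hij⟩, hunb⟩ := FormTests.exists_unbalanced hr2 hn hgap hbad
    refine ⟨fun k => rootChar hω (e k), by rw [← FormTests.rootChar_sum, he0, AddChar.map_zero_eq_one],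
      fun a b => by rw [rootChar_pow_self, rootChar_pow_self],
      ⟨i, j, fun h => hij (FormTests.rootChar_injective hω h)⟩, fun a => hfix ?_, fun c σ hσ => ?_⟩
    · obtain ⟨k, hk⟩ := hdvd
      rw [hk, pow_mul, rootChar_pow_self, one_pow]
    · obtain ⟨t, ht⟩ := exists_rootChar_eq hω (c := c) (by
        rw [← hσ i, mul_pow, rootChar_pow_self, rootChar_pow_self, one_mul])
      exact hunb t σ fun k => FormTests.rootChar_injective hω (by
        rw [AddChar.map_add_eq_mul]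
        exact (hσ k).trans ht.symm)

end Split

variable {n : ℕ} {f : (Fin n → F) → (Fin n → F) → F}

theorem exists_GL_equiv (E : (Fin n → F) ≃ₗ[F] (Fin n → F)) :
    ∃ E' : GL (Fin n) F, ∀ v, (E' : Matrix (Fin n) (Fin n) F) *ᵥ v = E v :=
  ⟨⟨LinearMap.toMatrix' E.toLinearMap, LinearMap.toMatrix' E.symm.toLinearMap,
      by rw [← LinearMap.toMatrix'_comp, LinearEquiv.comp_symm, LinearMap.toMatrix'_id],
      by rw [← LinearMap.toMatrix'_comp, LinearEquiv.symm_comp, LinearMap.toMatrix'_id]⟩,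
    fun v => LinearMap.toMatrix'_mulVec E.toLinearMap v⟩

/-- All unitary forms are equivalent to the standard one. -/
theorem exists_std (hF : Fintype.card F = q₀ ^ 2) (hf : Cfsg.Geo.IsUnitaryFormPow q₀ f) :
    ∃ E : (Fin n → F) ≃ₗ[F] (Fin n → F), ∀ u v, f (E u) (E v) = Cfsg.hermForm n F q₀ u v := by
  have hu := CfsgLib.GeomClasses.UnitPow.isUnitaryForm_of_pow hF hf
  set σ := CfsgLib.GeomClasses.UnitPow.conj (F := F) hF
  let B : (Fin n → F) →ₛₗ[(σ : F →+* F)] (Fin n → F) →ₗ[F] F :=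
    LinearMap.mk₂'ₛₗ (σ : F →+* F) (RingHom.id F) (fun u v => f v u)
      (fun x y v => CfsgLib.GeomClasses.Unit.add_right hu _ _ _)
      (fun c x v => CfsgLib.GeomClasses.Unit.smul_right hu _ _ _)
      (fun v x y => CfsgLib.GeomClasses.Unit.add_left hu _ _ _)
      (fun c v x => CfsgLib.GeomClasses.Unit.smul_left hu _ _ _)
  obtain ⟨e, he⟩ := CfsgLib.UnitaryEmbed.exists_std_equiv hF (σ : F →+* F) (fun x => rfl)
    (fun hh => CfsgLib.GeomClasses.UnitPow.conj_ne_refl hF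
      (RingEquiv.ext fun x => congrFun (congrArg DFunLike.coe hh) x)) hu.involutive B
    (fun u v => CfsgLib.GeomClasses.Unit.conj_form hu v u) (fun u h => by
      by_contra hu0
      obtain ⟨x, hx⟩ := (hf.nondegenerate u hu0).1
      exact hx (h x)) (Module.finrank_fin_fun F)
  exact ⟨e, he⟩

theorem mem_similarity {g : GL (Fin n) F} :
    g ∈ Cfsg.Geo.similarityGroup f ↔ ∃ c : Fˣ, ∀ u v, f ((g : Matrix (Fin n) (Fin n) F) *ᵥ u)
      ((g : Matrix (Fin n) (Fin n) F) *ᵥ v) = (c : F) * f u v := Iff.rfl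

/-- A monomial hermitian form is equivalent to `f`. -/
theorem exists_mono (hF : Fintype.card F = q₀ ^ 2) (hf : Cfsg.Geo.IsUnitaryFormPow q₀ f) {σ : Fin n → Fin n}
    (hσ : Function.Involutive σ) (a : Fin n → F) (ha : ∀ i, a i ≠ 0) (hsym : ∀ i, a (σ i) = a i ^ q₀) :
    ∃ E : (Fin n → F) ≃ₗ[F] (Fin n → F), ∀ u v, f (E u) (E v) = ∑ i, a i * u i * v (σ i) ^ q₀ := by
  classical
  have hq0 : q₀ ≠ 0 := by have := CfsgLib.GeomClasses.UnitPow.two_le hF; omega
  have hcc : ∀ x : F, (x ^ q₀) ^ q₀ = x := CfsgLib.UnitaryEmbed.pow_sq_eq hF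
  let σ' := CfsgLib.GeomClasses.UnitPow.conj (F := F) hF
  let f' : (Fin n → F) → (Fin n → F) → F := fun u v => ∑ i, a i * u i * v (σ i) ^ q₀
  have hf' : Cfsg.Geo.IsUnitaryFormPow q₀ f' := by
    refine ⟨fun x y v => ?_, fun c x v => ?_, fun v w => ?_, fun v hv => ?_⟩
    · simp [f', mul_add, add_mul, Finset.sum_add_distrib]
    · simp only [f', Finset.mul_sum, Pi.smul_apply, smul_eq_mul]
      exact Finset.sum_congr rfl fun i _ => by ring
    · show _ = σ' (f' w v)
      simp only [f', map_sum, map_mul, σ', CfsgLib.GeomClasses.UnitPow.conj_apply, hcc]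
      refine Fintype.sum_equiv hσ.toPerm _ _ fun i => ?_
      simp only [Function.Involutive.coe_toPerm, hsym, hcc, hσ i]
      ring
    · obtain ⟨i, hi⟩ := Function.ne_iff.1 hv
      refine ⟨⟨Pi.single (σ i) 1, ?_⟩, ⟨Pi.single (σ i) 1, ?_⟩⟩
      · show ∑ j, a j * (Pi.single (σ i) (1 : F) : Fin n → F) j * v (σ j) ^ q₀ ≠ 0
        rw [Finset.sum_eq_single (σ i) (fun j _ hj => by simp [hj]) (by simp), hσ i, Pi.single_eq_same, mul_one]
        exact mul_ne_zero (ha _) (pow_ne_zero _ hi)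
      · show ∑ j, a j * v j * (Pi.single (σ i) (1 : F) : Fin n → F) (σ j) ^ q₀ ≠ 0
        rw [Finset.sum_eq_single i (fun j _ hj => by
          simp [hq0, Pi.single_eq_of_ne (fun he => hj (hσ.injective he))]) (by simp), Pi.single_eq_same, one_pow,
          mul_one]
        exact mul_ne_zero (ha _) hi
  obtain ⟨E₁, hE₁⟩ := exists_std hF hf
  obtain ⟨E₂, hE₂⟩ := exists_std hF hf'
  refine ⟨E₂.symm.trans E₁, fun u v => ?_⟩
  obtain ⟨u, rfl⟩ := E₂.surjective u
  obtain ⟨v, rfl⟩ := E₂.surjective v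
  rw [LinearEquiv.trans_apply, LinearEquiv.trans_apply, LinearEquiv.symm_apply_apply, LinearEquiv.symm_apply_apply,
    hE₁, ← hE₂]

/-- The multiplier of a similitude lies in the fixed field. -/
theorem multiplier_fixed (hf : Cfsg.Geo.IsUnitaryFormPow q₀ f) (hn : 0 < n) {g : GL (Fin n) F} {c : F}
    (hc : ∀ u v, f ((g : Matrix (Fin n) (Fin n) F) *ᵥ u) ((g : Matrix (Fin n) (Fin n) F) *ᵥ v) = c * f u v) :
    c ^ q₀ = c := by
  have : Nonempty (Fin n) := ⟨⟨0, hn⟩⟩
  obtain ⟨u, hu⟩ := (hf.nondegenerate 1 one_ne_zero).1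
  have h1 := hc u 1
  rw [hf.herm, hc, mul_pow, ← hf.herm] at h1
  exact mul_right_cancel₀ hu h1

/-- Multipliers of powers. -/
theorem multiplier_pow {g : GL (Fin n) F} {c : F}
    (hc : ∀ u v, f ((g : Matrix (Fin n) (Fin n) F) *ᵥ u) ((g : Matrix (Fin n) (Fin n) F) *ᵥ v) = c * f u v)
    (k : ℕ) : ∀ u v, f (((g ^ k : GL (Fin n) F) : Matrix (Fin n) (Fin n) F) *ᵥ u)
      (((g ^ k : GL (Fin n) F) : Matrix (Fin n) (Fin n) F) *ᵥ v) = c ^ k * f u v := by
  induction k with
  | zero => intro u v; simp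
  | succ k ih => intro u v; rw [pow_succ, Units.val_mul, ← mulVec_mulVec, ← mulVec_mulVec, ih, hc, pow_succ, mul_assoc]

theorem isometry_of_pow (hf : Cfsg.Geo.IsUnitaryFormPow q₀ f) {r q : ℕ} (hr : r.Prime) (hq : Fintype.card F = q)
    (h : ¬ r ∣ q - 1) (hn : 0 < n) {g : GL (Fin n) F} (hg : g ∈ Cfsg.Geo.similarityGroup f) (hr1 : g ^ r = 1) :
    ∀ u v, f ((g : Matrix (Fin n) (Fin n) F) *ᵥ u) ((g : Matrix (Fin n) (Fin n) F) *ᵥ v) = f u v := by
  have : Nonempty (Fin n) := ⟨⟨0, hn⟩⟩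
  obtain ⟨c, hc⟩ := mem_similarity.1 hg
  obtain ⟨u₀, hu⟩ := (hf.nondegenerate 1 one_ne_zero).1
  have h1 := multiplier_pow hc r u₀ 1
  rw [hr1, Units.val_one, one_mulVec, one_mulVec] at h1
  have hcr : (c : F) ^ r = 1 := mul_right_cancel₀ hu (by rw [one_mul]; exact h1.symm)
  have hc1 := FormTests.eq_one_of_pow_eq_one hr hq h (m := 1) (c := (c : F)) (by rwa [pow_one])
  intro u v
  rw [hc, hc1, one_mul]

/-- A similitude whose square is a scalar has a square scalar, in odd characteristic. -/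
theorem isSquare_of_sq (hF : Fintype.card F = q₀ ^ 2) (hodd : ringChar F ≠ 2)
    (hf : Cfsg.Geo.IsUnitaryFormPow q₀ f) (hn : 0 < n) {g : GL (Fin n) F} (hg : g ∈ Cfsg.Geo.similarityGroup f)
    {z : F} (hz : z ≠ 0) (hgz : (g : Matrix (Fin n) (Fin n) F) ^ 2 = z • 1) : IsSquare z := by
  have : Nonempty (Fin n) := ⟨⟨0, hn⟩⟩
  obtain ⟨c, hc⟩ := mem_similarity.1 hg
  have hcf := multiplier_fixed hf hn hc
  obtain ⟨u₀, hu⟩ := (hf.nondegenerate 1 one_ne_zero).1
  have h1 := multiplier_pow hc 2 u₀ 1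
  have hu' := CfsgLib.GeomClasses.UnitPow.isUnitaryForm_of_pow hF hf
  rw [Units.val_pow_eq_pow_val, hgz, smul_mulVec, smul_mulVec, one_mulVec, one_mulVec,
    CfsgLib.GeomClasses.Unit.smul_left hu', CfsgLib.GeomClasses.Unit.smul_right hu',
    CfsgLib.GeomClasses.UnitPow.conj_apply, ← mul_assoc, ← pow_succ'] at h1
  have h2 : z ^ (q₀ + 1) = (c : F) ^ 2 := mul_right_cancel₀ hu h1
  rw [FiniteField.isSquare_iff hodd hz, hF]
  have hodd' : Odd q₀ := by
    by_contra he
    rw [Nat.not_odd_iff_even] at he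
    have h2' := FiniteField.odd_card_of_char_ne_two hodd
    rw [hF] at h2'
    have := Nat.even_iff.1 (he.pow_of_ne_zero two_ne_zero)
    omega
  obtain ⟨m, hm⟩ := hodd'
  have hsq : q₀ ^ 2 / 2 = (q₀ + 1) * m := by
    subst hm
    rw [show (2 * m + 1) ^ 2 = 1 + 2 * ((2 * m + 1 + 1) * m) by ring, Nat.add_mul_div_left _ _ two_pos]
    simp
  rw [hsq, pow_mul, h2, ← pow_mul]
  have : (c : F) ^ (q₀ - 1) = 1 := by
    apply mul_left_cancel₀ c.ne_zero
    rw [← pow_succ', Nat.sub_add_cancel (by omega), hcf, mul_one]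
  rwa [show 2 * m = q₀ - 1 by omega]

/-- Diagonal similitudes: the values pair to a constant. -/
theorem exists_pairing (hF : Fintype.card F = q₀ ^ 2) (hf : Cfsg.Geo.IsUnitaryFormPow q₀ f) {y g : GL (Fin n) F}
    {d : Fin n → F} (hy : y ∈ Cfsg.Geo.similarityGroup f)
    (hyg : (y : Matrix (Fin n) (Fin n) F) * (g : Matrix (Fin n) (Fin n) F) =
      (g : Matrix (Fin n) (Fin n) F) * Matrix.diagonal d) :
    ∃ (c : F) (σ : Equiv.Perm (Fin n)), ∀ i, d (σ i) * d i ^ q₀ = c := by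
  classical
  have hu := CfsgLib.GeomClasses.UnitPow.isUnitaryForm_of_pow hF hf
  obtain ⟨c, hc⟩ := mem_similarity.1 hy
  obtain ⟨E, hE⟩ := exists_std hF hf
  obtain ⟨E', hE'⟩ := exists_GL_equiv E
  set σ' := CfsgLib.GeomClasses.UnitPow.conj (F := F) hF
  set A : Matrix (Fin n) (Fin n) F := ((E'⁻¹ * g : GL (Fin n) F) : Matrix (Fin n) (Fin n) F) with hA
  set e : Fin n → Fin n → F := fun i => (g : Matrix (Fin n) (Fin n) F) *ᵥ Pi.single i 1
  have he : ∀ i, (y : Matrix (Fin n) (Fin n) F) *ᵥ e i = d i • e i := fun i => by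
    show (y : Matrix (Fin n) (Fin n) F) *ᵥ ((g : Matrix (Fin n) (Fin n) F) *ᵥ Pi.single i 1) = _
    rw [mulVec_mulVec, hyg, ← mulVec_mulVec, Matrix.diagonal_mulVec_single, mul_one, ← Matrix.mulVec_smul,
      ← Pi.single_smul', smul_eq_mul, mul_one]
  set M : Matrix (Fin n) (Fin n) F := Aᵀ * A.map σ' with hMdef
  have hMd : M.det ≠ 0 := by
    have h2 : A.det ≠ 0 := ((Matrix.isUnit_iff_isUnit_det _).1 (E'⁻¹ * g).isUnit).ne_zero
    rw [hMdef, det_mul, det_transpose, show A.map σ' = σ'.toRingHom.mapMatrix A from rfl, ← RingHom.map_det]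
    exact mul_ne_zero h2 ((map_ne_zero _).2 h2)
  have hEe : ∀ i, e i = E (A *ᵥ Pi.single i 1) := fun i => by
    rw [← hE', hA, mulVec_mulVec, ← Units.val_mul, mul_inv_cancel_left]
  have hMij : ∀ i j, M i j = f (e i) (e j) := fun i j => by
    rw [hEe, hEe, hE, hMdef]
    simp [Cfsg.hermForm, Matrix.mul_apply, σ']
  obtain ⟨σ, hσ⟩ : ∃ σ : Equiv.Perm (Fin n), ∀ i, M (σ i) i ≠ 0 := by
    by_contra hno
    push Not at hno
    refine hMd ?_
    rw [Matrix.det_apply]
    refine Finset.sum_eq_zero fun σ _ => ?_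
    obtain ⟨i, hi⟩ := hno σ
    exact (congrArg (Equiv.Perm.sign σ • ·)
      (Finset.prod_eq_zero (f := fun i => M (σ i) i) (Finset.mem_univ i) hi)).trans (smul_zero _)
  refine ⟨c, σ, fun i => mul_right_cancel₀ (hσ i) ?_⟩
  have h1 := hc (e (σ i)) (e i)
  rw [he, he, CfsgLib.GeomClasses.Unit.smul_left hu, CfsgLib.GeomClasses.Unit.smul_right hu,
    CfsgLib.GeomClasses.UnitPow.conj_apply, ← hMij] at h1
  linear_combination h1

/-- A diagonalisable element with paired values is conjugate inside `SL(n)` to a similitude. -/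
theorem exists_sl_paired (hF : Fintype.card F = q₀ ^ 2) (hf : Cfsg.Geo.IsUnitaryFormPow q₀ f) (hn : 0 < n)
    (x g : GL (Fin n) F) (d : Fin n → F) (hd : ∀ i, d i ≠ 0)
    (hxg : (x : Matrix (Fin n) (Fin n) F) * (g : Matrix (Fin n) (Fin n) F) =
      (g : Matrix (Fin n) (Fin n) F) * Matrix.diagonal d)
    {σ : Fin n → Fin n} (hσ : Function.Involutive σ) {c : F} (hc : c ≠ 0) (hcd : ∀ i, d i * d (σ i) ^ q₀ = c) :
    ∃ k ∈ Cfsg.Geo.specialLinear (Fin n) F, k⁻¹ * x * k ∈ Cfsg.Geo.similarityGroup f := by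
  have : Nonempty (Fin n) := ⟨⟨0, hn⟩⟩
  obtain ⟨E, hE⟩ := exists_mono hF hf hσ (fun _ => 1) (fun _ => one_ne_zero) (fun _ => (one_pow _).symm)
  obtain ⟨E', hE'⟩ := exists_GL_equiv E
  let D : GL (Fin n) F := Matrix.GeneralLinearGroup.mkOfDetNeZero (Matrix.diagonal d) (by
    rw [Matrix.det_diagonal]; exact Finset.prod_ne_zero_iff.2 fun i _ => hd i)
  refine FormTests.exists_sl_of_diag _ x g E' D d rfl (Units.ext hxg)
    (mem_similarity.2 ⟨Units.mk0 c hc, fun u v => ?_⟩)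
  obtain ⟨a, ha⟩ : ∃ a, u = E a := ⟨E.symm u, (E.apply_symm_apply u).symm⟩
  obtain ⟨b, hb⟩ : ∃ b, v = E b := ⟨E.symm v, (E.apply_symm_apply v).symm⟩
  have hinv : ∀ w, ((E'⁻¹ : GL (Fin n) F) : Matrix (Fin n) (Fin n) F) *ᵥ E w = w := fun w => by
    rw [← hE', mulVec_mulVec, Units.inv_mul, one_mulVec]
  subst ha hb
  simp only [Units.val_mul, ← mulVec_mulVec, hinv, hE', Units.val_mk0]
  show f (E (Matrix.diagonal d *ᵥ a)) (E (Matrix.diagonal d *ᵥ b)) = _
  rw [hE, hE, Finset.mul_sum]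
  refine Finset.sum_congr rfl fun i _ => ?_
  rw [Matrix.mulVec_diagonal, Matrix.mulVec_diagonal, mul_pow, ← hcd i]
  ring

section Two

open CfsgLib.SquareScalar

/-- The determinant of a map consisting of `s` pairs only. -/
theorem det_pairs {T : (Fin n → F) →ₗ[F] (Fin n → F)} {z : F} {s : ℕ} (hb : HasPairBasis T z s 0) :
    LinearMap.det T = (-z) ^ s := by
  classical
  obtain ⟨b, μ, h1, h2, -, -⟩ := hb
  let e : (Fin s × Bool) ⊕ Fin 0 ≃ Fin 2 × Fin s :=
    (Equiv.sumEmpty _ _).trans ((Equiv.prodComm _ _).trans (finTwoEquiv.symm.prodCongr (Equiv.refl _)))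
  let b' := b.reindex e
  have hM : LinearMap.toMatrix b' b' T = Matrix.blockDiagonal fun _ : Fin s => !![0, z; 1, 0] := by
    refine Matrix.ext fun ⟨i, k⟩ ⟨j, l⟩ => ?_
    rw [LinearMap.toMatrix_apply, Matrix.blockDiagonal_apply]
    by_cases hkl : k = l
    · subst hkl
      fin_cases j <;> fin_cases i <;> simp [b', e, h1, h2, finTwoEquiv]
    · fin_cases j <;> fin_cases i <;> simp [b', e, h1, h2, finTwoEquiv, hkl, Ne.symm hkl]
  rw [← LinearMap.det_toMatrix b', hM, Matrix.det_blockDiagonal]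
  simp [Matrix.det_fin_two]

/-- An element with square a square scalar is conjugate inside `SL(n)` to a similitude. -/
theorem exists_sl_square (hF : Fintype.card F = q₀ ^ 2) (hf : Cfsg.Geo.IsUnitaryFormPow q₀ f) (hn : 0 < n)
    (x : GL (Fin n) F) (hx : x ∈ Cfsg.Geo.specialLinear (Fin n) F) {t : F} (ht : t ≠ 0)
    (hxx : ∀ v, (x : Matrix (Fin n) (Fin n) F) *ᵥ ((x : Matrix (Fin n) (Fin n) F) *ᵥ v) = (t * t) • v) :
    ∃ g ∈ Cfsg.Geo.specialLinear (Fin n) F, g⁻¹ * x * g ∈ Cfsg.Geo.similarityGroup f := by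
  classical
  have hq0 : q₀ ≠ 0 := by have := CfsgLib.GeomClasses.UnitPow.two_le hF; omega
  have hcc : ∀ x : F, (x ^ q₀) ^ q₀ = x := CfsgLib.UnitaryEmbed.pow_sq_eq hF
  set T := Matrix.toLin' (x : Matrix (Fin n) (Fin n) F) with hTdef
  have hTT : ∀ v, T (T v) = (t * t) • v := fun v => by simp only [hTdef, Matrix.toLin'_apply]; exact hxx v
  by_cases h2 : (2 : F) = 0
  · obtain ⟨s, l, hb⟩ := hasPairBasis_of_square_two h2 T t hTT
    have hpos : 0 < s + l := by
      obtain ⟨b, -⟩ := hb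
      have := Module.finrank_eq_card_basis b
      simp only [Module.finrank_fin_fun, Fintype.card_sum, Fintype.card_prod, Fintype.card_fin, Fintype.card_bool]
        at this
      omega
    have hD := CfsgLib.ConjTools.detSurj hb (mul_ne_zero ht ht) hpos (Or.inr (Or.inl h2))
    obtain ⟨b, μ, h1, h1', h3, h4⟩ := hb
    have hμ : ∀ j, μ j = t := fun j => by
      have e : (μ j - t) * (μ j - t) = 0 := by linear_combination h4 j + (t * t - μ j * t) * h2
      exact sub_eq_zero.1 (mul_self_eq_zero.1 e)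
    have hcard : Fintype.card ((Fin s × Bool) ⊕ Fin l) = Fintype.card (Fin n) := by
      rw [← Module.finrank_eq_card_basis b, Module.finrank_fin_fun, Fintype.card_fin]
    let τ := Fintype.equivOfCardEq hcard
    let σ₀ : (Fin s × Bool) ⊕ Fin l → (Fin s × Bool) ⊕ Fin l := Sum.map (fun k => (k.1, !k.2)) id
    have hσ₀ : ∀ k, σ₀ (σ₀ k) = k := by rintro (⟨i, ε⟩ | j) <;> simp [σ₀]
    let a₀ : (Fin s × Bool) ⊕ Fin l → F := Sum.elim (fun k => cond k.2 (t⁻¹ ^ q₀) t⁻¹) fun _ => 1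
    let σ : Fin n → Fin n := fun i => τ (σ₀ (τ.symm i))
    have hσ : Function.Involutive σ := fun i => by simp [σ, hσ₀]
    obtain ⟨E, hE⟩ := exists_mono hF hf hσ (fun i => a₀ (τ.symm i)) (fun i => by
        rcases τ.symm i with ⟨j, ε⟩ | j
        · cases ε <;> simp [a₀, ht]
        · simp [a₀]) (fun i => by
        simp only [σ, Equiv.symm_apply_apply]
        rcases τ.symm i with ⟨j, ε⟩ | j
        · cases ε
          · simp [a₀, σ₀]
          · exact (hcc t⁻¹).symm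
        · simp [a₀, σ₀])
    let L := (b.reindex τ).equivFun.symm
    let U : (Fin n → F) → ((Fin s × Bool) ⊕ Fin l → F) := fun v => Sum.elim
      (fun k => cond k.2 (v (τ (.inl (k.1, false)))) (t * t * v (τ (.inl (k.1, true)))))
      (fun j => t * v (τ (.inr j)))
    have hLv : ∀ v, L v = ∑ k, v (τ k) • b k := fun v => by
      simp only [L, Module.Basis.equivFun_symm_apply]
      rw [← Equiv.sum_comp τ]
      simp
    have hTL : ∀ v, T (L v) = L fun i => U v (τ.symm i) := fun v => by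
      rw [hLv, hLv, map_sum, Fintype.sum_sum_type, Fintype.sum_sum_type, Fintype.sum_prod_type,
        Fintype.sum_prod_type]
      simp only [Equiv.symm_apply_apply, Fintype.sum_bool, map_smul, h1, h1', h3, hμ, U, Sum.elim_inl, Sum.elim_inr,
        cond_true, cond_false, smul_smul]
      congr 1
      · exact Finset.sum_congr rfl fun i _ => by rw [mul_comm (t * t), add_comm]
      · exact Finset.sum_congr rfl fun j _ => by rw [mul_comm t]
    let X : Matrix.SpecialLinearGroup (Fin n) F :=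
      ⟨(x : Matrix (Fin n) (Fin n) F), congrArg Units.val (MonoidHom.mem_ker.1 hx)⟩
    let g := E.symm.trans L
    obtain ⟨P, hP⟩ := CfsgLib.ConjTools.exists_sl_conj X g hD
    refine ⟨Matrix.SpecialLinearGroup.toGL P, MonoidHom.mem_ker.2 (Units.ext P.2),
      mem_similarity.2 ⟨Units.mk0 (t * t ^ q₀) (mul_ne_zero ht (pow_ne_zero _ ht)), fun u v => ?_⟩⟩
    have e0 : ∀ v, (((Matrix.SpecialLinearGroup.toGL P)⁻¹ * x * Matrix.SpecialLinearGroup.toGL P : GL (Fin n) F) :
        Matrix (Fin n) (Fin n) F) *ᵥ v = g.symm (T (g v)) := fun v => by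
      rw [show x = Matrix.SpecialLinearGroup.toGL X from Units.ext rfl, ← map_inv, ← map_mul, ← map_mul]
      exact hP v
    obtain ⟨u, rfl⟩ := E.surjective u
    obtain ⟨v, rfl⟩ := E.surjective v
    have hgE : ∀ w, g.symm (T (g (E w))) = E fun i => U w (τ.symm i) := fun w => by
      simp only [g, LinearEquiv.trans_apply, LinearEquiv.symm_apply_apply]
      rw [hTL, LinearEquiv.symm_trans_apply, LinearEquiv.symm_apply_apply, LinearEquiv.symm_symm]
    rw [e0, e0, hgE, hgE, hE, hE, Units.val_mk0, Finset.mul_sum]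
    rw [← Equiv.sum_comp τ, ← Equiv.sum_comp τ (fun i => t * t ^ q₀ * (a₀ (τ.symm i) * u i * v (σ i) ^ q₀)),
      Fintype.sum_sum_type, Fintype.sum_sum_type, Fintype.sum_prod_type, Fintype.sum_prod_type]
    congr 1
    · refine Finset.sum_congr rfl fun i _ => ?_
      simp only [Fintype.sum_bool, σ, Equiv.symm_apply_apply, U, a₀, σ₀, Sum.map_inl, Sum.elim_inl, cond_true,
        cond_false, Bool.not_true, Bool.not_false, mul_pow, inv_pow]
      have htq : t ^ q₀ ≠ 0 := pow_ne_zero _ ht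
      field_simp
      ring
    · refine Finset.sum_congr rfl fun j _ => ?_
      simp only [σ, Equiv.symm_apply_apply, U, a₀, σ₀, Sum.map_inr, id_eq, Sum.elim_inr, mul_pow]
      ring
  · obtain ⟨l, b, μ, -, -, hμ, hμ2⟩ := hasPairBasis_of_square h2 T t ht hTT
    have hcard : Fintype.card ((Fin 0 × Bool) ⊕ Fin l) = Fintype.card (Fin n) := by
      rw [← Module.finrank_eq_card_basis b, Module.finrank_fin_fun, Fintype.card_fin]
    let τ := Fintype.equivOfCardEq hcard
    let b' := b.reindex τ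
    let d : Fin n → F := fun i => Sum.elim (fun k => k.1.elim0) μ (τ.symm i)
    have hbd : ∀ i, (x : Matrix (Fin n) (Fin n) F) *ᵥ b' i = d i • b' i := fun i => by
      rw [← Matrix.toLin'_apply, ← hTdef]
      rcases hi : τ.symm i with k | k
      · exact k.1.elim0
      · simp [b', d, hi, hμ]
    have hdd : ∀ i, d i * d i = t * t := fun i => by
      rcases hi : τ.symm i with k | k
      · exact k.1.elim0
      · simp [d, hi, hμ2]
    have hd0 : ∀ i, d i ≠ 0 := fun i h0 => mul_ne_zero ht ht (by rw [← hdd i, h0, zero_mul])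
    obtain ⟨g, hg⟩ := exists_GL_equiv b'.equivFun.symm
    have hgi : ∀ i, (g : Matrix (Fin n) (Fin n) F) *ᵥ Pi.single i 1 = b' i := fun i => by
      rw [hg, Module.Basis.equivFun_symm_apply]
      simp [Pi.single_apply]
    refine exists_sl_paired hF hf hn x g d hd0 (Matrix.ext_of_mulVec_single fun i => ?_)
      (σ := id) (fun _ => rfl) (c := t * t ^ q₀) (mul_ne_zero ht (pow_ne_zero _ ht)) fun i => ?_
    · rw [← mulVec_mulVec, ← mulVec_mulVec, hgi, hbd, Matrix.diagonal_mulVec_single, mul_one, ← hgi,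
        ← Matrix.mulVec_smul, ← Pi.single_smul', smul_eq_mul, mul_one]
    · rcases mul_self_eq_mul_self_iff.1 (hdd i) with h | h
      · rw [id_eq, h]
      · rw [id_eq, h, ← pow_succ', ← pow_succ']
        have hodd : Odd q₀ := by
          by_contra he
          rw [Nat.not_odd_iff_even] at he
          have hc2 : ringChar F ≠ 2 := fun hc => h2 (by exact_mod_cast (ringChar.spec F 2).2 (by rw [hc]))
          have h2' := FiniteField.odd_card_of_char_ne_two hc2
          rw [hF] at h2'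
          have := Nat.even_iff.1 (he.pow_of_ne_zero two_ne_zero)
          omega
        rw [hodd.add_one.neg_pow]

end Two

section Count

/-- The `r`-part of `|GL(n, q₀²)|` against that of `|GU(n, q₀)|`. -/
theorem val_GL_le_GU (hF : Fintype.card F = q₀ ^ 2) {r : ℕ} [hr : Fact r.Prime]
    (hnd : ¬ r ∣ q₀) (hkey : ∀ j : ℕ, (-(q₀ : ZMod r)) ^ j ≠ -1) (n : ℕ) :
    padicValNat r (Nat.card (GL (Fin n) F)) ≤ padicValNat r (Nat.card (Cfsg.GU n F q₀)) := by
  classical
  have hq := CfsgLib.GeomClasses.UnitPow.two_le hF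
  rw [CfsgLib.ClassicalGroups.card_GU hF, Matrix.card_GL_field, hF]
  have hprod : ∀ m, ∏ i ∈ Finset.range m, (if Even i then q₀ ^ (i + 1) + 1 else q₀ ^ (i + 1) - 1) ≠ 0 := fun m => by
    refine Finset.prod_ne_zero_iff.2 fun i _ => ?_
    have := Nat.one_lt_pow (show i + 1 ≠ 0 by omega) hq
    split_ifs <;> omega
  refine le_trans (le_of_eq ?_) ((padicValNat_dvd_iff_le (mul_ne_zero (pow_ne_zero _ (by omega)) (hprod n))).1
    (pow_padicValNat_dvd.trans (dvd_mul_left _ _)))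
  have hpow : ∀ j, padicValNat r ((q₀ ^ 2) ^ j) = 0 := fun j =>
    padicValNat.eq_zero_of_not_dvd fun h => hnd (hr.out.dvd_of_dvd_pow (hr.out.dvd_of_dvd_pow h))
  induction n with
  | zero => simp
  | succ n ih =>
    set Q := q₀ ^ 2 with hQ
    have hQ1 : 1 < Q := Nat.one_lt_pow two_ne_zero hq
    have hne : ∀ i : Fin n, Q ^ n - Q ^ (i : ℕ) ≠ 0 := fun i =>
      Nat.sub_ne_zero_of_lt (Nat.pow_lt_pow_right hQ1 i.2)
    have hstep : ∀ i : Fin n, Q ^ (n + 1) - Q ^ ((i.succ : Fin (n + 1)) : ℕ) = Q * (Q ^ n - Q ^ (i : ℕ)) :=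
      fun i => by rw [Fin.val_succ, Nat.mul_sub, pow_succ', pow_succ']
    have hn1 : Q ^ (n + 1) - Q ^ 0 ≠ 0 := Nat.sub_ne_zero_of_lt (Nat.pow_lt_pow_right hQ1 (Nat.succ_pos n))
    have hp : ∏ i : Fin n, (Q ^ n - Q ^ (i : ℕ)) ≠ 0 := Finset.prod_ne_zero_iff.2 fun i _ => hne i
    have hlast : (if Even n then q₀ ^ (n + 1) + 1 else q₀ ^ (n + 1) - 1) ≠ 0 := by
      have := Nat.one_lt_pow (show n + 1 ≠ 0 by omega) hq
      split_ifs <;> omega
    rw [Fin.prod_univ_succ, Finset.prod_congr rfl (fun i _ => hstep i), Finset.prod_mul_distrib,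
      Finset.prod_const, Finset.card_univ, Fintype.card_fin, Fin.val_zero,
      padicValNat.mul hn1 (mul_ne_zero (pow_ne_zero _ (by omega)) hp),
      padicValNat.mul (pow_ne_zero _ (by omega)) hp, hpow, zero_add, ih, pow_zero, Finset.prod_range_succ,
      padicValNat.mul (hprod n) hlast, add_comm]
    congr 1
    have h1 : 1 < q₀ ^ (n + 1) := Nat.one_lt_pow (show n + 1 ≠ 0 by omega) hq
    have hfac : Q ^ (n + 1) - 1 = (q₀ ^ (n + 1) + 1) * (q₀ ^ (n + 1) - 1) := by
      rw [hQ, ← pow_mul, mul_comm 2, pow_mul, ← Nat.sq_sub_sq, one_pow]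
    rw [hfac, padicValNat.mul (by omega) (by omega)]
    have hk := hkey (n + 1)
    rcases Nat.even_or_odd n with he | ho
    · rw [if_pos he, padicValNat.eq_zero_of_not_dvd (n := q₀ ^ (n + 1) - 1) fun h => hk ?_, add_zero]
      rw [← ZMod.natCast_eq_zero_iff, Nat.cast_sub (by omega), Nat.cast_pow, Nat.cast_one, sub_eq_zero] at h
      rw [Odd.neg_pow he.add_one, h]
    · rw [if_neg (Nat.not_even_iff_odd.2 ho), padicValNat.eq_zero_of_not_dvd (n := q₀ ^ (n + 1) + 1) fun h => hk ?_,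
        zero_add]
      rw [← ZMod.natCast_eq_zero_iff, Nat.cast_add, Nat.cast_pow, Nat.cast_one] at h
      rw [ho.add_one.neg_pow]
      linear_combination h

/-- `|GL| = |SL| (q - 1)`. -/
theorem card_specialLinear_mul (hn : 0 < n) :
    Nat.card (Cfsg.Geo.specialLinear (Fin n) F) * (Fintype.card F - 1) = Nat.card (GL (Fin n) F) := by
  classical
  have hsurj : (Matrix.GeneralLinearGroup.det : GL (Fin n) F →* Fˣ).range = ⊤ := by
    refine eq_top_iff.2 fun u _ => ?_
    let d : Fin n → F := fun i => if i = ⟨0, hn⟩ then (u : F) else 1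
    have hdet : (Matrix.diagonal d).det = (u : F) := by
      rw [Matrix.det_diagonal]
      simp [d, Finset.prod_ite_eq']
    exact ⟨Matrix.GeneralLinearGroup.mkOfDetNeZero (Matrix.diagonal d) (by rw [hdet]; exact u.ne_zero),
      Units.ext hdet⟩
  rw [← (Cfsg.Geo.specialLinear (Fin n) F).card_mul_index]
  congr 1
  rw [Cfsg.Geo.specialLinear, Subgroup.index_ker, hsurj, Subgroup.card_top, Nat.card_units, Nat.card_eq_fintype_card]

end Count

end CfsgLib.PrimeElusive.UnitarySimilitude
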