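import Cfsg.Agent.Lib.PrimeElusive.SymplType
import Cfsg.Agent.Lib.Recog.SelfReciprocalRoots
import Cfsg.Agent.Lib.SemisimpleClass.Classes

/-!
Eigenvalue multisets of elements of orders 2, 3, 5 of four-dimensional matrix groups with Galois invariance.
-/

set_option autoImplicit false
set_option linter.unusedSectionVars false

namespace CfsgLib.PrimeElusive.SymplRoots

open Matrix Polynomial
open CfsgLib.Recog.SelfReciprocalRoots (eigen card_eigen map_frobenius zero_notMem_eigen)

variable {F : Type*} [Field F] {ι : Type} [Fintype ι] [DecidableEq ι] {x y : Matrix ι ι F}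

local notation "Ω" => AlgebraicClosure F
local notation "φ" => algebraMap F (AlgebraicClosure F)

theorem charpoly_eq_of_eigen (h : eigen x = eigen y) : x.charpoly = y.charpoly := by
  refine Polynomial.map_injective φ (φ).injective ?_
  rw [(IsAlgClosed.splits (x.charpoly.map φ)).eq_prod_roots_of_monic ((Matrix.charpoly_monic x).map φ),
    (IsAlgClosed.splits (y.charpoly.map φ)).eq_prod_roots_of_monic ((Matrix.charpoly_monic y).map φ)]
  simp only [eigen] at h
  rw [h]

theorem trace_eigen [Nonempty ι] (x : Matrix ι ι F) : φ x.trace = (eigen x).sum := by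
  rw [eigen, ← Matrix.charpoly_map, ← Matrix.trace_eq_sum_roots_charpoly]
  exact AddMonoidHom.map_trace (φ).toAddMonoidHom x

theorem det_eigen [Nonempty ι] (x : Matrix ι ι F) : φ x.det = (eigen x).prod := by
  rw [eigen, ← Matrix.charpoly_map, ← Matrix.det_eq_prod_roots_charpoly, RingHom.map_det]
  rfl

theorem pow_of_mem {N : ℕ} {c : F} (hx : x ^ N = c • 1) {r : Ω} (hr : r ∈ eigen x) : r ^ N = φ c := by
  classical
  set X := x.map φ
  have hdet : ((Matrix.scalar ι) r - X).det = 0 := by
    rw [eigen, Polynomial.mem_roots'] at hr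
    rw [← Matrix.eval_charpoly, Matrix.charpoly_map]
    exact hr.2
  obtain ⟨v, hv0, hv⟩ := Matrix.exists_mulVec_eq_zero_iff.2 hdet
  have hv' : X *ᵥ v = r • v := by
    rw [Matrix.sub_mulVec, sub_eq_zero] at hv
    rw [← hv]
    ext i; simp [Matrix.mulVec_diagonal]
  have hpow : ∀ n : ℕ, (X ^ n) *ᵥ v = r ^ n • v := by
    intro n
    induction n with
    | zero => simp
    | succ n ih => rw [pow_succ', ← Matrix.mulVec_mulVec, ih, Matrix.mulVec_smul, hv', smul_smul, ← pow_succ]
  have h := hpow N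
  have e : X ^ N = φ c • (1 : Matrix ι ι Ω) := by
    have h1 := congrArg ((φ).mapMatrix (m := ι)) hx
    rw [map_pow] at h1
    rw [show X = (φ).mapMatrix x from rfl, h1]
    ext i j
    by_cases hij : i = j <;> simp [hij]
  rw [e, Matrix.smul_mulVec, Matrix.one_mulVec] at h
  exact (smul_left_injective Ω hv0 h).symm

/-- Semisimple with one eigenvalue is scalar. -/
theorem sc_of_count [Fintype F] [Nonempty ι] {N : ℕ} (hN : (N : F) ≠ 0) (hι : (Fintype.card ι : F) ≠ 0)
    (hx : x ^ N = 1) {lam : Ω} (h : eigen x = Multiset.replicate (Fintype.card ι) lam) :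
    ∃ c : F, x = c • 1 := by
  set μ := x.trace / (Fintype.card ι : F)
  have hlam : φ μ = lam := by
    have hι' : ((Fintype.card ι : ℕ) : Ω) ≠ 0 := by
      rw [← map_natCast φ]; exact (map_ne_zero φ).2 hι
    rw [map_div₀, trace_eigen, h, Multiset.sum_replicate, nsmul_eq_mul, map_natCast, mul_div_cancel_left₀ _ hι']
  refine ⟨μ, ?_⟩
  have hμN : μ ^ N = 1 := by
    refine (φ).injective ?_
    rw [map_pow, hlam, pow_of_mem (c := 1) (by rw [hx, one_smul])
      (h ▸ Multiset.mem_replicate.2 ⟨Fintype.card_ne_zero, rfl⟩)]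
  have hc : x.charpoly = (μ • (1 : Matrix ι ι F)).charpoly := by
    refine Polynomial.map_injective φ (φ).injective ?_
    rw [(IsAlgClosed.splits (x.charpoly.map φ)).eq_prod_roots_of_monic ((Matrix.charpoly_monic x).map φ)]
    simp only [eigen] at h
    rw [h, Matrix.smul_one_eq_diagonal, Matrix.charpoly_diagonal, Polynomial.map_prod]
    simp [hlam]
  obtain ⟨g, hg⟩ := CfsgLib.SemisimpleClass.similar_of_charpoly_eq hN x (μ • 1) hx
    (by rw [_root_.smul_pow, one_pow, hμN, one_smul]) hc
  rw [smul_mul_assoc, one_mul] at hg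
  calc x = (↑g⁻¹ : Matrix ι ι F) * (g * x) := by rw [← mul_assoc, Units.inv_mul, one_mul]
    _ = _ := by rw [hg, mul_smul_comm, Units.inv_mul]

theorem eigen_inv (hx : IsUnit x) : eigen x⁻¹ = (eigen x).map fun a => a⁻¹ := by
  have h0 := zero_notMem_eigen hx
  obtain ⟨c, hc, e⟩ := CfsgLib.Recog.SelfReciprocalRoots.reverse_prod_X_sub_C _ h0
  have e0 := (IsAlgClosed.splits (x.charpoly.map φ)).eq_prod_roots_of_monic ((Matrix.charpoly_monic x).map φ)
  rw [eigen, ← e0] at e
  conv_lhs => rw [eigen, Matrix.charpoly_inv x hx, ← Matrix.reverse_charpoly]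
  rw [Polynomial.map_mul, show (x.charpoly.reverse).map φ = (x.charpoly.map φ).reverse by
    simp [Polynomial.reverse, Polynomial.reflect_map, Polynomial.natDegree_map], e]
  have hu : ((-1) ^ Fintype.card ι * C (Ring.inverse x.det) : F[X]).map φ =
      C (φ ((-1) ^ Fintype.card ι * Ring.inverse x.det)) := by simp
  rw [hu, ← mul_assoc, ← C_mul, roots_C_mul _ ?_, roots_multiset_prod_X_sub_C, eigen]
  refine mul_ne_zero ((map_ne_zero φ).2 (mul_ne_zero (pow_ne_zero _ (by norm_num)) ?_)) hc
  rw [Ring.inverse_eq_inv']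
  exact inv_ne_zero ((Matrix.isUnit_iff_isUnit_det x).1 hx).ne_zero

/-- Unitary matrices: eigenvalues are invariant under `a ↦ (a ^ p)⁻¹`. -/
theorem map_unitary (p : ℕ) [Fact p.Prime] [CharP F p] (hx : (x.map (· ^ p))ᵀ * x = 1) :
    (eigen x).map (fun a => (a ^ p)⁻¹) = eigen x := by
  have hu : IsUnit x := (Matrix.isUnit_iff_isUnit_det x).2 (by
    have h := congrArg Matrix.det hx
    rw [Matrix.det_mul, Matrix.det_one] at h
    exact IsUnit.of_mul_eq_one _ ((mul_comm _ _).trans h))
  have : CharP Ω p := charP_of_injective_algebraMap (φ).injective p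
  have hinv : x⁻¹ = (x.map (frobenius F p))ᵀ := Matrix.inv_eq_left_inv hx
  have h1 : eigen x⁻¹ = (eigen x).map (fun a => a ^ p) := by
    have h := Polynomial.Splits.roots_map_of_injective (IsAlgClosed.splits (x.charpoly.map φ))
      (i := frobenius Ω p) (frobenius Ω p).injective
    rw [Polynomial.map_map] at h
    rw [hinv, eigen, eigen, Matrix.charpoly_transpose, Matrix.charpoly_map, Polynomial.map_map,
      show (φ).comp (frobenius F p) = (frobenius Ω p).comp φ from RingHom.ext fun a => by simp [frobenius_def], h]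
    rfl
  rw [eigen_inv hu] at h1
  have h2 := congrArg (Multiset.map fun a : Ω => a⁻¹) h1
  rw [Multiset.map_map, Multiset.map_map] at h2
  simp only [Function.comp_def, inv_inv, Multiset.map_id'] at h2
  exact h2.symm

theorem exists_root (N : ℕ) [NeZero N] (hN : (N : F) ≠ 0) : ∃ e : Ω, IsPrimitiveRoot e N := by
  have : NeZero ((N : ℕ) : Ω) := ⟨by rw [← map_natCast φ]; exact (map_ne_zero φ).2 hN⟩
  obtain ⟨e, he⟩ := IsAlgClosed.exists_root (cyclotomic N Ω)
    (by rw [degree_cyclotomic]; exact_mod_cast (Nat.totient_pos.2 (NeZero.pos N)).ne')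
  exact ⟨e, isRoot_cyclotomic_iff.1 he⟩

theorem count_step {f : Ω → Ω} (hf : Function.Injective f) (h : (eigen x).map f = eigen x) (a : Ω) :
    letI := Classical.decEq Ω
    (eigen x).count (f a) = (eigen x).count a := by
  classical
  conv_lhs => rw [← h]
  exact Multiset.count_map_eq_count' f _ hf a

/-- Elements of order five. -/
theorem eigen_five [Fintype F] [Nonempty ι] (h4 : Fintype.card ι = 4) (h5 : (5 : F) ≠ 0) (h40 : (4 : F) ≠ 0)
    {f : Ω → Ω} (hf : Function.Injective f) (hinv : (eigen x).map f = eigen x) {m : ℕ}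
    (hm : m % 5 = 2 ∨ m % 5 = 3) (hfm : ∀ a : Ω, a ^ 5 = 1 → f a = a ^ m)
    (hx : x ^ 5 = 1) (hns : ∀ c : F, x ≠ c • 1) {e : Ω} (he : IsPrimitiveRoot e 5) :
    eigen x = ({e, e ^ 2, e ^ 3, e ^ 4} : Multiset Ω) := by
  classical
  set M := eigen x with hM
  have hroot : ∀ a ∈ M, ∃ j < 5, e ^ j = a := fun a ha =>
    he.eq_pow_of_pow_eq_one (by rw [pow_of_mem (c := 1) (by rw [hx, one_smul]) ha, map_one])
  have hdec : M = Multiset.replicate (M.count 1) 1 + Multiset.replicate (M.count e) e +
      Multiset.replicate (M.count (e ^ 2)) (e ^ 2) + Multiset.replicate (M.count (e ^ 3)) (e ^ 3) +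
      Multiset.replicate (M.count (e ^ 4)) (e ^ 4) := by
    ext a
    simp only [Multiset.count_add, Multiset.count_replicate]
    have hne : ∀ i < 5, ∀ j < 5, e ^ i = e ^ j → i = j := fun i hi j hj => he.pow_inj hi hj
    by_cases ha : a ∈ M
    · obtain ⟨j, hj, rfl⟩ := hroot a ha
      have k : ∀ i < 5, e ^ i = e ^ j ↔ i = j := fun i hi => ⟨hne i hi j hj, fun h => h ▸ rfl⟩
      have k0 := k 0 (by norm_num)
      have k1 := k 1 (by norm_num)
      rw [pow_zero] at k0
      rw [pow_one] at k1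
      simp only [k0, k1, k 2 (by norm_num), k 3 (by norm_num), k 4 (by norm_num)]
      interval_cases j <;> simp
    · rw [Multiset.count_eq_zero.2 ha]
      have k : ∀ b : Ω, (if b = a then M.count b else 0) = 0 := fun b => by
        split_ifs with h
        · rw [h, Multiset.count_eq_zero.2 ha]
        · rfl
      simp [k]
  have hred : ∀ i : ℕ, e ^ i = e ^ (i % 5) := fun i => by
    conv_lhs => rw [← Nat.mod_add_div i 5, pow_add, pow_mul, he.pow_eq_one, one_pow, mul_one]
  have hstep : ∀ i : ℕ, M.count (e ^ (i * m % 5)) = M.count (e ^ i) := fun i => by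
    rw [← hred, pow_mul, ← hfm _ (by rw [← pow_mul, mul_comm, pow_mul, he.pow_eq_one, one_pow])]
    exact count_step hf hinv _
  have s1 := hstep 1
  have s2 := hstep 2
  have s3 := hstep 3
  rw [Nat.mul_mod] at s1 s2 s3
  have heq : M.count (e ^ 2) = M.count e ∧ M.count (e ^ 3) = M.count e ∧ M.count (e ^ 4) = M.count e := by
    rcases hm with hm | hm <;> rw [hm] at s1 s2 s3 <;> norm_num at s1 s2 s3 <;>
      refine ⟨?_, ?_, ?_⟩ <;> omega
  have hcard := congrArg Multiset.card hdec
  rw [hM, card_eigen, h4] at hcard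
  simp only [Multiset.card_add, Multiset.card_replicate, ← hM, heq] at hcard
  rw [heq.1, heq.2.1, heq.2.2] at hdec
  rcases (show M.count e = 1 ∧ M.count 1 = 0 ∨ M.count e = 0 ∧ M.count 1 = 4 by omega) with ⟨hk, h0⟩ | ⟨hk, h0⟩
  · rw [hdec, hk, h0]
    simp [Multiset.replicate_one]
  · exfalso
    obtain ⟨c, hc⟩ := sc_of_count (N := 5) (by exact_mod_cast h5) (by rw [h4]; exact_mod_cast h40) hx (lam := 1)
      (by rw [← hM, hdec, hk, h0, h4]; simp)
    exact hns c hc

/-- Elements of order five have one characteristic polynomial. -/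
theorem charpoly_eq_five [Fintype F] [Nonempty ι] (h4 : Fintype.card ι = 4) (h5 : (5 : F) ≠ 0) (h40 : (4 : F) ≠ 0)
    {f : Ω → Ω} (hf : Function.Injective f) {m : ℕ} (hm : m % 5 = 2 ∨ m % 5 = 3)
    (hfm : ∀ a : Ω, a ^ 5 = 1 → f a = a ^ m) (hix : (eigen x).map f = eigen x) (hiy : (eigen y).map f = eigen y)
    (hx : x ^ 5 = 1) (hy : y ^ 5 = 1) (hnx : ∀ c : F, x ≠ c • 1) (hny : ∀ c : F, y ≠ c • 1) :
    x.charpoly = y.charpoly := by
  obtain ⟨e, he⟩ := exists_root (F := F) 5 (by exact_mod_cast h5)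
  exact charpoly_eq_of_eigen (by
    rw [eigen_five h4 h5 h40 hf hix hm hfm hx hnx he, eigen_five h4 h5 h40 hf hiy hm hfm hy hny he])

/-- Elements of order three. -/
theorem eigen_three [Fintype F] [Nonempty ι] (h4 : Fintype.card ι = 4) (h3 : (3 : F) ≠ 0) (h40 : (4 : F) ≠ 0)
    {f : Ω → Ω} (hf : Function.Injective f) (hinv : (eigen x).map f = eigen x) {m : ℕ}
    (hm : m % 3 = 2) (hfm : ∀ a : Ω, a ^ 3 = 1 → f a = a ^ m)
    (hx : x ^ 3 = 1) (hns : ∀ c : F, x ≠ c • 1) {e : Ω} (he : IsPrimitiveRoot e 3) :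
    (eigen x = Multiset.replicate 2 1 + ({e, e ^ 2} : Multiset Ω) ∧ x.trace = 1) ∨
      (eigen x = Multiset.replicate 2 e + Multiset.replicate 2 (e ^ 2) ∧ x.trace = -2) := by
  classical
  set M := eigen x with hM
  have hroot : ∀ a ∈ M, ∃ j < 3, e ^ j = a := fun a ha =>
    he.eq_pow_of_pow_eq_one (by rw [pow_of_mem (c := 1) (by rw [hx, one_smul]) ha, map_one])
  have hdec : M = Multiset.replicate (M.count 1) 1 + Multiset.replicate (M.count e) e +
      Multiset.replicate (M.count (e ^ 2)) (e ^ 2) := by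
    ext a
    simp only [Multiset.count_add, Multiset.count_replicate]
    by_cases ha : a ∈ M
    · obtain ⟨j, hj, rfl⟩ := hroot a ha
      have k : ∀ i < 3, e ^ i = e ^ j ↔ i = j := fun i hi => ⟨he.pow_inj hi hj, fun h => h ▸ rfl⟩
      have k0 := k 0 (by norm_num)
      have k1 := k 1 (by norm_num)
      rw [pow_zero] at k0
      rw [pow_one] at k1
      simp only [k0, k1, k 2 (by norm_num)]
      interval_cases j <;> simp
    · rw [Multiset.count_eq_zero.2 ha]
      have k : ∀ b : Ω, (if b = a then M.count b else 0) = 0 := fun b => by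
        split_ifs with h
        · rw [h, Multiset.count_eq_zero.2 ha]
        · rfl
      simp [k]
  have heq : M.count (e ^ 2) = M.count e := by
    have h := count_step hf hinv e
    rwa [hfm e he.pow_eq_one, ← Nat.mod_add_div m 3, pow_add, pow_mul, he.pow_eq_one, one_pow, mul_one, hm] at h
  have hcard := congrArg Multiset.card hdec
  rw [hM, card_eigen, h4] at hcard
  simp only [Multiset.card_add, Multiset.card_replicate, ← hM, heq] at hcard
  rw [heq] at hdec
  have hsum : φ x.trace = M.sum := trace_eigen x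
  have hgeom : 1 + e + e ^ 2 = 0 := by
    have := he.geom_sum_eq_zero (by norm_num)
    simpa [Finset.sum_range_succ] using this
  rcases (show (M.count e = 1 ∧ M.count 1 = 2) ∨ (M.count e = 2 ∧ M.count 1 = 0) ∨
      (M.count e = 0 ∧ M.count 1 = 4) by omega) with ⟨hk, h0⟩ | ⟨hk, h0⟩ | ⟨hk, h0⟩
  · rw [hk, h0] at hdec
    refine Or.inl ⟨?_, (φ).injective ?_⟩
    · rw [hdec]; simp only [Multiset.replicate_one, add_assoc]; rfl
    · rw [hsum, hdec, map_one]
      simp [Multiset.sum_replicate, Multiset.replicate_one]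
      linear_combination hgeom
  · rw [hk, h0] at hdec
    refine Or.inr ⟨?_, (φ).injective ?_⟩
    · rw [hdec]; simp
    · rw [hsum, hdec, _root_.map_neg, map_ofNat]
      simp [Multiset.sum_replicate]
      linear_combination (2 : Ω) * hgeom
  · exfalso
    obtain ⟨c, hc⟩ := sc_of_count (N := 3) (by exact_mod_cast h3) (by rw [h4]; exact_mod_cast h40) hx (lam := 1)
      (by rw [← hM, hdec, hk, h0, h4]; simp)
    exact hns c hc

/-- Elements of order three: the trace is `1` or `-2`. -/
theorem trace_three [Fintype F] [Nonempty ι] (h4 : Fintype.card ι = 4) (h3 : (3 : F) ≠ 0) (h40 : (4 : F) ≠ 0)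
    {f : Ω → Ω} (hf : Function.Injective f) (hix : (eigen x).map f = eigen x) {m : ℕ}
    (hm : m % 3 = 2) (hfm : ∀ a : Ω, a ^ 3 = 1 → f a = a ^ m)
    (hx : x ^ 3 = 1) (hnx : ∀ c : F, x ≠ c • 1) : x.trace = 1 ∨ x.trace = -2 := by
  obtain ⟨e, he⟩ := exists_root (F := F) 3 (by exact_mod_cast h3)
  rcases eigen_three h4 h3 h40 hf hix hm hfm hx hnx he with h | h
  exacts [Or.inl h.2, Or.inr h.2]

/-- Elements of order three: the trace determines the characteristic polynomial. -/
theorem charpoly_eq_three [Fintype F] [Nonempty ι] (h4 : Fintype.card ι = 4) (h3 : (3 : F) ≠ 0) (h40 : (4 : F) ≠ 0)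
    {f : Ω → Ω} (hf : Function.Injective f) {m : ℕ} (hm : m % 3 = 2)
    (hfm : ∀ a : Ω, a ^ 3 = 1 → f a = a ^ m) (hix : (eigen x).map f = eigen x) (hiy : (eigen y).map f = eigen y)
    (hx : x ^ 3 = 1) (hy : y ^ 3 = 1) (hnx : ∀ c : F, x ≠ c • 1) (hny : ∀ c : F, y ≠ c • 1)
    (ht : x.trace = y.trace) : x.charpoly = y.charpoly := by
  obtain ⟨e, he⟩ := exists_root (F := F) 3 (by exact_mod_cast h3)
  have h12 : (1 : F) ≠ -2 := fun h => h3 (by linear_combination h)
  rcases eigen_three h4 h3 h40 hf hix hm hfm hx hnx he with h | h <;>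
    rcases eigen_three h4 h3 h40 hf hiy hm hfm hy hny he with h' | h'
  · exact charpoly_eq_of_eigen (h.1.trans h'.1.symm)
  · exact absurd (h.2.symm.trans (ht.trans h'.2)) h12
  · exact absurd (h'.2.symm.trans (ht.symm.trans h.2)) h12
  · exact charpoly_eq_of_eigen (h.1.trans h'.1.symm)

/-- Elements with scalar square. -/
theorem eigen_two [Fintype F] [Nonempty ι] (h4 : Fintype.card ι = 4) (h2 : (2 : F) ≠ 0)
    {z : F} (hz : z ≠ 0) (hx : x * x = z • 1) (hns : ∀ c : F, x ≠ c • 1) {lam : Ω} (hlam : lam ^ 2 = φ z) :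
    ∃ b : ℕ, (b = 1 ∨ b = 2 ∨ b = 3) ∧ eigen x = Multiset.replicate (4 - b) lam + Multiset.replicate b (-lam) := by
  classical
  set M := eigen x with hM
  have h2' : (2 : Ω) ≠ 0 := by rw [← map_ofNat φ]; exact (map_ne_zero φ).2 h2
  have hl0 : lam ≠ 0 := fun h => hz ((φ).injective (by rw [map_zero, ← hlam, h]; simp))
  have hne : lam ≠ -lam := fun h => mul_ne_zero h2' hl0 (by linear_combination h)
  have hdec : M = Multiset.replicate (M.count lam) lam + Multiset.replicate (M.count (-lam)) (-lam) := by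
    ext a
    simp only [Multiset.count_add, Multiset.count_replicate]
    by_cases ha : a ∈ M
    · have h := pow_of_mem (N := 2) (c := z) (by rw [pow_two, hx]) ha
      rw [← hlam] at h
      rcases sq_eq_sq_iff_eq_or_eq_neg.1 h with rfl | rfl
      · simp [hne.symm]
      · simp [hne]
    · rw [Multiset.count_eq_zero.2 ha]
      have k : ∀ b : Ω, (if b = a then M.count b else 0) = 0 := fun b => by
        split_ifs with h
        · rw [h, Multiset.count_eq_zero.2 ha]
        · rfl
      simp [k]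
  have hcard := congrArg Multiset.card hdec
  rw [hM, card_eigen, h4] at hcard
  simp only [Multiset.card_add, Multiset.card_replicate, ← hM] at hcard
  have hq : 0 < Fintype.card F - 1 := Nat.sub_pos_of_lt Fintype.one_lt_card
  have hpow : x ^ (2 * (Fintype.card F - 1)) = 1 := by
    rw [pow_mul, pow_two, hx, _root_.smul_pow, one_pow, FiniteField.pow_card_sub_one_eq_one z hz, one_smul]
  have hN : ((2 * (Fintype.card F - 1) : ℕ) : F) ≠ 0 := by
    rw [Nat.cast_mul, Nat.cast_sub (Fintype.card_pos), FiniteField.cast_card_eq_zero]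
    simpa using h2
  have h40 : ((Fintype.card ι : ℕ) : F) ≠ 0 := by
    rw [h4, show ((4 : ℕ) : F) = 2 * 2 by norm_num]; exact mul_ne_zero h2 h2
  refine ⟨M.count (-lam), ?_, ?_⟩
  · by_contra hb
    push Not at hb
    rcases (show M.count lam = 4 ∧ M.count (-lam) = 0 ∨ M.count lam = 0 ∧ M.count (-lam) = 4 by omega) with
      ⟨u, v⟩ | ⟨u, v⟩
    · obtain ⟨c, hc⟩ := sc_of_count hN h40 hpow (lam := lam) (by rw [← hM, hdec, u, v, h4]; simp)
      exact hns c hc
    · obtain ⟨c, hc⟩ := sc_of_count hN h40 hpow (lam := -lam) (by rw [← hM, hdec, u, v, h4]; simp)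
      exact hns c hc
  · conv_lhs => rw [hdec]
    rw [show 4 - M.count (-lam) = M.count lam by omega]

theorem exists_sqrt (z : F) : ∃ lam : Ω, lam ^ 2 = φ z := IsAlgClosed.exists_pow_nat_eq _ two_pos

/-- Elements with one scalar square and one trace have one characteristic polynomial. -/
theorem charpoly_eq_two [Fintype F] [Nonempty ι] (h4 : Fintype.card ι = 4) (h2 : (2 : F) ≠ 0)
    {z : F} (hz : z ≠ 0) (hx : x * x = z • 1) (hy : y * y = z • 1) (hnx : ∀ c : F, x ≠ c • 1)
    (hny : ∀ c : F, y ≠ c • 1) (ht : x.trace = y.trace) : x.charpoly = y.charpoly := by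
  obtain ⟨lam, hlam⟩ := exists_sqrt z
  obtain ⟨b, hb, ex⟩ := eigen_two h4 h2 hz hx hnx hlam
  obtain ⟨c, hc, ey⟩ := eigen_two h4 h2 hz hy hny hlam
  refine charpoly_eq_of_eigen ?_
  have h2' : (2 : Ω) ≠ 0 := by rw [← map_ofNat φ]; exact (map_ne_zero φ).2 h2
  have hl0 : lam ≠ 0 := fun h => hz ((φ).injective (by rw [map_zero, ← hlam, h]; simp))
  have h := congrArg φ ht
  rw [trace_eigen, trace_eigen, ex, ey] at h
  have hbc : b = c := by
    rcases hb with rfl | rfl | rfl <;> rcases hc with rfl | rfl | rfl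
    all_goals first
      | rfl
      | (exfalso
         simp [Multiset.sum_replicate] at h
         first
           | exact mul_ne_zero h2' hl0 (by linear_combination h)
           | exact mul_ne_zero h2' hl0 (by linear_combination -h)
           | exact mul_ne_zero (mul_ne_zero h2' h2') hl0 (by linear_combination h)
           | exact mul_ne_zero (mul_ne_zero h2' h2') hl0 (by linear_combination -h))
  rw [ex, ey, hbc]

/-- Trace of a non-scalar element of determinant one with scalar square. -/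
theorem trace_two [Fintype F] [Nonempty ι] (h4 : Fintype.card ι = 4) (h2 : (2 : F) ≠ 0)
    {z : F} (hz : z ≠ 0) (hx : x * x = z • 1) (hnx : ∀ c : F, x ≠ c • 1) (hd : x.det = 1) :
    (z ^ 2 = 1 ∧ x.trace = 0) ∨ (z ^ 2 = -1 ∧ x.trace ^ 2 = 4 * z) := by
  obtain ⟨lam, hlam⟩ := exists_sqrt z
  obtain ⟨b, hb, ex⟩ := eigen_two h4 h2 hz hx hnx hlam
  have ht := trace_eigen x
  have hp := det_eigen x
  rw [hd, map_one, ex] at hp
  rw [ex] at ht
  rcases hb with rfl | rfl | rfl <;> simp [Multiset.sum_replicate, Multiset.prod_replicate] at ht hp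
  · refine Or.inr ⟨(φ).injective ?_, (φ).injective ?_⟩
    · rw [map_pow, _root_.map_neg, map_one, ← hlam]; linear_combination hp
    · rw [map_pow, map_mul, map_ofNat, ← hlam, ht]; ring
  · refine Or.inl ⟨(φ).injective ?_, (φ).injective ?_⟩
    · rw [map_pow, map_one, ← hlam]; linear_combination -hp
    · rw [ht]
  · refine Or.inr ⟨(φ).injective ?_, (φ).injective ?_⟩
    · rw [map_pow, _root_.map_neg, map_one, ← hlam]; linear_combination hp
    · rw [map_pow, map_mul, map_ofNat, ← hlam, ht]; ring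

end CfsgLib.PrimeElusive.SymplRoots
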