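import Cfsg.Agent.Lib.PrimeElusive.SymplWitness
import Cfsg.Agent.Lib.PrimeElusive.SymplRoots

/-!
Which elements of prime order of four-dimensional groups have conjugates normalizing a symplectic-type 2-group:
general criteria and witnesses with prescribed characteristic polynomial.
-/

set_option autoImplicit false
set_option linter.unusedSectionVars false

namespace CfsgLib.PrimeElusive.SymplType

open Matrix
open CfsgLib.Recog.SelfReciprocalRoots (eigen)
open CfsgLib.PrimeElusive

open scoped MatrixGroups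

variable {F : Type*} [Field F] {ι : Type} [Fintype ι] [DecidableEq ι] {R : Subgroup (GL ι F)} {z : ℕ}

local notation "N" => Subgroup.normalizer (R : Set (GL ι F))

theorem not_sc_iff {g : GL ι F} : ¬ Sc g ↔ ∀ c : F, (g : Matrix ι ι F) ≠ c • (1 : Matrix ι ι F) :=
  ⟨fun h c hc => h ⟨c, hc⟩, fun h ⟨c, hc⟩ => h c hc⟩

theorem Sc.of_conj {g x : GL ι F} (h : Sc (g⁻¹ * x * g)) : Sc x := by
  obtain ⟨c, hc⟩ := h
  refine ⟨c, ?_⟩
  have e : x = g * (g⁻¹ * x * g) * g⁻¹ := by group
  rw [e]
  show mt g * mt (g⁻¹ * x * g) * mt g⁻¹ = _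
  rw [hc, mul_smul_comm, mul_one, smul_mul_assoc, ← Units.val_mul, mul_inv_cancel, Units.val_one]

theorem trace_conj (g x : GL ι F) : (mt (g⁻¹ * x * g)).trace = (mt x).trace := by
  show (mt g⁻¹ * mt x * mt g).trace = _
  rw [Matrix.trace_mul_cycle, ← Units.val_mul, mul_inv_cancel, Units.val_one, one_mul]

theorem scalar_normalizes {M : GL ι F} (h : Sc M) : M ∈ N := by
  rw [Subgroup.mem_normalizer_iff]
  intro x
  rw [h.commute x, mul_inv_cancel_right]

theorem Data.z_ne (D : Data R z) (hz : z = 2 ∨ z = 4) : (z : F) ≠ 0 := by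
  rcases hz with rfl | rfl
  · exact_mod_cast D.two
  · exact_mod_cast D.four_ne

/-! ### Criteria -/

/-- Order at least five: order five and product of the traces one. -/
theorem Data.criterion_large (D : Data R z) (hz : z = 2 ∨ z = 4) {r : ℕ} [Fact r.Prime] (h5 : 5 ≤ r)
    {x g : GL ι F} (hx : x ^ r = 1) (hns : ¬ Sc x) (hg : g⁻¹ * x * g ∈ N) :
    r = 5 ∧ (mt x).trace * (mt x⁻¹).trace = 1 := by
  have hyr : (g⁻¹ * x * g) ^ r = 1 := by
    rw [show g⁻¹ * x * g = MulAut.conj g⁻¹ x by simp, ← map_pow, hx, map_one]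
  obtain ⟨h, hc⟩ := (D.cases_large h5 hg hyr hz).resolve_left fun h => hns h.of_conj
  refine ⟨h, ?_⟩
  have e := D.trace_mul_trace (r := r) (by omega) hg hyr
  rw [show (g⁻¹ * x * g)⁻¹ = g⁻¹ * x⁻¹ * g by group, trace_conj, trace_conj, hc] at e
  exact (mul_eq_left₀ (D.z_ne hz)).1 e

/-- Order three: product of the traces one or four. -/
theorem Data.criterion_three (D : Data R z) (hz : z = 2 ∨ z = 4)
    {x g : GL ι F} (hx : x ^ 3 = 1) (hns : ¬ Sc x) (hg : g⁻¹ * x * g ∈ N) :
    (Nat.card (cent R (g⁻¹ * x * g)) = z ∧ (mt x).trace * (mt x⁻¹).trace = 1) ∨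
      (Nat.card (cent R (g⁻¹ * x * g)) = 4 * z ∧ (mt x).trace * (mt x⁻¹).trace = 4) := by
  have : Fact (Nat.Prime 3) := ⟨by norm_num⟩
  have hyr : (g⁻¹ * x * g) ^ 3 = 1 := by
    rw [show g⁻¹ * x * g = MulAut.conj g⁻¹ x by simp, ← map_pow, hx, map_one]
  have e := D.trace_mul_trace (r := 3) (by norm_num) hg hyr
  rw [show (g⁻¹ * x * g)⁻¹ = g⁻¹ * x⁻¹ * g by group, trace_conj, trace_conj] at e
  rcases (D.cases_three hg hyr hz).resolve_left fun h => hns h.of_conj with hc | hc
  · refine Or.inl ⟨hc, ?_⟩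
    rw [hc] at e
    exact (mul_eq_left₀ (D.z_ne hz)).1 e
  · refine Or.inr ⟨hc, mul_left_cancel₀ (D.z_ne hz) ?_⟩
    rw [e, hc]; push_cast; ring

/-- Order three with product of the traces seven. -/
theorem Data.not_seven (D : Data R z) (hz : z = 2 ∨ z = 4) (h3 : (3 : F) ≠ 0)
    {x g : GL ι F} (hx : x ^ 3 = 1) (hns : ¬ Sc x) (h7 : (mt x).trace * (mt x⁻¹).trace = 7) :
    g⁻¹ * x * g ∉ N := by
  intro hg
  rcases D.criterion_three hz hx hns hg with ⟨-, h⟩ | ⟨-, h⟩ <;> rw [h7] at h
  · exact mul_ne_zero D.two h3 (by linear_combination h)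
  · exact h3 (by linear_combination h)

theorem rank_one (u w : ι → F) (M : Matrix ι ι F) :
    vecMulVec u w * M * vecMulVec u w = (vecMulVec u w * M).trace • vecMulVec u w := by
  rw [Matrix.vecMulVec_mul, Matrix.trace_vecMulVec, Matrix.vecMulVec_mul_vecMulVec, dotProduct_comm u]
  simp [Matrix.vecMulVec_smul]

/-- A transvection of odd prime order has no conjugate in the normalizer. -/
theorem Data.not_transvection (D : Data R z) {r : ℕ} [Fact r.Prime] (hr2 : r ≠ 2) {x : GL ι F} (hxr : x ^ r = 1)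
    (hns : ¬ Sc x) {u w : ι → F} (huw : w ⬝ᵥ u = 0) (hx : mt x = 1 + vecMulVec u w) (g : GL ι F) :
    g⁻¹ * x * g ∉ N := by
  intro hg
  refine hns (Sc.of_conj (D.sc_of_transvection hr2 hg
    (by rw [show g⁻¹ * x * g = MulAut.conj g⁻¹ x by simp, ← map_pow, hxr, map_one])
    (n := vecMulVec (mt g⁻¹ *ᵥ u) (w ᵥ* mt g)) ?_ ?_ (rank_one _ _)))
  · show mt g⁻¹ * mt x * mt g = _
    rw [hx, mul_add, add_mul, mul_one, ← Units.val_mul, inv_mul_cancel, Units.val_one, Matrix.mul_vecMulVec,
      Matrix.vecMulVec_mul]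
  · rw [Matrix.vecMulVec_mul_vecMulVec, ← Matrix.dotProduct_mulVec, Matrix.mulVec_mulVec, ← Units.val_mul,
      mul_inv_cancel, Units.val_one, Matrix.one_mulVec, huw, zero_smul]
    ext i j; simp [vecMulVec]

/-! ### Frames and scalars -/

theorem Data.exists_i (D : Data R z) (hz : z = 4) : ∃ i ∈ R, Sc i ∧ mt i * mt i = -1 := by
  classical
  have := D.nonempty
  by_contra hno
  push Not at hno
  let ev : Subgroup.center R → ({1, -1} : Finset F) := fun c =>
    ⟨((mem_center_iff D.irr c.1).1 c.2).choose, by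
      obtain ⟨v, hv⟩ := (⟨_, ((mem_center_iff D.irr c.1).1 c.2).choose_spec⟩ :
        ∃ v, mt ((c : R) : GL ι F) = ((mem_center_iff D.irr c.1).1 c.2).choose • v)
      set a := ((mem_center_iff D.irr c.1).1 c.2).choose
      have ha : mt ((c : R) : GL ι F) = a • 1 := ((mem_center_iff D.irr c.1).1 c.2).choose_spec
      have hs : mt ((c : R) : GL ι F) * mt ((c : R) : GL ι F) = 1 :=
        (D.sq _ c.1.2).resolve_right fun h => hno _ c.1.2 ⟨a, ha⟩ h
      rw [ha, smul_mul_smul_comm, one_mul] at hs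
      obtain ⟨i⟩ := D.nonempty
      have := congrFun (congrFun hs i) i
      simp at this
      rcases mul_self_eq_one_iff.1 this with h | h <;> simp [h]⟩
  have hinj : Function.Injective ev := fun c d h => by
    refine Subtype.ext (Subtype.ext (Units.ext ?_))
    have h1 := ((mem_center_iff D.irr c.1).1 c.2).choose_spec
    have h2 := ((mem_center_iff D.irr d.1).1 d.2).choose_spec
    show mt _ = mt _
    rw [h1, h2]
    congr 1
    exact congrArg Subtype.val h
  have h := Nat.card_le_card_of_injective ev hinj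
  rw [D.center, hz, Nat.card_eq_fintype_card, Fintype.card_coe] at h
  exact absurd (h.trans Finset.card_le_two) (by norm_num)

theorem Data.frame_four (D : Data R z) (hz : z = 4) : Nonempty (Frame R) :=
  D.exists_frame (Or.inl (D.exists_i hz))

theorem Data.frame_minus (D : Data R z) (hm : Cfsg.Geo.IsOfMinusType 2 R) : Nonempty (Frame R) := by
  classical
  have := D.finite
  have := D.nonempty
  refine D.exists_frame (Or.inr fun g hg k hk hg2 hk2 hgk => ?_)
  obtain ⟨a, ha, hans⟩ : ∃ a ∈ R, ¬ Sc a := by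
    by_contra hno
    push Not at hno
    have htop : Subgroup.center R = ⊤ := eq_top_iff.2 fun g _ => (mem_center_iff D.irr g).2 (hno g g.2)
    have h1 := D.center
    rw [htop, Subgroup.card_top, D.card] at h1
    have := D.pos
    omega
  by_contra hcon
  push Not at hcon
  obtain ⟨hgs, hks, hgks⟩ := hcon
  obtain ⟨b, hb, hab⟩ := D.exists_anti ha hans
  have hcomR : ((a * b) * (b * a)⁻¹) ∈ R := R.mul_mem (R.mul_mem ha hb) (R.inv_mem (R.mul_mem hb ha))
  have hcom : mt (a * b * (b * a)⁻¹) = -1 := by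
    show mt a * mt b * mt (b * a)⁻¹ = -1
    rw [show mt a * mt b = -(mt b * mt a) from hab, neg_mul, show mt b * mt a = mt (b * a) from rfl, mul_inv_val]
  set e : GL ι F := a * b * (b * a)⁻¹
  let A : Subgroup R := Subgroup.closure {⟨e, hcomR⟩, ⟨g, hg⟩, ⟨k, hk⟩}
  have hesc : Sc e := ⟨-1, by rw [hcom, neg_one_smul]⟩
  have hcomm : ∀ x ∈ ({⟨e, hcomR⟩, ⟨g, hg⟩, ⟨k, hk⟩} : Set R),
      ∀ y ∈ ({⟨e, hcomR⟩, ⟨g, hg⟩, ⟨k, hk⟩} : Set R), x * y = y * x := by
    rintro x (rfl | rfl | rfl) y (rfl | rfl | rfl) <;> refine Subtype.ext ?_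
    exacts [rfl, hesc.commute g, hesc.commute k, (hesc.commute g).symm, rfl, hgk, (hesc.commute k).symm, hgk.symm, rfl]
  have hA : IsMulCommutative A := Subgroup.isMulCommutative_closure hcomm
  have hsq : ∀ x ∈ A, x * x = 1 := by
    intro x hx
    induction hx using Subgroup.closure_induction with
    | mem x hx =>
      rcases hx with rfl | rfl | rfl <;> refine Subtype.ext (Units.ext ?_)
      · show mt e * mt e = 1; rw [hcom]; simp
      · exact hg2
      · exact hk2
    | one => simp
    | mul x y hx hy hx2 hy2 =>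
      have h := congrArg Subtype.val (hA.is_comm.comm ⟨y, hy⟩ ⟨x, hx⟩)
      rw [Subgroup.coe_mul, Subgroup.coe_mul] at h
      calc x * y * (x * y) = x * (y * x) * y := by simp [mul_assoc]
        _ = x * (x * y) * y := by rw [h]
        _ = x * x * (y * y) := by simp [mul_assoc]
        _ = 1 := by rw [hx2, hy2, one_mul]
    | inv x hx hx2 => rw [← _root_.mul_inv_rev, hx2, inv_one]
  have hlt := hm A hA hsq
  -- eight distinct elements
  let T : Bool × Bool × Bool → A := fun t =>
    ⟨(if t.1 then ⟨e, hcomR⟩ else 1) * (if t.2.1 then ⟨g, hg⟩ else 1) * (if t.2.2 then ⟨k, hk⟩ else 1),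
      A.mul_mem (A.mul_mem (by split_ifs; exacts [Subgroup.subset_closure (by simp), A.one_mem])
        (by split_ifs; exacts [Subgroup.subset_closure (by simp), A.one_mem]))
        (by split_ifs; exacts [Subgroup.subset_closure (by simp), A.one_mem])⟩
  have hval : ∀ t, mt ((T t : R) : GL ι F) = (if t.1 then (-1 : F) else 1) •
      ((if t.2.1 then mt g else 1) * (if t.2.2 then mt k else 1)) := by
    rintro ⟨u, v, w⟩
    cases u <;> cases v <;> cases w <;> simp [T, hcom]
  have hinj : Function.Injective T := by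
    rintro ⟨u, v, w⟩ ⟨u', v', w'⟩ h
    have h' := congrArg (fun t : A => mt ((t : R) : GL ι F)) h
    simp only [hval] at h'
    have e1 : g * g = 1 := Units.ext hg2
    have e1' : ∀ M, g * (g * M) = M := fun M => by rw [← mul_assoc, e1, one_mul]
    have e2 : k * k = 1 := Units.ext hk2
    have e4 : ∀ M, k * (g * M) = g * (k * M) := fun M => by rw [← mul_assoc, ← hgk, mul_assoc]
    have hG := congrArg (fun t : A => ((t : R) : GL ι F)) h
    simp only [T, Subgroup.coe_mul, apply_ite (fun t : R => (t : GL ι F)), Subgroup.coe_one] at hG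
    have hsc : Sc (((if v then g else 1) * if w then k else 1) * ((if v' then g else 1) * if w' then k else 1)) := by
      have hX : ((if v' then g else 1) * if w' then k else 1) * ((if v' then g else 1) * if w' then k else 1) = 1 := by
        cases v' <;> cases w' <;> simp [e1, e2, e4, e1', mul_assoc]
      have hh : ((if v then g else 1) * if w then k else 1) * ((if v' then g else 1) * if w' then k else 1) =
          (if u then e else 1)⁻¹ * (if u' then e else 1) := by
        have h2 := congrArg (fun M => (if u then e else 1)⁻¹ * M * ((if v' then g else 1) * if w' then k else 1)) hG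
        simp only [mul_assoc, inv_mul_cancel_left] at h2
        rw [mul_assoc] at hX
        rw [mul_assoc, h2, hX, mul_one]
      rw [hh]
      have heinv : e⁻¹ = e := inv_eq_of_mul_eq_one_right (Units.ext (by show mt e * mt e = 1; rw [hcom]; simp))
      have hee : e * e = 1 := Units.ext (by show mt e * mt e = 1; rw [hcom]; simp)
      have h1 : Sc (1 : GL ι F) := ⟨1, by rw [one_smul]; rfl⟩
      cases u <;> cases u' <;> simp [heinv, hee, h1, hesc]
    have hvw : v = v' ∧ w = w' := by
      cases v <;> cases v' <;> cases w <;> cases w' <;>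
        simp [e1, e1', e2, e4, ← hgk, mul_assoc, hgs, hks, hgks] at hsc ⊢
    obtain ⟨rfl, rfl⟩ := hvw
    have hM : ((if v then mt g else 1) * if w then mt k else 1) ≠ 0 := by
      cases v <;> cases w
      · simp
      · simpa using k.isUnit.ne_zero
      · simpa using g.isUnit.ne_zero
      · exact (g * k).isUnit.ne_zero
    have h3 := smul_left_injective F hM h'
    cases u <;> cases u' <;> first | rfl | (exfalso; simp at h3; exact D.two (by linear_combination h3)) |
      (exfalso; simp at h3; exact D.two (by linear_combination -h3))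
  have h8 := Nat.card_le_card_of_injective T hinj
  simp [Nat.card_eq_fintype_card (α := Bool × Bool × Bool)] at h8
  omega

/-- Minus type: an element of order three has more fixed points than the centre. -/
theorem Data.trace_minus (D : Data R 2) (f : Frame R) {x g : GL ι F} (hx : x ^ 3 = 1) (hns : ¬ Sc x)
    (hg : g⁻¹ * x * g ∈ N) : (mt x).trace * (mt x⁻¹).trace = 4 := by
  classical
  rcases D.criterion_three (Or.inl rfl) hx hns hg with ⟨hc, -⟩ | ⟨-, h⟩
  swap
  · exact h
  exfalso
  have := D.finite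
  have := D.nonempty
  have : Fact (Nat.Prime 3) := ⟨by norm_num⟩
  set y := g⁻¹ * x * g
  let P : GL ι F → Prop := fun u => mt u * mt u = 1
  have hP : ∀ u ∈ R, P u → P (y * u * y⁻¹) := fun u _ hu => by
    show mt (y * u * y⁻¹) * mt (y * u * y⁻¹) = 1
    have : u * u = 1 := Units.ext hu
    exact congrArg Units.val (show y * u * y⁻¹ * (y * u * y⁻¹) = 1 by
      calc y * u * y⁻¹ * (y * u * y⁻¹) = y * (u * u) * y⁻¹ := by group
        _ = 1 := by rw [this]; group)
  have hm := D.fixed_modEq (r := 3) hg (by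
    rw [show y = MulAut.conj g⁻¹ x by simp [y], ← map_pow, hx, map_one]) P hP
  -- twelve elements square to one
  choose m hm' em using fun q : Fin 4 × Fin 4 => f.mono_mem q.1 q.2
  let E : Bool × Fin 4 × Fin 4 → R := fun t => ⟨(if t.1 then f.a * f.a else 1) * m t.2,
    R.mul_mem (by split_ifs; exacts [R.mul_mem f.ha f.ha, R.one_mem]) (hm' t.2)⟩
  have hEv : ∀ t, mt (E t : GL ι F) = (if t.1 then (-1 : F) else 1) • f.mono t.2.1 t.2.2 := by
    intro t
    show mt (if t.1 then f.a * f.a else 1) * mt (m t.2) = _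
    rw [em]
    cases t.1 <;> simp [f.saa]
  have hsg : ∀ q : Fin 4 × Fin 4, f.mono q.1 q.2 * f.mono q.1 q.2 = Frame.sq2 q.1 q.2 • 1 := fun q => by
    have hxp : ∀ u : Fin 4, xr u u = 0 := by decide
    rw [f.mono_mul, hxp, hxp, show f.mono 0 0 = (1 : Matrix ι ι F) by simp [Frame.mono, pr]]
    rfl
  have hEinj : Function.Injective E := by
    rintro ⟨u, q⟩ ⟨u', q'⟩ h
    have h' := congrArg (fun t : R => mt (t : GL ι F)) h
    simp only [hEv] at h'
    have hq : q = q' := by
      by_contra hqq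
      have h2 := congrArg (fun M => (M * f.mono q.1 q.2).trace) h'
      simp only [smul_mul_assoc, Matrix.trace_smul, hsg, f.mono_mul, f.trace_mono D _ _ (fun hz => hqq (by
        have key : ∀ a b : Fin 4, xr a b = 0 → b = a := by decide
        exact Prod.ext (key _ _ hz.1) (key _ _ hz.2))), smul_zero, D.trace_one] at h2
      have hs : ∀ u v : Fin 4, Frame.sq2 u v = 1 ∨ Frame.sq2 u v = -1 := by decide
      rcases hs q.1 q.2 with e | e <;> rw [e] at h2 <;> cases u <;> simp [D.four_ne] at h2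
    subst hq
    have hne : f.mono q.1 q.2 ≠ 0 := by rw [← em]; exact (m q).isUnit.ne_zero
    have h3 := smul_left_injective F hne h'
    cases u <;> cases u' <;> first | rfl | (exfalso; simp at h3; exact D.two (by linear_combination h3)) |
      (exfalso; simp at h3; exact D.two (by linear_combination -h3))
  have := Fintype.ofFinite R
  have hEbij : Function.Bijective E := (Fintype.bijective_iff_injective_and_card E).2 ⟨hEinj, by
    rw [← Nat.card_eq_fintype_card (α := R), D.card]; simp⟩
  have h12 : Nat.card {u : R // P u} = 12 := by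
    have hiff : ∀ t, P (E t : GL ι F) ↔ Frame.sq2 t.2.1 t.2.2 = 1 := by
      intro t
      show mt (E t : GL ι F) * mt (E t : GL ι F) = 1 ↔ _
      rw [hEv, smul_mul_smul_comm, hsg, show ((if t.1 then (-1 : F) else 1) * if t.1 then -1 else 1) = 1 by
        cases t.1 <;> simp, one_smul]
      have hs : ∀ u v : Fin 4, Frame.sq2 u v = 1 ∨ Frame.sq2 u v = -1 := by decide
      rcases hs t.2.1 t.2.2 with e | e <;> rw [e]
      · simp
      · simp only [Int.reduceNeg, neg_smul, one_smul, show ((-1 : ℤ) = 1) ↔ False by norm_num, iff_false]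
        intro h
        obtain ⟨i⟩ := D.nonempty
        have := congrFun (congrFun h i) i
        simp at this
        exact D.two (by linear_combination -this)
    rw [← Nat.card_congr ((Equiv.ofBijective E hEbij).subtypeEquiv (fun t => (hiff t).symm)),
      Nat.card_eq_fintype_card, Fintype.card_subtype]
    decide
  have h2 : Nat.card {u : R // P u ∧ y * u = u * y} = 2 := by
    have hC : Subgroup.center R = cent R y :=
      Subgroup.eq_of_le_of_card_ge (D.center_le_cent y) (by rw [hc, D.center])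
    have e : {u : R // P u ∧ y * u = u * y} ≃ cent R y := Equiv.subtypeEquivRight fun u => by
      rw [← mem_cent]
      refine ⟨fun h => h.2, fun h => ⟨?_, h⟩⟩
      rw [← hC, mem_center_iff D.irr] at h
      show mt (u : GL ι F) * mt (u : GL ι F) = 1
      refine (D.sq _ u.2).resolve_right fun hneg => ?_
      -- the centre would have more than two elements
      obtain ⟨c, hcv⟩ := h
      have hmem : ∀ w : R, Sc (w : GL ι F) → w ∈ Subgroup.center R := fun w => (mem_center_iff D.irr w).2
      have hlt : 2 < Nat.card (Subgroup.center R) := by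
        rw [← Nat.card_fin 2] at *
        let T : Fin 3 → Subgroup.center R :=
          ![1, ⟨u, hmem u ⟨c, hcv⟩⟩, ⟨u * u, hmem _ ⟨-1, by rw [neg_one_smul]; exact hneg⟩⟩]
        have hT : Function.Injective T := by
          have h01 : mt (u : GL ι F) ≠ 1 := fun e => by
            rw [e, one_mul] at hneg
            obtain ⟨i⟩ := D.nonempty
            have := congrFun (congrFun hneg i) i
            simp at this
            exact D.two (by linear_combination this)
          have h02 : mt ((u * u : R) : GL ι F) ≠ 1 := fun e => by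
            rw [show mt ((u * u : R) : GL ι F) = -1 from hneg] at e
            obtain ⟨i⟩ := D.nonempty
            have := congrFun (congrFun e i) i
            simp at this
            exact D.two (by linear_combination -this)
          have h12 : (u : R) ≠ u * u := fun e => h01 (by
            have := congrArg (fun w : R => mt (w : GL ι F)) (mul_eq_left.1 e.symm)
            simpa using this)
          intro p q hpq
          have hpq' := congrArg (fun w : Subgroup.center R => (w : R)) hpq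
          fin_cases p <;> fin_cases q <;> simp [T] at hpq' ⊢
          all_goals first
            | exact h01 (by rw [← hpq']; rfl)
            | exact h01 (by rw [hpq']; rfl)
            | exact h02 (by rw [← hpq']; rfl)
            | exact h02 (by rw [hpq']; rfl)
            | exact h12 hpq'
            | exact h12 hpq'.symm
        have := Nat.card_le_card_of_injective T hT
        simp at this ⊢
        omega
      rw [D.center] at hlt
      omega
    rw [Nat.card_congr e, hc]
  rw [h12, h2] at hm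
  exact absurd hm (by decide)

/-! ### Witnesses -/

section witnesses

variable [Fintype F] [Nonempty ι] (D : Data R z) (fr : Frame R)

variable {Q : GL ι F → Prop} (hW : ∀ y, (∀ A : Adj R, A.Isom y) → Q y)
  {f : AlgebraicClosure F → AlgebraicClosure F} (hf : Function.Injective f) (hQ : ∀ y, Q y → (eigen (mt y)).map f = eigen (mt y))

include D fr hW hf hQ in
/-- A witness for an element of order five. -/
theorem Data.witness_five (h5 : (5 : F) ≠ 0) {m : ℕ} (hm : m % 5 = 2 ∨ m % 5 = 3)
    (hfm : ∀ a : AlgebraicClosure F, a ^ 5 = 1 → f a = a ^ m) {x : GL ι F} (hQx : Q x) (hx : x ^ 5 = 1) (hns : ¬ Sc x) :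
    ∃ y ∈ N, y ^ 5 = 1 ∧ Q y ∧ (mt x).charpoly = (mt y).charpoly := by
  obtain ⟨y, hy, hy5, hyns, hA⟩ := D.exists_five fr
  exact ⟨y, hy, hy5, hW y hA, SymplRoots.charpoly_eq_five D.four h5 D.four_ne hf hm hfm (hQ x hQx) (hQ y (hW y hA))
    (by rw [← Units.val_pow_eq_pow_val, hx, Units.val_one]) (by rw [← Units.val_pow_eq_pow_val, hy5, Units.val_one])
    (not_sc_iff.1 hns) (not_sc_iff.1 hyns)⟩

include D fr hW hf hQ in
/-- A witness for an element of order three. -/
theorem Data.witness_three (hz : z = 4) (h3 : (3 : F) ≠ 0) {m : ℕ} (hm : m % 3 = 2)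
    (hfm : ∀ a : AlgebraicClosure F, a ^ 3 = 1 → f a = a ^ m) {x : GL ι F} (hQx : Q x) (hx : x ^ 3 = 1) (hns : ¬ Sc x) :
    ∃ y ∈ N, y ^ 3 = 1 ∧ Q y ∧ (mt x).charpoly = (mt y).charpoly := by
  have hx' : mt x ^ 3 = 1 := by rw [← Units.val_pow_eq_pow_val, hx, Units.val_one]
  have fin : ∀ y : GL ι F, y ∈ N → y ^ 3 = 1 → ¬ Sc y → (∀ A : Adj R, A.Isom y) →
      (mt x).trace = (mt y).trace → ∃ y ∈ N, y ^ 3 = 1 ∧ Q y ∧ (mt x).charpoly = (mt y).charpoly :=
    fun y hy hy3 hyns hA ht => ⟨y, hy, hy3, hW y hA, SymplRoots.charpoly_eq_three D.four h3 D.four_ne hf hm hfm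
      (hQ x hQx) (hQ y (hW y hA)) hx' (by rw [← Units.val_pow_eq_pow_val, hy3, Units.val_one])
      (not_sc_iff.1 hns) (not_sc_iff.1 hyns) ht⟩
  rcases SymplRoots.trace_three D.four h3 D.four_ne hf (hQ x hQx) hm hfm hx' (not_sc_iff.1 hns) with ht | ht
  · obtain ⟨i, hiR, hi, hi2⟩ := D.exists_i hz
    obtain ⟨y, hy, hy3, hyns, hyt, hA⟩ := D.exists_three' fr hiR hi hi2
    exact fin y hy hy3 hyns hA (ht.trans hyt.symm)
  · obtain ⟨y, hy, hy3, hyns, hyt, hA⟩ := D.exists_three fr
    exact fin y hy hy3 hyns hA (ht.trans hyt.symm)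

include D fr hW in
/-- A witness for an element with scalar square and determinant one. -/
theorem Data.witness_two (hQmul : ∀ u v, Q u → Q v → Q (u * v)) {x : GL ι F} {c : F} (hc : c ≠ 0)
    (hx : mt x * mt x = c • 1) (hns : ¬ Sc x) (hd : (mt x).det = 1)
    (hi : c ^ 2 = -1 → z = 4 ∧ ∀ M : GL ι F, mt M = ((mt x).trace / 2) • 1 → Q M) :
    ∃ y ∈ N, mt y * mt y = c • 1 ∧ Q y ∧ (mt x).charpoly = (mt y).charpoly := by
  classical
  have h2 := D.two
  have fin : ∀ y : GL ι F, y ∈ N → mt y * mt y = c • 1 → ¬ Sc y → Q y → (mt x).trace = (mt y).trace →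
      ∃ y ∈ N, mt y * mt y = c • 1 ∧ Q y ∧ (mt x).charpoly = (mt y).charpoly :=
    fun y hy hy2 hyns hQy ht => ⟨y, hy, hy2, hQy,
      SymplRoots.charpoly_eq_two D.four h2 hc hx hy2 (not_sc_iff.1 hns) (not_sc_iff.1 hyns) ht⟩
  rcases SymplRoots.trace_two D.four h2 hc hx (not_sc_iff.1 hns) hd with ⟨hc2, ht⟩ | ⟨hc2, ht⟩
  · have key : ∀ y ∈ R, ¬ Sc y → mt y * mt y = c • 1 → ∃ y ∈ N, mt y * mt y = c • 1 ∧ Q y ∧
        (mt x).charpoly = (mt y).charpoly := fun y hy hyns hy2 =>
      fin y (Subgroup.le_normalizer hy) hy2 hyns (hW y fun A => A.map_mem y hy)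
        (ht.trans (D.trace_eq_zero hy hyns).symm)
    rcases sq_eq_one_iff.1 hc2 with rfl | rfl
    · exact key fr.c fr.hc (fr.cd.not_sc h2) (by rw [one_smul]; exact fr.scc)
    · exact key fr.a fr.ha (fr.ab.not_sc h2) (by rw [neg_one_smul]; exact fr.saa)
  · obtain ⟨hz, hM⟩ := hi hc2
    obtain ⟨i, hiR, hsi, hi2⟩ := D.exists_i hz
    obtain ⟨w, hw, hw2, hwns, hwt, hA⟩ := D.exists_two fr hiR hsi hi2
    set μ := (mt x).trace / 2 with hμdef
    have hμ : μ * μ = c := by rw [hμdef]; field_simp; linear_combination ht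
    have hμ0 : μ ≠ 0 := fun h => hc (by rw [← hμ, h, mul_zero])
    let M : GL ι F := Matrix.GeneralLinearGroup.mkOfDetNeZero (μ • (1 : Matrix ι ι F))
      (by rw [Matrix.det_smul, Matrix.det_one, mul_one]; exact pow_ne_zero _ hμ0)
    have hMv : mt M = μ • 1 := rfl
    refine fin (M * w) (mul_mem (scalar_normalizes ⟨μ, hMv⟩) hw) ?_ ?_ (hQmul _ _ (hM M hMv) (hW w hA)) ?_
    · show mt M * mt w * (mt M * mt w) = _
      rw [hMv, smul_mul_assoc, one_mul, smul_mul_smul_comm, hw2, hμ]
    · rintro ⟨d, hd'⟩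
      refine hwns ⟨μ⁻¹ * d, ?_⟩
      change mt M * mt w = _ at hd'
      rw [hMv, smul_mul_assoc, one_mul] at hd'
      rw [mul_smul, ← hd', smul_smul, inv_mul_cancel₀ hμ0, one_smul]
    · show _ = (mt M * mt w).trace
      rw [hMv, smul_mul_assoc, one_mul, Matrix.trace_smul, hwt, smul_eq_mul, hμdef, div_mul_cancel₀ _ h2]

end witnesses

/-! ### Auxiliary constructions -/

theorem det_eq_of_charpoly {x y : Matrix ι ι F} (h : x.charpoly = y.charpoly) : x.det = y.det := by
  rw [Matrix.det_eq_sign_charpoly_coeff, Matrix.det_eq_sign_charpoly_coeff, h]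

theorem orderOf_zmod_five (p : ℕ) : orderOf (p : ZMod 5) = 4 ↔ p % 5 = 2 ∨ p % 5 = 3 := by
  rw [← ZMod.natCast_mod p 5]
  have h : p % 5 < 5 := Nat.mod_lt _ (by norm_num)
  have : Fact (Nat.Prime 2) := ⟨Nat.prime_two⟩
  have : Fact (Nat.Prime 5) := ⟨by norm_num⟩
  constructor
  · intro ho
    by_contra hc
    push Not at hc
    interval_cases hp : p % 5
    · rw [Nat.cast_zero, orderOf_zero] at ho; exact absurd ho (by norm_num)
    · rw [Nat.cast_one, orderOf_one] at ho; exact absurd ho (by norm_num)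
    · exact hc.1 rfl
    · exact hc.2 rfl
    · have := orderOf_dvd_of_pow_eq_one (x := ((4 : ℕ) : ZMod 5)) (n := 2) (by rfl)
      rw [ho] at this
      exact absurd this (by norm_num)
  · rintro (h2 | h3)
    · rw [h2]; exact orderOf_eq_prime_pow (p := 2) (n := 1) (by decide) (by decide)
    · rw [h3]; exact orderOf_eq_prime_pow (p := 2) (n := 1) (by decide) (by decide)

/-- The trace of a primitive fifth root, in the field. -/
theorem exists_eta [Fintype F] (p k : ℕ) [Fact p.Prime] [CharP F p] (hF : Fintype.card F = p ^ k)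
    (hp : p % 5 = 1 ∨ p % 5 = 4) : ∃ η : F, η ^ 2 + η - 1 = 0 ∧ η ^ p = η := by
  classical
  let φ := algebraMap F (AlgebraicClosure F)
  have : CharP (AlgebraicClosure F) p := charP_of_injective_algebraMap φ.injective p
  have h5 : ((5 : ℕ) : F) ≠ 0 := fun h => by
    have := (Nat.prime_dvd_prime_iff_eq (Fact.out : p.Prime) (by norm_num)).1 ((CharP.cast_eq_zero_iff F p 5).1 h)
    omega
  obtain ⟨e, he⟩ := SymplRoots.exists_root (F := F) 5 h5
  have he5 := he.pow_eq_one
  have hH : (e + e⁻¹) ^ p = e + e⁻¹ := by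
    rw [add_pow_char, inv_pow, ← Nat.mod_add_div p 5, pow_add, pow_mul, he5, one_pow, mul_one]
    rcases hp with h | h <;> rw [h]
    · rw [pow_one]
    · rw [show e ^ 4 = e⁻¹ from eq_inv_of_mul_eq_one_left (by rw [← pow_succ]; exact he5), inv_inv, add_comm]
  have hHq : ∀ j : ℕ, (e + e⁻¹) ^ (p ^ j) = e + e⁻¹ := by
    intro j
    induction j with
    | zero => rw [pow_zero, pow_one]
    | succ j ih => rw [pow_succ, pow_mul, ih, hH]
  obtain ⟨η, hη⟩ : ∃ η : F, φ η = e + e⁻¹ := by
    have hq1 : 1 < Fintype.card F := Fintype.one_lt_card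
    have hne : (Polynomial.X ^ Fintype.card F - Polynomial.X : Polynomial F) ≠ 0 :=
      FiniteField.X_pow_card_sub_X_ne_zero F hq1
    have hspl : (Polynomial.X ^ Fintype.card F - Polynomial.X : Polynomial F).Splits := by
      refine Polynomial.splits_iff_card_roots.2 ?_
      rw [FiniteField.roots_X_pow_card_sub_X, FiniteField.X_pow_card_sub_X_natDegree_eq F hq1]
      rfl
    have h := Polynomial.Splits.roots_map_of_injective hspl (i := φ) φ.injective
    rw [FiniteField.roots_X_pow_card_sub_X] at h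
    have hmem : e + e⁻¹ ∈ ((Polynomial.X ^ Fintype.card F - Polynomial.X : Polynomial F).map φ).roots := by
      rw [Polynomial.mem_roots (Polynomial.map_ne_zero hne), Polynomial.IsRoot]
      simp [hF, hHq k]
    rw [h, Multiset.mem_map] at hmem
    obtain ⟨η, -, h'⟩ := hmem
    exact ⟨η, h'⟩
  refine ⟨η, φ.injective ?_, φ.injective ?_⟩
  · rw [map_sub, map_add, map_pow, hη, map_one, map_zero]
    have he0 : e ≠ 0 := he.ne_zero (by norm_num)
    have h := he.geom_sum_eq_zero (by norm_num)
    simp [Finset.sum_range_succ] at h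
    field_simp
    linear_combination h
  · rw [map_pow, hη, hH]

/-- A two-by-two block extended by the identity. -/
def blk (e : Fin 2 ⊕ Fin 2 ≃ ι) (A : Matrix (Fin 2) (Fin 2) F) : Matrix ι ι F :=
  Matrix.reindex e e (Matrix.fromBlocks A 0 0 1)

theorem blk_mul (e : Fin 2 ⊕ Fin 2 ≃ ι) (A B : Matrix (Fin 2) (Fin 2) F) : blk e A * blk e B = blk e (A * B) := by
  simp [blk, Matrix.reindex_apply, Matrix.submatrix_mul_equiv, Matrix.fromBlocks_multiply]

theorem blk_one (e : Fin 2 ⊕ Fin 2 ≃ ι) : blk e (1 : Matrix (Fin 2) (Fin 2) F) = 1 := by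
  simp [blk, Matrix.reindex_apply, Matrix.fromBlocks_one]

theorem trace_blk (e : Fin 2 ⊕ Fin 2 ≃ ι) (A : Matrix (Fin 2) (Fin 2) F) : (blk e A).trace = A.trace + 2 := by
  rw [blk, Matrix.trace, ← Equiv.sum_comp e]
  simp [Matrix.reindex_apply, Fintype.sum_sum_type, Matrix.trace]

theorem det_blk (e : Fin 2 ⊕ Fin 2 ≃ ι) (A : Matrix (Fin 2) (Fin 2) F) : (blk e A).det = A.det := by
  rw [blk, Matrix.det_reindex_self, Matrix.det_fromBlocks_zero₂₁, Matrix.det_one, mul_one]

theorem blk_sc (e : Fin 2 ⊕ Fin 2 ≃ ι) {A : Matrix (Fin 2) (Fin 2) F} {c : F} (h : blk e A = c • 1) :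
    A.trace = 2 := by
  have hc : c = 1 := by
    have := congrFun (congrFun h (e (Sum.inr 0))) (e (Sum.inr 0))
    simpa [blk, Matrix.reindex_apply] using this.symm
  have h0 := congrFun (congrFun h (e (Sum.inl 0))) (e (Sum.inl 0))
  have h1 := congrFun (congrFun h (e (Sum.inl 1))) (e (Sum.inl 1))
  simp [blk, Matrix.reindex_apply, hc] at h0 h1
  rw [Matrix.trace_fin_two, h0, h1]; norm_num

/-- The block of an element of determinant one. -/
theorem exists_blk (e : Fin 2 ⊕ Fin 2 ≃ ι) {A : Matrix (Fin 2) (Fin 2) F} (hd : A.det = 1) {m : ℕ} (hA : A ^ m = 1)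
    (ht : A.trace ≠ 2) : ∃ x : GL ι F, mt x = blk e A ∧ x ^ m = 1 ∧ ¬ Sc x ∧ (mt x).det = 1 ∧
      (mt x).trace = A.trace + 2 ∧ (mt x⁻¹).trace = A.trace + 2 := by
  have h1 : blk e A * blk e A.adjugate = 1 := by rw [blk_mul, Matrix.mul_adjugate, hd, one_smul, blk_one]
  have h2 : blk e A.adjugate * blk e A = 1 := by rw [blk_mul, Matrix.adjugate_mul, hd, one_smul, blk_one]
  have hp : ∀ j : ℕ, blk e A ^ j = blk e (A ^ j) := by
    intro j
    induction j with
    | zero => rw [pow_zero, pow_zero, blk_one]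
    | succ j ih => rw [pow_succ, pow_succ, ih, blk_mul]
  refine ⟨⟨_, _, h1, h2⟩, rfl, Units.ext ?_, fun ⟨c, hc⟩ => ht (blk_sc e hc), ?_, trace_blk e A, ?_⟩
  · rw [Units.val_pow_eq_pow_val, Units.val_one]
    show blk e A ^ m = 1
    rw [hp, hA, blk_one]
  · show (blk e A).det = 1
    rw [det_blk, hd]
  · show (blk e A.adjugate).trace = _
    rw [trace_blk, Matrix.adjugate_fin_two, Matrix.trace_fin_two, Matrix.trace_fin_two]
    simp [add_comm]

theorem sq_two (A : Matrix (Fin 2) (Fin 2) F) (hd : A.det = 1) : A * A = A.trace • A - 1 := by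
  rw [Matrix.det_fin_two] at hd
  ext i j
  fin_cases i <;> fin_cases j <;> simp [Matrix.mul_apply, Matrix.trace_fin_two, Fin.sum_univ_two]
  all_goals first
    | ring1
    | linear_combination hd
    | linear_combination -hd

theorem pow_five_two (A : Matrix (Fin 2) (Fin 2) F) (hd : A.det = 1) {η : F} (ht : A.trace = η)
    (hη : η ^ 2 + η - 1 = 0) : A ^ 5 = 1 := by
  have h2 : A * A = η • A - 1 := by rw [sq_two A hd, ht]
  calc A ^ 5 = A * (A * (A * (A * A))) := by simp [pow_succ, mul_assoc]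
    _ = (η ^ 4 - 3 * η ^ 2 + 1) • A + (-η ^ 3 + 2 * η) • (1 : Matrix (Fin 2) (Fin 2) F) := by
      simp only [h2, mul_sub, mul_smul_comm, mul_one, smul_sub, smul_smul]
      module
    _ = 1 := by
      rw [show η ^ 4 - 3 * η ^ 2 + 1 = 0 by linear_combination (η ^ 2 - η - 1) * hη,
        show -η ^ 3 + 2 * η = 1 by linear_combination (1 - η) * hη, zero_smul, one_smul, zero_add]

theorem pow_three_two (A : Matrix (Fin 2) (Fin 2) F) (hd : A.det = 1) (ht : A.trace = -1) : A ^ 3 = 1 := by
  have h2 : A * A = (-1 : F) • A - 1 := by rw [sq_two A hd, ht]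
  calc A ^ 3 = A * (A * A) := by simp [pow_succ, mul_assoc]
    _ = 1 := by
      simp only [h2, mul_sub, mul_smul_comm, mul_one, smul_sub, smul_smul]
      module

/-- The traces of a five-block do not multiply to one. -/
theorem eta_ne {η : F} (h5 : (5 : F) ≠ 0) (hη : η ^ 2 + η - 1 = 0) : η ≠ 2 ∧ (η + 2) * (η + 2) ≠ 1 := by
  refine ⟨?_, fun h => ?_⟩
  · rintro rfl
    exact h5 (by linear_combination hη)
  · have h1 : 3 * η + 4 = 0 := by linear_combination h - hη
    exact h5 (by linear_combination (3 * η - 1) * h1 - 9 * hη)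

/-- Splitting off the scalar from an element of odd prime order modulo scalars. -/
theorem exists_rescale {x : GL ι F} {r : ℕ} (hr : Odd r) {c : F} (hc4 : c ^ 4 = 1)
    (hx : ((x ^ r : GL ι F) : Matrix ι ι F) = c • 1) :
    ∃ (s : F) (S : GL ι F), s ^ 4 = 1 ∧ (c ^ 2 = 1 → s ^ 2 = 1) ∧ mt S = s • 1 ∧ (S * x) ^ r = 1 := by
  set s := c ^ (3 * r)
  have hs4 : s ^ 4 = 1 := by rw [← pow_mul, mul_comm, pow_mul, hc4, one_pow]
  have hs0 : s ≠ 0 := fun h => by simp [h] at hs4
  let S : GL ι F := Matrix.GeneralLinearGroup.mkOfDetNeZero (s • (1 : Matrix ι ι F))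
    (by rw [Matrix.det_smul, Matrix.det_one, mul_one]; exact pow_ne_zero _ hs0)
  have hS : Sc S := ⟨s, rfl⟩
  refine ⟨s, S, hs4, fun h => by rw [← pow_mul, mul_comm, pow_mul, h, one_pow], rfl, Units.ext ?_⟩
  rw [(show Commute S x from hS.commute x).mul_pow, Units.val_mul, Units.val_pow_eq_pow_val, hx,
    show (S : Matrix ι ι F) = s • 1 from rfl, _root_.smul_pow, one_pow, smul_mul_smul_comm, one_mul, ← pow_mul,
    ← pow_succ, Units.val_one]
  obtain ⟨k, rfl⟩ := hr
  rw [show 3 * (2 * k + 1) * (2 * k + 1) + 1 = 4 * (3 * k * k + 3 * k + 1) by ring, pow_mul, hc4, one_pow, one_smul]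

/-- An element of prime order at least five with scalar-free determinant is not scalar. -/
theorem not_sc_of_orderOf {x : GL ι F} {r : ℕ} [hr : Fact r.Prime] (hr2 : r ≠ 2) (hx : orderOf x = r)
    (h4 : ∀ c : F, mt x = c • 1 → c ^ 4 = 1) : ¬ Sc x := by
  rintro ⟨c, hc⟩
  have hx4 : x ^ 4 = 1 := Units.ext (by
    rw [Units.val_pow_eq_pow_val, show (x : Matrix ι ι F) = c • 1 from hc, _root_.smul_pow, one_pow, h4 c hc, one_smul,
      Units.val_one])
  have hd := orderOf_dvd_of_pow_eq_one hx4
  rw [hx, show 4 = 2 ^ 2 from rfl] at hd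
  exact hr2 ((Nat.prime_dvd_prime_iff_eq hr.out Nat.prime_two).1 (hr.out.dvd_of_dvd_pow hd))

/-- A transvection. -/
theorem exists_transvection [Nonempty ι] (p : ℕ) [CharP F p] {u w : ι → F} (huw : w ⬝ᵥ u = 0) (hu : u ≠ 0)
    (hw : w ≠ 0) :
    ∃ x : GL ι F, mt x = 1 + vecMulVec u w ∧ x ^ p = 1 ∧ (mt x).det = 1 ∧ ¬ Sc x := by
  set n := vecMulVec u w with hn'
  have hn : n * n = 0 := by
    rw [hn', Matrix.vecMulVec_mul_vecMulVec, huw, zero_smul]; ext i j; simp [vecMulVec]
  have hpow : ∀ k : ℕ, (1 + n) ^ k = 1 + (k : F) • n := by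
    intro k
    induction k with
    | zero => simp
    | succ k ih =>
      rw [pow_succ, ih, add_mul, one_mul, smul_mul_assoc, mul_add, mul_one, hn, add_zero, Nat.cast_succ,
        add_smul, one_smul]
      abel
  refine ⟨⟨1 + n, 1 - n, by rw [add_mul, one_mul, mul_sub, mul_one, hn, sub_zero, sub_add_cancel],
    by rw [sub_mul, one_mul, mul_add, mul_one, hn, add_zero, add_sub_cancel_right]⟩, rfl, ?_, ?_, ?_⟩
  · refine Units.ext ?_
    rw [Units.val_pow_eq_pow_val, Units.val_one]
    show (1 + n) ^ p = 1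
    rw [hpow, CharP.cast_eq_zero, zero_smul, add_zero]
  · show (1 + n).det = 1
    rw [hn', Matrix.vecMulVec_eq (ι := Fin 1), Matrix.det_one_add_replicateCol_mul_replicateRow, huw, add_zero]
  · rintro ⟨c, hc⟩
    change 1 + n = c • 1 at hc
    have hn1 : n = (c - 1) • 1 := by rw [sub_smul, one_smul, ← hc, add_sub_cancel_left]
    have hc1 : c = 1 := by
      rw [hn1, smul_mul_smul_comm, one_mul] at hn
      rcases smul_eq_zero.1 hn with h | h
      · exact sub_eq_zero.1 (mul_self_eq_zero.1 h)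
      · exact absurd h one_ne_zero
    rw [hn', hc1, sub_self, zero_smul, Matrix.vecMulVec_eq_zero] at hn1
    exact hn1.elim hu hw

end CfsgLib.PrimeElusive.SymplType
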