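import Mathlib

/-!
Non-abelian subgroups of order 27 and exponent 3 of `GL₃` of a finite field: monomial frame, elements of
the normalizer in that frame, and elements of prime order at least 5.
-/

set_option autoImplicit false
set_option linter.unusedSectionVars false

namespace CfsgLib.PrimeElusive.ExtraThree

open Matrix

open scoped MatrixGroups

variable {F : Type*} [Field F]

/-- A subgroup with a monomial frame: `a` shifts the columns of `P`, `b` has them as eigenvectors. -/
structure Frame (R : Subgroup (GL (Fin 3) F)) where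
  ω : F
  hω : IsPrimitiveRoot ω 3
  P : GL (Fin 3) F
  a : GL (Fin 3) F
  b : GL (Fin 3) F
  c : GL (Fin 3) F
  ha : a ∈ R
  hb : b ∈ R
  hc : c ∈ R
  hcv : (c : Matrix (Fin 3) (Fin 3) F) = ω • 1
  hgen : R ≤ Subgroup.closure {a, b, c}
  haP : (a : Matrix (Fin 3) (Fin 3) F) * (P : Matrix (Fin 3) (Fin 3) F) = (P : Matrix (Fin 3) (Fin 3) F) * !![0, 0, 1; 1, 0, 0; 0, 1, 0]
  hbP : (b : Matrix (Fin 3) (Fin 3) F) * (P : Matrix (Fin 3) (Fin 3) F) = (P : Matrix (Fin 3) (Fin 3) F) * Matrix.diagonal (fun i : Fin 3 => ω ^ (i : ℕ))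

section facts

variable {R : Subgroup (GL (Fin 3) F)} (hR : Nat.card R = 27) (hRe : Monoid.exponent R = 3)

include hRe in
theorem pow_three {g : GL (Fin 3) F} (hg : g ∈ R) : g ^ 3 = 1 :=
  congrArg Subtype.val (hRe ▸ Monoid.pow_exponent_eq_one (⟨g, hg⟩ : R))

theorem exists_eigen {M : Module.End F (Fin 3 → F)} {ω : F} (hω : IsPrimitiveRoot ω 3) (h : M ^ 3 = 1) :
    ∃ k : ℕ, M.HasEigenvalue (ω ^ k) := by
  have key : (M - ω ^ 0 • (1 : Module.End F (Fin 3 → F))) * ((M - ω ^ 1 • 1) * (M - ω ^ 2 • 1)) = 0 := by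
    have h3 : ω ^ 3 = 1 := hω.pow_eq_one
    have h1 : 1 + ω + ω ^ 2 = 0 := by
      have := hω.geom_sum_eq_zero (by norm_num)
      simpa [Finset.sum_range_succ] using this
    have e1 : M * (M * M) = 1 := by rw [← h]; simp [pow_succ, mul_assoc]
    simp only [pow_zero, one_smul, pow_one, sub_mul, mul_sub, mul_smul_comm, smul_mul_assoc, mul_one, one_mul,
      smul_smul, smul_sub]
    rw [e1]
    have e2 : ω * ω ^ 2 = 1 := by rw [← pow_succ', h3]
    have e3 : -(ω ^ 2) - ω - 1 = 0 := by linear_combination -h1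
    have e4 : ω * ω ^ 2 + ω ^ 2 + ω = 0 := by rw [e2]; linear_combination h1
    calc _ = (1 - ω * ω ^ 2) • (1 : Module.End F (Fin 3 → F)) + (-(ω ^ 2) - ω - 1) • (M * M)
          + (ω * ω ^ 2 + ω ^ 2 + ω) • M := by module
      _ = 0 := by rw [e2, e3, sub_self, ← e2, e4, zero_smul, zero_smul, zero_smul, add_zero, add_zero]
  by_contra hno
  push Not at hno
  have hinj : ∀ k : ℕ, Function.Injective (M - ω ^ k • (1 : Module.End F (Fin 3 → F))) := fun k => by
    rw [← LinearMap.ker_eq_bot]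
    have := hno k
    rw [Module.End.hasEigenvalue_iff, not_not, Module.End.eigenspace_def] at this
    exact this
  have hall := (hinj 0).comp ((hinj 1).comp (hinj 2))
  have h1 : (Pi.single (0 : Fin 3) (1 : F) : Fin 3 → F) = 0 := hall (by
    show ((M - ω ^ 0 • (1 : Module.End F (Fin 3 → F))) * ((M - ω ^ 1 • 1) * (M - ω ^ 2 • 1))) _ =
      ((M - ω ^ 0 • (1 : Module.End F (Fin 3 → F))) * ((M - ω ^ 1 • 1) * (M - ω ^ 2 • 1))) 0
    rw [key]; simp)
  exact one_ne_zero (by simpa using congrFun h1 0 : (1 : F) = 0)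

theorem exists_root [Fintype F] (h3 : 3 ∣ Fintype.card F - 1) : ∃ ω : F, IsPrimitiveRoot ω 3 := by
  classical
  have : Fact (Nat.Prime 3) := ⟨by norm_num⟩
  obtain ⟨u, hu⟩ := exists_prime_orderOf_dvd_card' (G := Fˣ) 3
    (by rw [Nat.card_units, Nat.card_eq_fintype_card]; exact h3)
  exact ⟨u, IsPrimitiveRoot.coe_units_iff.2 (hu ▸ IsPrimitiveRoot.orderOf u)⟩

/-- A commutator centralised by both factors is a scalar cube root of unity. -/
theorem scalar_of_commutator {ω : F} (hω : IsPrimitiveRoot ω 3) {a b c : GL (Fin 3) F} (hc1 : c ≠ 1)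
    (hc3 : c ^ 3 = 1) (hab : a * b = c * (b * a)) (hca : Commute c a) (hcb : Commute c b) :
    ∃ μ : F, IsPrimitiveRoot μ 3 ∧ (c : Matrix (Fin 3) (Fin 3) F) = μ • 1 := by
  classical
  let L : GL (Fin 3) F → Module.End F (Fin 3 → F) := fun g => Matrix.toLinAlgEquiv' (g : Matrix (Fin 3) (Fin 3) F)
  have hL : ∀ g h, L (g * h) = L g * L h := fun g h => by simp [L, map_mul]
  have hLinv : ∀ g x, L g⁻¹ (L g x) = x := fun g x => by
    rw [← Module.End.mul_apply, ← hL, inv_mul_cancel]; simp [L]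
  have hC3 : L c ^ 3 = 1 := by
    simp only [L]; rw [← map_pow, ← Units.val_pow_eq_pow_val, hc3, Units.val_one, map_one]
  have hne : ∃ k : ℕ, ω ^ k ≠ 1 ∧ (L c).HasEigenvalue (ω ^ k) := by
    by_contra hno
    push Not at hno
    have h1 : ¬ (L c).HasEigenvalue (ω ^ 1) := hno 1 (by rw [pow_one]; exact hω.ne_one (by norm_num))
    have h2 : ¬ (L c).HasEigenvalue (ω ^ 2) := hno 2 (hω.pow_ne_one_of_pos_of_lt (by norm_num) (by norm_num))
    rw [Module.End.hasEigenvalue_iff, not_not, Module.End.eigenspace_def, LinearMap.ker_eq_bot] at h1 h2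
    refine hc1 (Units.ext ((Matrix.toLinAlgEquiv' (R := F) (n := Fin 3)).injective ?_))
    rw [Units.val_one, map_one]
    have e : (L c - ω ^ 1 • (1 : Module.End F (Fin 3 → F))) * (L c - ω ^ 2 • 1) * (L c - 1) = 0 := by
      have h1 : 1 + ω + ω ^ 2 = 0 := by
        have := hω.geom_sum_eq_zero (by norm_num)
        simpa [Finset.sum_range_succ] using this
      have e0 : L c * (L c * L c) = 1 := by rw [← hC3]; simp [pow_succ, mul_assoc]
      simp only [pow_one, sub_mul, mul_sub, mul_smul_comm, smul_mul_assoc, mul_one, one_mul, smul_smul, smul_sub,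
        mul_assoc, e0]
      rw [show ω ^ 2 * ω = 1 by rw [← pow_succ, hω.pow_eq_one]]
      calc _ = (-ω - ω ^ 2 - 1) • (L c * L c) + (ω + ω ^ 2 + 1) • L c := by module
        _ = 0 := by
          rw [show -ω - ω ^ 2 - 1 = (0 : F) by linear_combination -h1,
            show ω + ω ^ 2 + 1 = (0 : F) by linear_combination h1, zero_smul, zero_smul, add_zero]
    refine LinearMap.ext fun x => sub_eq_zero.1 (h2 (h1 ?_))
    have h' := LinearMap.congr_fun e x
    simp only [Module.End.mul_apply, LinearMap.sub_apply, LinearMap.zero_apply] at h'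
    simp only [L] at h' ⊢
    simpa using h'
  obtain ⟨k, hk, hev⟩ := hne
  set μ := ω ^ k
  set W := Module.End.eigenspace (L c) μ
  have hμ3 : μ ^ 3 = 1 := by rw [← pow_mul, mul_comm, pow_mul, hω.pow_eq_one, one_pow]
  have hμ : IsPrimitiveRoot μ 3 :=
    IsPrimitiveRoot.iff_orderOf.2 (orderOf_eq_prime hμ3 hk)
  have hWpos : W ≠ ⊥ := hev
  have hmap : ∀ g : GL (Fin 3) F, Commute c g → ∀ x ∈ W, L g x ∈ W := fun g hg x hx => by
    rw [Module.End.mem_eigenspace_iff] at hx ⊢
    rw [← Module.End.mul_apply, ← hL, hg.eq, hL, Module.End.mul_apply, hx, map_smul]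
  let A : Module.End F W := (L a).restrict (hmap a hca)
  let B : Module.End F W := (L b).restrict (hmap b hcb)
  have hAB : A * B = μ • (B * A) := by
    refine LinearMap.ext fun x => Subtype.ext ?_
    show L a (L b x) = μ • L b (L a x)
    rw [← Module.End.mul_apply, ← hL, hab, hL, hL, Module.End.mul_apply, Module.End.mul_apply]
    exact Module.End.mem_eigenspace_iff.1 (hmap b hcb _ (hmap a hca _ x.2))
  have hdet : ∀ (g : GL (Fin 3) F) (hg : Commute c g), LinearMap.det ((L g).restrict (hmap g hg)) ≠ 0 := by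
    intro g hg h
    have hinj : LinearMap.ker ((L g).restrict (hmap g hg)) = ⊥ := by
      refine LinearMap.ker_eq_bot.2 fun x y hxy => Subtype.ext ?_
      rw [← hLinv g x, ← hLinv g y]
      exact congrArg (L g⁻¹) (congrArg Subtype.val hxy)
    exact (LinearMap.bot_lt_ker_of_det_eq_zero h).ne' hinj
  have h2 := congrArg LinearMap.det hAB
  rw [LinearMap.det_smul, map_mul, map_mul, mul_comm (LinearMap.det B)] at h2
  have hd : μ ^ Module.finrank F W = 1 := by
    have hne0 : LinearMap.det A * LinearMap.det B ≠ 0 := mul_ne_zero (hdet a hca) (hdet b hcb)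
    exact (mul_eq_right₀ hne0).1 h2.symm
  have hdvd := hμ.pow_eq_one_iff_dvd _ |>.1 hd
  have hle : Module.finrank F W ≤ 3 := (Submodule.finrank_le W).trans (by simp)
  have hpos : 0 < Module.finrank F W := Nat.pos_of_ne_zero fun h => hWpos (Submodule.finrank_eq_zero.1 h)
  have htop : W = ⊤ := Submodule.eq_top_of_finrank_eq (by
    rw [Module.finrank_fin_fun]; exact le_antisymm hle (Nat.le_of_dvd hpos hdvd))
  refine ⟨μ, hμ, (Matrix.toLinAlgEquiv' (R := F) (n := Fin 3)).injective ?_⟩
  rw [map_smul, map_one]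
  refine LinearMap.ext fun x => ?_
  exact Module.End.mem_eigenspace_iff.1 (htop ▸ Submodule.mem_top : x ∈ W)

include hR in
theorem eq_closure {a b c : GL (Fin 3) F} (ha : a ∈ R) (hb : b ∈ R) (hc : c ∈ R) (hne : a * b ≠ b * a) :
    R ≤ Subgroup.closure {a, b, c} := by
  set S := Subgroup.closure ({a, b, c} : Set (GL (Fin 3) F))
  have hS : S ≤ R := by
    rw [Subgroup.closure_le]
    rintro x (rfl | rfl | rfl) <;> assumption
  have : Finite R := Nat.finite_of_card_ne_zero (by rw [hR]; norm_num)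
  have : Finite S := Finite.of_injective _ (Subgroup.inclusion_injective hS)
  have hd : Nat.card S ∣ 3 ^ 3 := by simpa [hR] using Subgroup.card_dvd_of_le hS
  obtain ⟨j, hj, hcard⟩ := (Nat.dvd_prime_pow (by norm_num)).1 hd
  have : Fact (Nat.Prime 3) := ⟨by norm_num⟩
  rcases (show j = 3 ∨ j ≤ 2 by omega) with rfl | hj2
  · exact (Subgroup.eq_of_le_of_card_ge hS (by rw [hR, hcard]; norm_num)).ge
  · exfalso
    have hcomm : ∀ x y : S, x * y = y * x := by
      rcases (show j = 0 ∨ j = 1 ∨ j = 2 by omega) with rfl | rfl | rfl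
      · intro x y
        have := (Nat.card_eq_one_iff_unique.1 (hcard.trans (pow_zero 3))).1
        exact Subsingleton.elim _ _
      · intro x y
        have : IsCyclic S := isCyclic_of_prime_card (hcard.trans (pow_one 3))
        obtain ⟨g, hg⟩ := IsCyclic.exists_generator (α := S)
        obtain ⟨m, rfl⟩ := hg x
        obtain ⟨n, rfl⟩ := hg y
        exact (Commute.refl g).zpow_zpow m n
      · exact fun x y => (IsPGroup.isMulCommutative_of_card_eq_prime_sq (p := 3) hcard).is_comm.comm x y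
    exact hne (congrArg Subtype.val (hcomm ⟨a, Subgroup.subset_closure (by simp)⟩ ⟨b, Subgroup.subset_closure (by simp)⟩))

theorem exists_frame [Fintype F] (hR : Nat.card R = 27) (hRe : Monoid.exponent R = 3) (hRna : ¬ IsMulCommutative R)
    (h3 : 3 ∣ Fintype.card F - 1) : Nonempty (Frame R) := by
  classical
  obtain ⟨ω₀, hω₀⟩ := exists_root h3
  have : Finite R := Nat.finite_of_card_ne_zero (by rw [hR]; norm_num)
  have : Fact (Nat.Prime 3) := ⟨by norm_num⟩
  have hpg : IsPGroup 3 R := IsPGroup.of_card (n := 3) (by rw [hR]; norm_num)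
  obtain ⟨a, b, hab⟩ : ∃ a b : R, a * b ≠ b * a := by
    by_contra h
    push Not at h
    exact hRna ⟨⟨h⟩⟩
  have hquot : ∀ x y : R, x * y * x⁻¹ * y⁻¹ ∈ Subgroup.center R := by
    intro x y
    have hZ : Nat.card (Subgroup.center R) ∣ 3 ^ 3 := by
      rw [show (3 : ℕ) ^ 3 = 27 by norm_num, ← hR]
      exact Subgroup.card_subgroup_dvd_card (Subgroup.center R)
    obtain ⟨j, hj, hcard⟩ := (Nat.dvd_prime_pow (by norm_num)).1 hZ
    have hj0 : 1 ≤ j := by
      by_contra hj0
      have : Nontrivial R := ⟨⟨a * b, b * a, hab⟩⟩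
      have := hpg.center_nontrivial
      have h1 := Finite.one_lt_card (α := Subgroup.center R)
      rw [hcard, show j = 0 by omega] at h1
      simp at h1
    have hq : Nat.card (R ⧸ Subgroup.center R) ∣ 3 ^ 2 := by
      have h := Subgroup.card_eq_card_quotient_mul_card_subgroup (Subgroup.center R)
      rw [hR, hcard, show j = (j - 1) + 1 by omega, pow_succ, ← mul_assoc] at h
      exact ⟨3 ^ (j - 1), by omega⟩
    obtain ⟨i, hi, hqc⟩ := (Nat.dvd_prime_pow (by norm_num)).1 hq
    have hcomm : ∀ u v : R ⧸ Subgroup.center R, u * v = v * u := by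
      rcases (show i = 0 ∨ i = 1 ∨ i = 2 by omega) with rfl | rfl | rfl
      · intro u v
        have := (Nat.card_eq_one_iff_unique.1 (hqc.trans (pow_zero 3))).1
        exact Subsingleton.elim _ _
      · intro u v
        have : IsCyclic (R ⧸ Subgroup.center R) := isCyclic_of_prime_card (hqc.trans (pow_one 3))
        obtain ⟨g, hg⟩ := IsCyclic.exists_generator (α := R ⧸ Subgroup.center R)
        obtain ⟨m, rfl⟩ := hg u
        obtain ⟨n, rfl⟩ := hg v
        exact (Commute.refl g).zpow_zpow m n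
      · exact fun u v => (IsPGroup.isMulCommutative_of_card_eq_prime_sq (p := 3) hqc).is_comm.comm u v
    rw [← QuotientGroup.eq_one_iff, QuotientGroup.mk_mul, QuotientGroup.mk_mul, QuotientGroup.mk_mul,
      QuotientGroup.mk_inv, QuotientGroup.mk_inv, hcomm (x : R ⧸ Subgroup.center R) y]
    group
  have hcz := hquot a b
  set c : R := a * b * a⁻¹ * b⁻¹ with hcdef
  have hab' : a * b = c * (b * a) := by rw [hcdef]; group
  have hc1 : c ≠ 1 := fun h => hab (by rw [hab', h, one_mul])
  have hcom : ∀ x : R, c * x = x * c := fun x => ((Subgroup.mem_center_iff.1 hcz) x).symm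
  obtain ⟨μ, hμ, hcv⟩ := scalar_of_commutator hω₀ (a := (a : GL (Fin 3) F)) (b := (b : GL (Fin 3) F))
    (c := (c : GL (Fin 3) F)) (fun h => hc1 (Subtype.ext h))
    (pow_three hRe c.2) (congrArg Subtype.val hab') (congrArg Subtype.val (hcom a))
    (congrArg Subtype.val (hcom b))
  let L : GL (Fin 3) F → Module.End F (Fin 3 → F) := fun g => Matrix.toLinAlgEquiv' (g : Matrix (Fin 3) (Fin 3) F)
  have hL : ∀ g h, L (g * h) = L g * L h := fun g h => by simp [L, map_mul]
  obtain ⟨k, hk⟩ := exists_eigen hμ (M := L b) (by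
    simp only [L]; rw [← map_pow, ← Units.val_pow_eq_pow_val, pow_three hRe b.2, Units.val_one, map_one])
  obtain ⟨v, hv⟩ := hk.exists_hasEigenvector
  let b' : GL (Fin 3) F := (c : GL (Fin 3) F) ^ (2 * k) * (b : GL (Fin 3) F)
  have hb'R : b' ∈ R := R.mul_mem (R.pow_mem c.2 _) b.2
  have hcL : ∀ j x, L ((c : GL (Fin 3) F) ^ j) x = μ ^ j • x := fun j x => by
    simp [L, hcv, smul_pow, map_smul]
  have hb'v : L b' v = v := by
    rw [hL, Module.End.mul_apply, hv.apply_eq_smul, map_smul, hcL, smul_smul, ← pow_add,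
      show k + 2 * k = 3 * k by ring, pow_mul, hμ.pow_eq_one, one_pow, one_smul]
  have hab2 : (a : GL (Fin 3) F) * b' = (c : GL (Fin 3) F) * (b' * a) := by
    have e1 : (c : GL (Fin 3) F) * a = a * c := congrArg Subtype.val (hcom a)
    have e2 : (a : GL (Fin 3) F) * b = c * (b * a) := congrArg Subtype.val hab'
    have e3 : Commute ((c : GL (Fin 3) F) ^ (2 * k)) (a : GL (Fin 3) F) := Commute.pow_left e1 _
    show _ * (_ * _) = _
    rw [← mul_assoc, ← e3.eq, mul_assoc, e2, ← mul_assoc, ← pow_succ, pow_succ', mul_assoc]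
    show _ = _ * (_ * _ * _)
    rw [mul_assoc]
  -- `b'` scales the successive images of `v` by powers of `μ⁻¹ = μ ^ 2`
  have hstep : ∀ x (t : F), L b' x = t • x → L b' (L a x) = (t * μ ^ 2) • L a x := fun x t hx => by
    have h1 : L (a : GL (Fin 3) F) (L b' x) = μ • L b' (L a x) := by
      rw [← Module.End.mul_apply, ← hL, hab2, hL, hL, Module.End.mul_apply, Module.End.mul_apply]
      simpa using hcL 1 (L b' (L (a : GL (Fin 3) F) x))
    rw [hx, map_smul] at h1
    rw [mul_comm t, mul_smul, h1, smul_smul, ← pow_succ, hμ.pow_eq_one, one_smul]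
  set ω := μ ^ 2
  have hω : IsPrimitiveRoot ω 3 := hμ.pow_of_coprime 2 (by norm_num)
  let cols : Fin 3 → (Fin 3 → F) := fun i => (L a ^ (i : ℕ)) v
  have hcols : ∀ i : Fin 3, L b' (cols i) = ω ^ (i : ℕ) • cols i := by
    have e0 : L b' (cols 0) = ω ^ 0 • cols 0 := by simpa [cols] using hb'v
    have e1 : L b' (cols 1) = ω ^ 1 • cols 1 := by
      simpa [cols] using hstep v 1 (by simpa using hb'v)
    have e2 : L b' (cols 2) = ω ^ 2 • cols 2 := by
      have := hstep (cols 1) (ω ^ 1) e1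
      simpa [cols, pow_succ] using this
    intro i; fin_cases i
    exacts [e0, e1, e2]
  have hainj : Function.Injective (L (a : GL (Fin 3) F)) := fun x y h => by
    have := congrArg (L (a : GL (Fin 3) F)⁻¹) h
    simpa [← Module.End.mul_apply, ← hL, L] using this
  have hne : ∀ i : Fin 3, cols i ≠ 0 := fun i h => hv.2 (by
    have hinj : Function.Injective (L (a : GL (Fin 3) F) ^ (i : ℕ)) := by
      rw [Module.End.coe_pow]; exact hainj.iterate _
    exact hinj (h.trans (map_zero _).symm))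
  have hli : LinearIndependent F cols := by
    refine Module.End.eigenvectors_linearIndependent' (L b') (fun i : Fin 3 => ω ^ (i : ℕ)) ?_ cols
      (fun i => ⟨Module.End.mem_eigenspace_iff.2 (hcols i), hne i⟩)
    intro i j h
    exact Fin.ext (hω.pow_inj i.2 j.2 h)
  let M : Matrix (Fin 3) (Fin 3) F := Matrix.of fun i j => cols j i
  have hM : IsUnit M := by
    refine Matrix.linearIndependent_cols_iff_isUnit.1 ?_
    exact hli
  obtain ⟨P, hP⟩ := hM
  have hcolM : ∀ (g : GL (Fin 3) F) (i j : Fin 3), ((g : Matrix (Fin 3) (Fin 3) F) * M) i j = L g (cols j) i :=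
    fun g i j => by simp [L, M, Matrix.mul_apply, Matrix.mulVec, dotProduct]
  have hcolS : ∀ (N : Matrix (Fin 3) (Fin 3) F) (i j : Fin 3), (M * N) i j = (∑ l, N l j • cols l) i :=
    fun N i j => by simp [M, Matrix.mul_apply, mul_comm]
  refine ⟨{ ω := ω, hω := hω, P := P, a := a, b := b', c := (c : GL (Fin 3) F) ^ 2, ha := a.2, hb := hb'R,
            hc := R.pow_mem c.2 _, hcv := ?_, hgen := ?_, haP := ?_, hbP := ?_ }⟩
  · rw [Units.val_pow_eq_pow_val, hcv, smul_pow, one_pow]
  · refine eq_closure hR a.2 hb'R (R.pow_mem c.2 _) fun h => hc1 (Subtype.ext ?_)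
    have := hab2
    rw [h] at this
    exact (mul_eq_right.1 this.symm)
  · rw [hP]
    ext i j
    rw [hcolM, hcolS]
    have e3 : L (a : GL (Fin 3) F) (cols 2) = cols 0 := by
      have : L (a : GL (Fin 3) F) ^ 3 = 1 := by
        simp only [L]; rw [← map_pow, ← Units.val_pow_eq_pow_val, pow_three hRe a.2, Units.val_one, map_one]
      show L (a : GL (Fin 3) F) ((L a ^ 2) v) = (L a ^ 0) v
      rw [← Module.End.mul_apply, ← pow_succ', this, pow_zero]
    have e1 : L (a : GL (Fin 3) F) (cols 0) = cols 1 := by simp [cols]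
    have e2 : L (a : GL (Fin 3) F) (cols 1) = cols 2 := by simp [cols, pow_succ]
    fin_cases j <;> simp [Fin.sum_univ_three, e1, e2, e3]
  · rw [hP]
    ext i j
    rw [hcolM, hcols, hcolS]
    simp [Matrix.diagonal_apply, ite_apply]

variable (f : Frame R)

/-- Conjugating into the frame. -/
theorem mem_normalizer_of_frame (hR : Nat.card R = 27) {y : GL (Fin 3) F}
    (h1 : y * f.a * y⁻¹ ∈ R) (h2 : y * f.b * y⁻¹ ∈ R) : y ∈ Subgroup.normalizer (R : Set (GL (Fin 3) F)) := by
  have : Finite R := Nat.finite_of_card_ne_zero (by rw [hR]; norm_num)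
  have hle : R.map (MulAut.conj y).toMonoidHom ≤ R := by
    refine (Subgroup.map_mono f.hgen).trans ?_
    rw [MonoidHom.map_closure, Subgroup.closure_le]
    rintro _ ⟨x, (rfl | rfl | rfl), rfl⟩
    · exact h1
    · exact h2
    · show y * f.c * y⁻¹ ∈ R
      have : y * f.c = f.c * y := Units.ext (by rw [Units.val_mul, Units.val_mul, f.hcv]; simp)
      rw [this, mul_inv_cancel_right]
      exact f.hc
  have heq := Subgroup.eq_of_le_of_card_ge hle (le_of_eq (Nat.card_congr
    (R.equivMapOfInjective _ (MulAut.conj y).injective).toEquiv))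
  rw [Subgroup.mem_normalizer_iff]
  refine fun x => ⟨fun hx => hle ⟨x, hx, rfl⟩, fun hx => ?_⟩
  have hx' : y * x * y⁻¹ ∈ R.map (MulAut.conj y).toMonoidHom := heq.symm ▸ hx
  obtain ⟨z, hz, hzx⟩ := hx'
  exact (MulAut.conj y).injective hzx ▸ hz

/-- Scalar matrices normalise every subgroup. -/
theorem scalar_mem_normalizer {ι : Type*} [Fintype ι] [DecidableEq ι] (S : Subgroup (GL ι F)) {y : GL ι F} {z : F}
    (hy : (y : Matrix ι ι F) = z • 1) : y ∈ Subgroup.normalizer (S : Set (GL ι F)) := by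
  rw [Subgroup.mem_normalizer_iff]
  intro x
  have : y * x = x * y := Units.ext (by rw [Units.val_mul, Units.val_mul, hy]; simp)
  rw [this, mul_inv_cancel_right]

theorem mem_of_conj {y u r : GL (Fin 3) F} {U X N : Matrix (Fin 3) (Fin 3) F} {Q : GL (Fin 3) F}
    (hy : (y : Matrix (Fin 3) (Fin 3) F) * (Q : Matrix (Fin 3) (Fin 3) F) = (Q : Matrix (Fin 3) (Fin 3) F) * U)
    (hu : (u : Matrix (Fin 3) (Fin 3) F) * (Q : Matrix (Fin 3) (Fin 3) F) = (Q : Matrix (Fin 3) (Fin 3) F) * X)
    (hr : (r : Matrix (Fin 3) (Fin 3) F) * (Q : Matrix (Fin 3) (Fin 3) F) = (Q : Matrix (Fin 3) (Fin 3) F) * N) (h : U * X = N * U) : y * u * y⁻¹ = r := by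
  rw [mul_inv_eq_iff_eq_mul]
  refine Units.ext ?_
  have e : ((y * u : GL (Fin 3) F) : Matrix (Fin 3) (Fin 3) F) * Q = ((r * y : GL (Fin 3) F) : Matrix (Fin 3) (Fin 3) F) * Q := by
    simp only [Units.val_mul, mul_assoc, hy, hu]
    rw [← mul_assoc, hy, mul_assoc, h, ← mul_assoc, ← hr, mul_assoc]
  exact Q.isUnit.mul_right_cancel e

theorem frame_pow (k : ℕ) :
    ((f.b ^ k : GL (Fin 3) F) : Matrix (Fin 3) (Fin 3) F) * (f.P : Matrix (Fin 3) (Fin 3) F) =
      (f.P : Matrix (Fin 3) (Fin 3) F) * Matrix.diagonal (fun i : Fin 3 => f.ω ^ ((i : ℕ) * k)) := by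
  induction k with
  | zero => simp
  | succ k ih =>
    rw [pow_succ, Units.val_mul, mul_assoc, f.hbP, ← mul_assoc, ih, mul_assoc, Matrix.diagonal_mul_diagonal]
    simp [pow_add, mul_add]

/-- Monomial diagonal matrices of cube roots of unity normalise. -/
theorem diag_mem_normalizer (hR : Nat.card R = 27) {y : GL (Fin 3) F} (u : Fin 3 → F) (hu : ∀ i, u i ^ 3 = 1)
    (hy : (y : Matrix (Fin 3) (Fin 3) F) * (f.P : Matrix (Fin 3) (Fin 3) F) = (f.P : Matrix (Fin 3) (Fin 3) F) * Matrix.diagonal u) :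
    y ∈ Subgroup.normalizer (R : Set (GL (Fin 3) F)) := by
  have hne : ∀ i, u i ≠ 0 := fun i h => by simpa [h] using hu i
  obtain ⟨s, -, hs⟩ := f.hω.eq_pow_of_pow_eq_one (ξ := u 1 / u 0) (by rw [div_pow, hu, hu, div_one])
  obtain ⟨t, -, ht⟩ := f.hω.eq_pow_of_pow_eq_one (ξ := u 2 * u 0 / (u 1 * u 1)) (by
    rw [div_pow, mul_pow, mul_pow, hu, hu, hu, mul_one, div_one])
  refine mem_normalizer_of_frame f hR ?_ ?_
  · rw [mem_of_conj (r := f.c ^ s * (f.a * f.b ^ t))
      (N := f.ω ^ s • (!![0, 0, 1; 1, 0, 0; 0, 1, 0] * Matrix.diagonal (fun i : Fin 3 => f.ω ^ ((i : ℕ) * t)))) hy f.haP ?_ ?_]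
    · exact R.mul_mem (R.pow_mem f.hc _) (R.mul_mem f.ha (R.pow_mem f.hb _))
    · rw [Units.val_mul, Units.val_mul, Units.val_pow_eq_pow_val, f.hcv, smul_pow, one_pow, smul_mul_assoc, one_mul,
        smul_mul_assoc, mul_assoc, frame_pow, ← mul_assoc, f.haP, mul_assoc, mul_smul_comm]
    · have h1 : f.ω ^ (2 * t) = f.ω ^ t * f.ω ^ t := by rw [two_mul, pow_add]
      have hu0 := hne 0
      have hu1 := hne 1
      ext i j
      fin_cases i <;> fin_cases j <;>
        simp [Matrix.mul_apply, Matrix.vecMul, dotProduct, Matrix.diagonal_apply, Fin.sum_univ_three, h1, hs, ht]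
      all_goals
        have h2 := hu 0
        have h3 := hu 1
        have h4 := hu 2
        field_simp
        try grind
  · rw [mem_of_conj (r := f.b) hy f.hbP f.hbP (by
      simp [Matrix.diagonal_mul_diagonal, mul_comm])]
    exact f.hb

/-- The reflection `i ↦ -i` of the frame, negated, normalises. -/
theorem swap_mem_normalizer (hR : Nat.card R = 27) (hRe : Monoid.exponent R = 3) {y : GL (Fin 3) F}
    (hy : (y : Matrix (Fin 3) (Fin 3) F) * (f.P : Matrix (Fin 3) (Fin 3) F) = (f.P : Matrix (Fin 3) (Fin 3) F) * !![-1, 0, 0; 0, 0, -1; 0, -1, 0]) :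
    y ∈ Subgroup.normalizer (R : Set (GL (Fin 3) F)) := by
  have h3 : f.ω ^ 3 = 1 := f.hω.pow_eq_one
  refine mem_normalizer_of_frame f hR ?_ ?_
  · rw [mem_of_conj (r := f.a ^ 2) (N := !![0, 0, 1; 1, 0, 0; 0, 1, 0] * !![0, 0, 1; 1, 0, 0; 0, 1, 0]) hy f.haP ?_ ?_]
    · exact R.pow_mem f.ha _
    · rw [pow_two, Units.val_mul, mul_assoc, f.haP, ← mul_assoc, f.haP, mul_assoc]
    · ext i j
      fin_cases i <;> fin_cases j <;> simp [Matrix.mul_apply, Fin.sum_univ_three]
  · rw [mem_of_conj (r := f.b ^ 2) hy f.hbP (frame_pow f 2) (by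
      ext i j
      fin_cases i <;> fin_cases j <;> simp [Matrix.mul_apply, Matrix.diagonal_apply, Fin.sum_univ_three]
      all_goals grind)]
    exact R.pow_mem f.hb _

include f in
/-- An element of prime order at least 5 normalising `R` is scalar. -/
theorem scalar_of_large_prime (hR : Nat.card R = 27) {r : ℕ} [hr : Fact r.Prime] (h5 : 5 ≤ r)
    {y : GL (Fin 3) F} (hy : y ∈ Subgroup.normalizer (R : Set (GL (Fin 3) F))) (hyr : y ^ r = 1) :
    ∃ z : F, (y : Matrix (Fin 3) (Fin 3) F) = z • (1 : Matrix (Fin 3) (Fin 3) F) := by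
  classical
  have : Finite R := Nat.finite_of_card_ne_zero (by rw [hR]; norm_num)
  let σ : Equiv.Perm R :=
    { toFun := fun x => ⟨y * x * y⁻¹, (Subgroup.mem_normalizer_iff.1 hy _).1 x.2⟩
      invFun := fun x => ⟨y⁻¹ * x * y, (Subgroup.mem_normalizer_iff.1 hy _).2 (by
        simp only [mul_assoc, mul_inv_cancel_left, mul_inv_cancel, mul_one]; exact x.2)⟩
      left_inv := fun x => Subtype.ext (by simp [mul_assoc])
      right_inv := fun x => Subtype.ext (by simp [mul_assoc]) }
  have hσ : σ ^ r = 1 := by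
    have h : ∀ (n : ℕ) (x : R), ((σ ^ n) x : GL (Fin 3) F) = y ^ n * x * (y ^ n)⁻¹ := fun n x => by
      induction n with
      | zero => simp
      | succ n ih =>
        rw [pow_succ', Equiv.Perm.mul_apply]
        show y * ((σ ^ n) x : GL (Fin 3) F) * y⁻¹ = _
        rw [ih, pow_succ', _root_.mul_inv_rev]; simp [mul_assoc]
    refine Equiv.ext fun x => Subtype.ext ?_
    rw [h, hyr]; simp
  have := Fintype.ofFinite R
  have hmod := Equiv.Perm.card_compl_support_modEq (p := r) (n := 1) (σ := σ) (by rw [pow_one]; exact hσ)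
  let C : Subgroup R :=
    { carrier := {x | y * x = x * y}
      one_mem' := by simp
      mul_mem' := fun {u v} hu hv => by
        show y * ((u : GL (Fin 3) F) * v) = (u * v) * y
        rw [← mul_assoc, show y * (u : GL (Fin 3) F) = u * y from hu, mul_assoc,
          show y * (v : GL (Fin 3) F) = v * y from hv, mul_assoc]
      inv_mem' := fun {u} hu => by
        show y * (u : GL (Fin 3) F)⁻¹ = (u : GL (Fin 3) F)⁻¹ * y
        exact (show Commute y (u : GL (Fin 3) F) from hu).inv_right }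
  have hC : Nat.card C = (σ.support)ᶜ.card := by
    rw [Nat.card_eq_fintype_card, Fintype.card_subtype]
    congr 1
    ext x
    simp only [Finset.mem_compl, Equiv.Perm.notMem_support, Finset.mem_filter, Finset.mem_univ, true_and]
    show y * x = x * y ↔ (⟨y * x * y⁻¹, _⟩ : R) = x
    rw [Subtype.ext_iff, mul_inv_eq_iff_eq_mul]
  rw [← hC] at hmod
  have hd : Nat.card C ∣ 3 ^ 3 := by
    rw [show (3 : ℕ) ^ 3 = 27 by norm_num, ← hR]; exact Subgroup.card_subgroup_dvd_card C
  obtain ⟨j, hj, hcard⟩ := (Nat.dvd_prime_pow (by norm_num)).1 hd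
  have hc1 : (⟨f.c, f.hc⟩ : R) ≠ 1 := fun h => by
    have := congrArg (fun x : R => ((x : GL (Fin 3) F) : Matrix (Fin 3) (Fin 3) F) 0 0) h
    simp [f.hcv] at this
    exact f.hω.ne_one (by norm_num) this
  have hcC : (⟨f.c, f.hc⟩ : R) ∈ C := Units.ext (by
    show (y : Matrix (Fin 3) (Fin 3) F) * (f.c : Matrix (Fin 3) (Fin 3) F) = (f.c : Matrix (Fin 3) (Fin 3) F) * y
    rw [f.hcv]; simp)
  have hj0 : j ≠ 0 := fun h => hc1 (by
    rw [h, pow_zero] at hcard
    have := (Nat.card_eq_one_iff_unique.1 hcard).1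
    exact congrArg Subtype.val (Subsingleton.elim (⟨_, hcC⟩ : C) 1))
  rw [show Fintype.card R = 27 by rw [← Nat.card_eq_fintype_card, hR], hcard] at hmod
  have hle : 3 ^ j ≤ 27 := by
    calc 3 ^ j ≤ 3 ^ 3 := Nat.pow_le_pow_right (by norm_num) hj
      _ = 27 := by norm_num
  have hd' := (Nat.modEq_iff_dvd' hle).1 hmod
  have hj3 : j = 3 := by
    rcases (show j = 1 ∨ j = 2 ∨ j = 3 by omega) with rfl | rfl | rfl
    · exact absurd (hr.out.dvd_mul.1 (show r ∣ 2 ^ 3 * 3 by norm_num at hd' ⊢; exact hd'))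
        (fun h => h.elim (fun h => by have := Nat.le_of_dvd (by norm_num) (hr.out.dvd_of_dvd_pow h); omega)
          (fun h => by have := Nat.le_of_dvd (by norm_num) h; omega))
    · exact absurd (hr.out.dvd_mul.1 (show r ∣ 3 ^ 2 * 2 by norm_num at hd' ⊢; exact hd'))
        (fun h => h.elim (fun h => by have := Nat.le_of_dvd (by norm_num) (hr.out.dvd_of_dvd_pow h); omega)
          (fun h => by have := Nat.le_of_dvd (by norm_num) h; omega))
    · rfl
  have htop : C = ⊤ := Subgroup.eq_top_of_card_eq C (by rw [hcard, hj3, hR]; norm_num)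
  have hya : y * f.a = f.a * y := (htop ▸ Subgroup.mem_top _ : (⟨f.a, f.ha⟩ : R) ∈ C)
  have hyb : y * f.b = f.b * y := (htop ▸ Subgroup.mem_top _ : (⟨f.b, f.hb⟩ : R) ∈ C)
  set Pm := (f.P : Matrix (Fin 3) (Fin 3) F)
  set Pi' := ((f.P⁻¹ : GL (Fin 3) F) : Matrix (Fin 3) (Fin 3) F)
  have hPP : Pm * Pi' = 1 := by rw [← Units.val_mul, mul_inv_cancel, Units.val_one]
  have hPP' : Pi' * Pm = 1 := by rw [← Units.val_mul, inv_mul_cancel, Units.val_one]
  set M := Pi' * (y : Matrix (Fin 3) (Fin 3) F) * Pm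
  have key : ∀ (u : GL (Fin 3) F) (U : Matrix (Fin 3) (Fin 3) F), y * u = u * y →
      (u : Matrix (Fin 3) (Fin 3) F) * Pm = Pm * U → M * U = U * M := by
    intro u U hu hU
    have e : Pi' * (u : Matrix (Fin 3) (Fin 3) F) = U * Pi' := by
      calc Pi' * (u : Matrix (Fin 3) (Fin 3) F) = Pi' * ((u : Matrix (Fin 3) (Fin 3) F) * Pm) * Pi' := by
            rw [mul_assoc, mul_assoc, hPP, mul_one]
        _ = U * Pi' := by rw [hU, ← mul_assoc, hPP', one_mul]
    calc M * U = Pi' * ((y * u : GL (Fin 3) F) : Matrix (Fin 3) (Fin 3) F) * Pm := by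
          simp only [M, Units.val_mul, mul_assoc, hU]
      _ = Pi' * (u : Matrix (Fin 3) (Fin 3) F) * ((y : Matrix (Fin 3) (Fin 3) F) * Pm) := by
          rw [hu, Units.val_mul]; simp only [mul_assoc]
      _ = U * M := by rw [e]; simp only [M, mul_assoc]
  have hoff : ∀ i j, i ≠ j → M i j = 0 := fun i j hij => by
    have := congrFun (congrFun (key f.b _ hyb f.hbP) i) j
    rw [Matrix.mul_diagonal, Matrix.diagonal_mul, mul_comm] at this
    exact mul_left_cancel₀ (sub_ne_zero.2 fun h => hij (Fin.ext (f.hω.pow_inj i.2 j.2 h.symm)))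
      (by rw [sub_mul, this, sub_self, mul_zero])
  have hX := key f.a _ hya f.haP
  have h10 := congrFun (congrFun hX 1) 0
  have h21 := congrFun (congrFun hX 2) 1
  simp [Matrix.mul_apply, Fin.sum_univ_three] at h10 h21
  refine ⟨M 0 0, ?_⟩
  have hM : M = M 0 0 • (1 : Matrix (Fin 3) (Fin 3) F) := by
    ext i j
    fin_cases i <;> fin_cases j <;> simp_all
  calc (y : Matrix (Fin 3) (Fin 3) F) = Pm * Pi' * y * (Pm * Pi') := by rw [hPP, one_mul, mul_one]
    _ = Pm * M * Pi' := by simp only [M, mul_assoc]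
    _ = _ := by rw [hM]; simp [hPP]

include f in
/-- The subgroup consists of matrices of determinant 1. -/
theorem det_eq_one {x : GL (Fin 3) F} (hx : x ∈ R) : (x : Matrix (Fin 3) (Fin 3) F).det = 1 := by
  have hker : Subgroup.closure ({f.a, f.b, f.c} : Set (GL (Fin 3) F)) ≤
      (Matrix.GeneralLinearGroup.det : GL (Fin 3) F →* Fˣ).ker := by
    rw [Subgroup.closure_le]
    have hPd : (f.P : Matrix (Fin 3) (Fin 3) F).det ≠ 0 :=
      ((Matrix.isUnit_iff_isUnit_det _).1 f.P.isUnit).ne_zero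
    have h3 := f.hω.pow_eq_one
    have key : ∀ (u : GL (Fin 3) F) (U : Matrix (Fin 3) (Fin 3) F),
        (u : Matrix (Fin 3) (Fin 3) F) * (f.P : Matrix (Fin 3) (Fin 3) F) = (f.P : Matrix (Fin 3) (Fin 3) F) * U →
        U.det = 1 → u ∈ (Matrix.GeneralLinearGroup.det : GL (Fin 3) F →* Fˣ).ker := fun u U h hU => by
      refine Units.ext ?_
      have := congrArg Matrix.det h
      rw [Matrix.det_mul, Matrix.det_mul, hU, mul_one] at this
      exact (mul_eq_right₀ hPd).1 this
    rintro u (rfl | rfl | rfl)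
    · exact key _ _ f.haP (by simp [Matrix.det_fin_three])
    · exact key _ _ f.hbP (by simp [Matrix.det_diagonal, Fin.prod_univ_three]; linear_combination h3)
    · refine Units.ext ?_
      show (f.c : Matrix (Fin 3) (Fin 3) F).det = 1
      rw [f.hcv, Matrix.det_smul, Matrix.det_one, mul_one, Fintype.card_fin, h3]
  exact congrArg Units.val (MonoidHom.mem_ker.1 (hker (f.hgen hx)))

end facts

/-- Matrices of finite order with all eigenvalues in the field are diagonalisable. -/
theorem exists_eigen_matrix {d n : ℕ} {ω : F} (hω : IsPrimitiveRoot ω n) (hn : (n : F) ≠ 0)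
    {T : Matrix (Fin d) (Fin d) F} (hT : T ^ n = 1) :
    ∃ (Q : GL (Fin d) F) (l : Fin d → F), (∀ i, l i ^ n = 1) ∧
      T * (Q : Matrix (Fin d) (Fin d) F) = (Q : Matrix (Fin d) (Fin d) F) * Matrix.diagonal l := by
  classical
  have hn0 : 0 < n := Nat.pos_of_ne_zero fun h => hn (by simp [h])
  set S : Set (Fin d → F) := {v | ∃ l : F, l ^ n = 1 ∧ T *ᵥ v = l • v}
  have hspan : Submodule.span F S = ⊤ := by
    refine eq_top_iff.2 fun v _ => ?_
    let E : F → (Fin d → F) := fun c => ∑ j ∈ Finset.range n, c ^ j • ((T ^ j) *ᵥ v)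
    have hE : ∀ c : F, c ^ n = 1 → E c ∈ S := fun c hc => by
      have hc0 : c ≠ 0 := fun h => by simp [h, hn0.ne'] at hc
      refine ⟨c⁻¹, by rw [inv_pow, hc, inv_one], ?_⟩
      have : c • (T *ᵥ E c) = E c := by
        have e1 : c • (T *ᵥ E c) = ∑ j ∈ Finset.range n, c ^ (j + 1) • ((T ^ (j + 1)) *ᵥ v) := by
          simp only [E, Matrix.mulVec_sum, Finset.smul_sum]
          refine Finset.sum_congr rfl fun j _ => ?_
          rw [Matrix.mulVec_smul, Matrix.mulVec_mulVec, ← pow_succ', smul_smul, pow_succ' c]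
        have e2 := Finset.sum_range_succ' (fun j => c ^ j • ((T ^ j) *ᵥ v)) n
        rw [Finset.sum_range_succ, hc, hT] at e2
        simp only [pow_zero, one_smul, Matrix.one_mulVec] at e2
        rw [e1]
        exact (add_right_cancel e2).symm
      conv_rhs => rw [← this, smul_smul, inv_mul_cancel₀ hc0, one_smul]
    have hsum : ∑ k ∈ Finset.range n, E (ω ^ k) = (n : F) • v := by
      simp only [E]
      rw [Finset.sum_comm, Finset.sum_eq_single 0]
      · simp [Nat.cast_smul_eq_nsmul]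
      · intro j hj hj0
        rw [← Finset.sum_smul]
        have h1 : ω ^ j ≠ 1 := hω.pow_ne_one_of_pos_of_lt hj0 (Finset.mem_range.1 hj)
        have h2 : ∑ k ∈ Finset.range n, (ω ^ k) ^ j = 0 := by
          rw [Finset.sum_congr rfl fun k _ => show (ω ^ k) ^ j = (ω ^ j) ^ k by rw [← pow_mul, ← pow_mul, mul_comm],
            geom_sum_eq h1, ← pow_mul, mul_comm, pow_mul, hω.pow_eq_one, one_pow, sub_self, zero_div]
        rw [h2, zero_smul]
      · exact fun h => absurd (Finset.mem_range.2 hn0) h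
    rw [show v = (n : F)⁻¹ • ((n : F) • v) by rw [smul_smul, inv_mul_cancel₀ hn, one_smul], ← hsum]
    exact Submodule.smul_mem _ _ (Submodule.sum_mem _ fun k _ => Submodule.subset_span
      (hE _ (by rw [← pow_mul, mul_comm, pow_mul, hω.pow_eq_one, one_pow])))
  let B := Module.Basis.ofSpan hspan.ge
  have hfin := Module.Finite.finite_basis B
  have := Fintype.ofFinite ↑((linearIndepOn_empty F id).extend (Set.empty_subset S))
  let e := Fintype.equivFinOfCardEq (by rw [← Module.finrank_eq_card_basis B, Module.finrank_fin_fun] :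
    Fintype.card ↑((linearIndepOn_empty F id).extend (Set.empty_subset S)) = d)
  let B' := B.reindex e
  have hmem : ∀ i, B' i ∈ S := fun i => by
    show B.reindex e i ∈ S
    rw [Module.Basis.reindex_apply]
    exact Module.Basis.ofSpan_subset hspan.ge ⟨_, rfl⟩
  choose l hl hlv using hmem
  have hu : IsUnit (Matrix.of fun i j => B' j i : Matrix (Fin d) (Fin d) F) :=
    Matrix.linearIndependent_cols_iff_isUnit.1 B'.linearIndependent
  refine ⟨hu.unit, l, hl, ?_⟩
  rw [IsUnit.unit_spec]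
  ext i j
  have := congrFun (hlv j) i
  simp only [Matrix.mulVec, dotProduct, Pi.smul_apply, smul_eq_mul] at this
  rw [Matrix.mul_diagonal, Matrix.mul_apply, Matrix.of_apply, mul_comm]
  exact this

/-- Two diagonalisable matrices with the same eigenvalue list are conjugate by a matrix of determinant 1. -/
theorem exists_det_one_conj {d : ℕ} [NeZero d] {x y P Q : GL (Fin d) F} {l : Fin d → F}
    (hx : (x : Matrix (Fin d) (Fin d) F) * (Q : Matrix (Fin d) (Fin d) F) = (Q : Matrix (Fin d) (Fin d) F) * Matrix.diagonal l)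
    (hy : (y : Matrix (Fin d) (Fin d) F) * (P : Matrix (Fin d) (Fin d) F) = (P : Matrix (Fin d) (Fin d) F) * Matrix.diagonal l) :
    ∃ g : GL (Fin d) F, (g : Matrix (Fin d) (Fin d) F).det = 1 ∧ g⁻¹ * x * g = y := by
  classical
  have hQ : (Q : Matrix (Fin d) (Fin d) F).det ≠ 0 := ((Matrix.isUnit_iff_isUnit_det _).1 Q.isUnit).ne_zero
  have hP : (P : Matrix (Fin d) (Fin d) F).det ≠ 0 := ((Matrix.isUnit_iff_isUnit_det _).1 P.isUnit).ne_zero
  let u : Fin d → F := Function.update 1 0 ((P : Matrix (Fin d) (Fin d) F).det / (Q : Matrix (Fin d) (Fin d) F).det)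
  have hu : (Matrix.diagonal u).det = (P : Matrix (Fin d) (Fin d) F).det / (Q : Matrix (Fin d) (Fin d) F).det := by
    rw [Matrix.det_diagonal, Finset.prod_update_of_mem (Finset.mem_univ 0)]
    simp
  let T := Matrix.GeneralLinearGroup.mkOfDetNeZero (Matrix.diagonal u) (by rw [hu]; exact div_ne_zero hP hQ)
  refine ⟨Q * T * P⁻¹, ?_, ?_⟩
  · rw [Units.val_mul, Units.val_mul, Matrix.det_mul, Matrix.det_mul,
      show (T : Matrix (Fin d) (Fin d) F) = Matrix.diagonal u from rfl, hu, Matrix.coe_units_inv,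
      Matrix.det_nonsing_inv, Ring.inverse_eq_inv']
    field_simp
  · have hD : ∃ D : GL (Fin d) F, (D : Matrix (Fin d) (Fin d) F) = Matrix.diagonal l ∧ x = Q * D * Q⁻¹ ∧ y = P * D * P⁻¹ := by
      refine ⟨Q⁻¹ * x * Q, ?_, by group, ?_⟩
      · rw [Units.val_mul, Units.val_mul, mul_assoc, hx, ← mul_assoc, ← Units.val_mul, inv_mul_cancel, Units.val_one, one_mul]
      · rw [eq_mul_inv_iff_mul_eq]
        refine Units.ext ?_
        rw [Units.val_mul, hy, Units.val_mul, Units.val_mul, Units.val_mul, mul_assoc (↑Q⁻¹ : Matrix (Fin d) (Fin d) F), hx,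
          ← mul_assoc (↑Q⁻¹ : Matrix (Fin d) (Fin d) F), ← Units.val_mul, inv_mul_cancel, Units.val_one, one_mul]
    obtain ⟨D, hD, rfl, rfl⟩ := hD
    have hc : D * T = T * D := Units.ext (by
      rw [Units.val_mul, Units.val_mul, hD, show (T : Matrix (Fin d) (Fin d) F) = Matrix.diagonal u from rfl,
        Matrix.diagonal_mul_diagonal, Matrix.diagonal_mul_diagonal]
      simp [mul_comm])
    calc (Q * T * P⁻¹)⁻¹ * (Q * D * Q⁻¹) * (Q * T * P⁻¹) = P * T⁻¹ * (D * T) * P⁻¹ := by group
      _ = P * D * P⁻¹ := by rw [hc]; group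

end CfsgLib.PrimeElusive.ExtraThree
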