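import Cfsg.Agent.Lib.KnownSimple.InvolForms.Orthogonal
import Cfsg.Prelude.Def_GeometricClasses

/-!
Nonsingular points of an orthogonal space in characteristic two and elements of prime order fixing one.
-/

set_option autoImplicit false
set_option linter.unusedSectionVars false

namespace CfsgLib.PrimeElusive.NonsingPoint

open Matrix Module CfsgLib.Orth

variable {F : Type*} [Field F] [Fintype F] {ι : Type} [Fintype ι] [DecidableEq ι]

/-- The set of nonsingular points. -/
abbrev Pts (f : (ι → F) → F) :=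
  {W : Submodule F (ι → F) // Module.finrank F ↥W = 1 ∧ ∃ v ∈ W, f v ≠ 0}

theorem card_points (Q : QuadraticForm F (ι → F)) :
    Nat.card (Pts (⇑Q : (ι → F) → F)) * Nat.card Fˣ = Nat.card {v : ι → F // Q v ≠ 0} := by
  classical
  rw [← Nat.card_prod]
  choose gen hgen using fun W : Pts (⇑Q : (ι → F) → F) => W.2.2
  have hne : ∀ W, gen W ≠ 0 := fun W h => (hgen W).2 (by rw [h, QuadraticMap.map_zero])
  have hspan : ∀ W, Submodule.span F {gen W} = W.1 := fun W =>
    Submodule.eq_of_le_of_finrank_eq ((Submodule.span_singleton_le_iff_mem _ _).2 (hgen W).1)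
      (by rw [finrank_span_singleton (hne W), W.2.1])
  refine Nat.card_congr (Equiv.ofBijective (fun x : Pts (⇑Q : (ι → F) → F) × Fˣ =>
    (⟨(x.2 : F) • gen x.1, by
      rw [QuadraticMap.map_smul, smul_eq_mul]
      exact mul_ne_zero (mul_ne_zero x.2.ne_zero x.2.ne_zero) (hgen x.1).2⟩ : {v : ι → F // Q v ≠ 0})) ⟨?_, ?_⟩)
  · rintro ⟨W, c⟩ ⟨W', c'⟩ h
    have h' : (c : F) • gen W = (c' : F) • gen W' := congrArg Subtype.val h
    have hW : W = W' := by
      refine Subtype.ext ?_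
      rw [← hspan W, ← hspan W']
      rw [← Submodule.span_singleton_smul_eq c.isUnit (gen W), h',
        Submodule.span_singleton_smul_eq c'.isUnit]
    subst hW
    exact Prod.ext rfl (Units.ext (smul_left_injective F (hne W) h'))
  · rintro ⟨v, hv⟩
    have hv0 : v ≠ 0 := fun h => hv (by rw [h, QuadraticMap.map_zero])
    let W : Pts (⇑Q : (ι → F) → F) :=
      ⟨Submodule.span F {v}, finrank_span_singleton hv0, v, Submodule.mem_span_singleton_self v, hv⟩
    obtain ⟨c, hc⟩ := Submodule.mem_span_singleton.1 (show gen W ∈ Submodule.span F {v} from (hgen W).1)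
    have hc0 : c ≠ 0 := fun h => hne W (by rw [← hc, h, zero_smul])
    refine ⟨(W, (Units.mk0 c hc0)⁻¹), Subtype.ext ?_⟩
    show (((Units.mk0 c hc0)⁻¹ : Fˣ) : F) • gen W = v
    rw [← hc, smul_smul, Units.val_inv_eq_inv_val, Units.val_mk0, inv_mul_cancel₀ hc0, one_smul]

section CharTwo

variable [CharP F 2]

theorem eq_one_of_sq {z : F} (h : z * z = 1) : z = 1 := by
  rcases mul_self_eq_one_iff.1 h with h | h
  · exact h
  · rw [h, CharTwo.neg_eq]

variable {Q : QuadraticForm F (ι → F)}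

/-- An isometry fixing a nonsingular point fixes its vectors. -/
theorem fixes_point_iff {x : GL ι F} (hx : x ∈ Cfsg.isometryGroup F (⇑Q)) :
    (∃ W : Submodule F (ι → F), (Module.finrank F ↥W = 1 ∧ ∃ v ∈ W, Q v ≠ 0) ∧
      W.map (Matrix.toLin' (x : Matrix ι ι F)) ≤ W) ↔ ∃ v, Q v ≠ 0 ∧ (x : Matrix ι ι F) *ᵥ v = v := by
  constructor
  · rintro ⟨W, ⟨hW, v, hvW, hv⟩, hmap⟩
    have hv0 : v ≠ 0 := fun h => hv (by rw [h, QuadraticMap.map_zero])
    have hspan : Submodule.span F {v} = W :=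
      Submodule.eq_of_le_of_finrank_eq ((Submodule.span_singleton_le_iff_mem _ _).2 hvW)
        (by rw [finrank_span_singleton hv0, hW])
    have h1 := hmap ⟨v, hvW, rfl⟩
    rw [← hspan, Matrix.toLin'_apply] at h1
    obtain ⟨c, hc⟩ := Submodule.mem_span_singleton.1 h1
    refine ⟨v, hv, ?_⟩
    have h2 : Q ((x : Matrix ι ι F) *ᵥ v) = Q v := hx v v
    rw [← hc, QuadraticMap.map_smul, smul_eq_mul] at h2
    rw [← hc, eq_one_of_sq (mul_left_eq_self₀.1 h2 |>.resolve_right hv), one_smul]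
  · rintro ⟨v, hv, hfix⟩
    have hv0 : v ≠ 0 := fun h => hv (by rw [h, QuadraticMap.map_zero])
    refine ⟨Submodule.span F {v}, ⟨finrank_span_singleton hv0, v, Submodule.mem_span_singleton_self v, hv⟩, ?_⟩
    rw [Submodule.map_span_le]
    intro w hw
    rw [Set.mem_singleton_iff] at hw
    rw [hw, Matrix.toLin'_apply, hfix]
    exact Submodule.mem_span_singleton_self v

theorem omega_le_isometry {x : GL ι F} (hx : x ∈ Cfsg.Geo.omegaGL (⇑Q)) : x ∈ Cfsg.isometryGroup F (⇑Q) := by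
  obtain ⟨y, -, rfl⟩ := hx
  exact y.2

/-- A scalar power of an isometry is trivial. -/
theorem pow_eq_one_of_scalar {x : GL ι F} (hx : x ∈ Cfsg.isometryGroup F (⇑Q)) {v : ι → F} (hv : Q v ≠ 0)
    {r : ℕ} {z : F} (hz : ((x ^ r : GL ι F) : Matrix ι ι F) = z • (1 : Matrix ι ι F)) : x ^ r = 1 := by
  have h1 : Q (((x ^ r : GL ι F) : Matrix ι ι F) *ᵥ v) = Q v := (pow_mem hx r) v v
  rw [hz, Matrix.smul_mulVec, Matrix.one_mulVec, QuadraticMap.map_smul, smul_eq_mul] at h1
  refine Units.ext ?_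
  rw [hz, eq_one_of_sq (mul_left_eq_self₀.1 h1 |>.resolve_right hv), one_smul, Units.val_one]

theorem ne_scalar {x : GL ι F} (hx : x ∈ Cfsg.isometryGroup F (⇑Q)) {v : ι → F} (hv : Q v ≠ 0)
    (hne : (x : Matrix ι ι F) *ᵥ v ≠ v) (z : F) : (x : Matrix ι ι F) ≠ z • (1 : Matrix ι ι F) := by
  intro h
  refine hne ?_
  have h1 : Q ((x : Matrix ι ι F) *ᵥ v) = Q v := hx v v
  rw [h, Matrix.smul_mulVec, Matrix.one_mulVec, QuadraticMap.map_smul, smul_eq_mul] at h1
  rw [h, Matrix.smul_mulVec, Matrix.one_mulVec, eq_one_of_sq (mul_left_eq_self₀.1 h1 |>.resolve_right hv), one_smul]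

/-- Isometries of odd order lie in `Ω`. -/
theorem mem_omegaGL_of_odd (hQ : Q.polarBilin.Nondegenerate) (hn : Fintype.card ι ≠ 4) {x : GL ι F}
    (hx : x ∈ Cfsg.isometryGroup F (⇑Q)) {r : ℕ} (hr : Odd r) (hxr : x ^ r = 1) :
    x ∈ Cfsg.Geo.omegaGL (⇑Q) := by
  have hgen : reflClosure Q = ⊤ := reflClosure_eq_top hQ (Or.inr hn)
  refine ⟨⟨x, hx⟩, (OrthOmega.mem_omega_two hQ hgen ⟨x, hx⟩).2 ?_, rfl⟩
  have h : dicksonHom hQ hgen (⟨x, hx⟩ : O Q) ^ r = 1 := by
    rw [← map_pow, show (⟨x, hx⟩ : O Q) ^ r = 1 from Subtype.ext hxr, map_one]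
  rcases Int.units_eq_one_or (dicksonHom hQ hgen (⟨x, hx⟩ : O Q)) with h1 | h1
  · exact h1
  · rw [h1, hr.neg_one_pow] at h
    exact absurd h (by decide)

/-- An involution of `Ω` fixes a nonsingular vector unless half the dimension is even and equal to the
dimension of the fixed space. -/
theorem fixed_of_involution (hQ : Q.polarBilin.Nondegenerate) {d : ℕ} (hι : Fintype.card ι = 2 * d)
    (hd : 3 ≤ d) {x : GL ι F} (hx : x ∈ Cfsg.Geo.omegaGL (⇑Q)) (hx2 : x ^ 2 = 1)
    (h : Odd d ∨ ∀ W : Submodule F (ι → F), (∀ w ∈ W, Q w = 0) → Module.finrank F ↥W < d) :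
    ∃ v, Q v ≠ 0 ∧ (x : Matrix ι ι F) *ᵥ v = v := by
  by_contra hno
  push Not at hno
  obtain ⟨y, hy, rfl⟩ := hx
  set A : Matrix ι ι F := (((y : GL ι F)) : Matrix ι ι F) with hA
  have hAA : A * A = 1 := by
    rw [hA, ← Units.val_mul, ← pow_two]
    simpa using congrArg Units.val hx2
  let N : (ι → F) →ₗ[F] (ι → F) := (A - 1).mulVecLin
  have hts : ∀ v ∈ LinearMap.ker N, Q v = 0 := fun v hv => by
    by_contra hne
    refine hno v hne ?_
    rw [LinearMap.mem_ker, Matrix.mulVecLin_apply, Matrix.sub_mulVec, Matrix.one_mulVec, sub_eq_zero] at hv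
    exact hv
  have hNN : LinearMap.range N ≤ LinearMap.ker N := by
    rintro _ ⟨v, rfl⟩
    rw [LinearMap.mem_ker, Matrix.mulVecLin_apply, Matrix.mulVecLin_apply, Matrix.mulVec_mulVec,
      sub_mul, mul_sub, hAA, mul_one, one_mul]
    have : (1 : Matrix ι ι F) - A - (A - 1) = 0 := by
      rw [sub_sub_sub_comm]
      ext i j
      simp only [Matrix.sub_apply, Matrix.zero_apply, CharTwo.sub_eq_add]
      rw [add_comm ((A : Matrix ι ι F) i j) _, CharTwo.add_self_eq_zero]
    rw [this, Matrix.zero_mulVec]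
  have h1 := LinearMap.finrank_range_add_finrank_ker N
  rw [Module.finrank_fintype_fun_eq_card, hι] at h1
  have h2 := Submodule.finrank_mono hNN
  have h3 := two_finrank_le hQ hts
  rw [hι] at h3
  rcases h with h | h
  · have h4 := (CfsgLib.KnownSimple.InvolForms.mem_omega_iff_rank hQ (by omega) rfl y).1 hy
    have h5 : (A - 1).rank = d := by
      show Module.finrank F (LinearMap.range N) = d
      omega
    rw [← hA, h5] at h4
    exact Nat.not_even_iff_odd.2 h h4
  · have := h _ hts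
    omega

end CharTwo

end CfsgLib.PrimeElusive.NonsingPoint
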