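import Cfsg.Agent.Lib.Maximal99.OrderR

/-!
Fixed structures of Sylow subgroups of `GL(V)` and the orbits containing them.
-/

set_option autoImplicit false

namespace CfsgLib.PrimeElusive

open Module
open scoped Pointwise

theorem not_dvd_card_orbit {G X : Type*} [Group G] [Finite G] [MulAction G X] {r : ℕ} [Fact r.Prime]
    (P : Sylow r G) {x : X} (hx : ∀ g ∈ (P : Subgroup G), g • x = x) :
    ¬ r ∣ (MulAction.orbit G x).ncard := by
  rw [← MulAction.index_stabilizer]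
  intro h
  exact P.not_dvd_index (h.trans (Subgroup.index_dvd_of_le fun g hg => hx g hg))

variable {F V : Type*} [Field F] [Fintype F] [AddCommGroup V] [Module F V] [FiniteDimensional F V]

omit [Fintype F] [FiniteDimensional F V] in
theorem smul_submodule_eq (g : V ≃ₗ[F] V) (U : Submodule F V) : g • U = U.map g.toLinearMap := rfl

instance finite_gl : Finite (V ≃ₗ[F] V) :=
  have : Finite V := Module.finite_of_finite F
  Finite.of_injective (fun g => (g : V → V)) DFunLike.coe_injective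

/-- For a group of linear maps of order prime to the characteristic. -/
theorem exists_fix_compl {r q : ℕ} [Fact r.Prime] (hr : (r : F) ≠ 0) (hq : Fintype.card F = q)
    (P : Subgroup (V ≃ₗ[F] V)) (hP : IsPGroup r P) :
    ∃ C D : Submodule F V, IsCompl C D ∧ (∀ g ∈ P, ∀ v ∈ C, g v = v) ∧
      (∀ g ∈ P, D.map g.toLinearMap ≤ D) ∧ finrank F V % orderOf (q : ZMod r) ≤ finrank F ↥C := by
  classical
  have : Finite V := Module.finite_of_finite F
  have : Fintype P := Fintype.ofFinite _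
  obtain ⟨a, ha⟩ := IsPGroup.iff_card.1 hP
  have hN : (Fintype.card P : F) ≠ 0 := by
    rw [← Nat.card_eq_fintype_card, ha, Nat.cast_pow]
    exact pow_ne_zero _ hr
  let e : Module.End F V := (Fintype.card P : F)⁻¹ • ∑ g : P, (g : V ≃ₗ[F] V).toLinearMap
  have he : ∀ v, e v = (Fintype.card P : F)⁻¹ • ∑ g : P, (g : V ≃ₗ[F] V) v := fun v => by
    simp [e, LinearMap.sum_apply]
  have hge : ∀ (h : P) v, (h : V ≃ₗ[F] V) (e v) = e v := fun h v => by
    rw [he, map_smul, map_sum]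
    congr 1
    exact Fintype.sum_equiv (Equiv.mulLeft h) (fun g => (h : V ≃ₗ[F] V) ((g : V ≃ₗ[F] V) v))
      (fun g => (g : V ≃ₗ[F] V) v) fun g => rfl
  have heg : ∀ (h : P) v, e ((h : V ≃ₗ[F] V) v) = e v := fun h v => by
    rw [he, he]
    congr 1
    exact Fintype.sum_equiv (Equiv.mulRight h) (fun g => (g : V ≃ₗ[F] V) ((h : V ≃ₗ[F] V) v))
      (fun g => (g : V ≃ₗ[F] V) v) fun g => rfl
  have hfix : ∀ v, (∀ g : P, (g : V ≃ₗ[F] V) v = v) → e v = v := fun v hv => by
    rw [he, Finset.sum_congr rfl fun g _ => hv g, Finset.sum_const, Finset.card_univ,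
      ← Nat.cast_smul_eq_nsmul F, smul_smul, inv_mul_cancel₀ hN, one_smul]
  have hproj : LinearMap.IsProj (LinearMap.range e) e := by
    refine ⟨fun v => LinearMap.mem_range_self e v, ?_⟩
    rintro _ ⟨w, rfl⟩
    exact hfix _ fun g => hge g w
  refine ⟨LinearMap.range e, LinearMap.ker e, hproj.isCompl, ?_, ?_, ?_⟩
  · rintro g hg _ ⟨w, rfl⟩
    exact hge ⟨g, hg⟩ w
  · rintro g hg _ ⟨w, hw, rfl⟩
    rw [SetLike.mem_coe, LinearMap.mem_ker] at hw
    exact LinearMap.mem_ker.2 ((heg ⟨g, hg⟩ w).trans hw)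
  have hsum := Submodule.finrank_add_eq_of_isCompl hproj.isCompl
  have hmem : ∀ (g : P) (v : LinearMap.ker e), (g : V ≃ₗ[F] V) v ∈ LinearMap.ker e := fun g v =>
    LinearMap.mem_ker.2 ((heg g v).trans v.2)
  let act : MulAction P (LinearMap.ker e) :=
    { smul := fun g v => ⟨(g : V ≃ₗ[F] V) v, hmem g v⟩
      one_smul := fun v => rfl
      mul_smul := fun g h v => rfl }
  have hfp : MulAction.fixedPoints P (LinearMap.ker e) = {0} := by
    refine Set.eq_singleton_iff_unique_mem.2 ⟨fun g => Subtype.ext (map_zero (g : V ≃ₗ[F] V)), fun v hv => ?_⟩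
    refine Subtype.ext ?_
    rw [← hfix v fun g => congrArg Subtype.val (hv g)]
    exact v.2
  have hmod := hP.card_modEq_card_fixedPoints (LinearMap.ker e)
  have h1 : Nat.card ({0} : Set (LinearMap.ker e)) = 1 := by simp
  rw [hfp, h1, Module.natCard_eq_pow_finrank (K := F) (V := LinearMap.ker e), Nat.card_eq_fintype_card, hq] at hmod
  have hq1 : 1 ≤ q := hq ▸ Fintype.card_pos
  obtain ⟨t, ht⟩ : orderOf (q : ZMod r) ∣ finrank F ↥(LinearMap.ker e) :=
    (CfsgLib.OrderR.orderOf_dvd_iff hq1).2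
      ((Nat.modEq_iff_dvd' (Nat.one_le_pow _ _ hq1)).1 hmod.symm)
  rw [← hsum, ht, Nat.add_mul_mod_self_left]
  exact Nat.mod_le _ _

/-- A `p`-group fixes an extension of every invariant proper subspace. -/
theorem exists_inv_succ {p : ℕ} [Fact p.Prime] [CharP F p] (P : Subgroup (V ≃ₗ[F] V)) (hP : IsPGroup p P)
    {U : Submodule F V} (hU : ∀ g ∈ P, U.map g.toLinearMap ≤ U) (hne : finrank F ↥U < finrank F V) :
    ∃ U' : Submodule F V, U ≤ U' ∧ (∀ g ∈ P, U'.map g.toLinearMap ≤ U') ∧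
      finrank F ↥U' = finrank F ↥U + 1 := by
  classical
  have : Finite V := Module.finite_of_finite F
  have hc : ∀ g : P, U ≤ U.comap (g : V ≃ₗ[F] V).toLinearMap := fun g =>
    Submodule.map_le_iff_le_comap.1 (hU g g.2)
  have : Finite (V ⧸ U) := Module.finite_of_finite F
  let act : MulAction P (V ⧸ U) :=
    { smul := fun g v => U.mapQ U (g : V ≃ₗ[F] V).toLinearMap (hc g) v
      one_smul := fun v => Submodule.Quotient.induction_on _ v fun w => rfl
      mul_smul := fun g h v => Submodule.Quotient.induction_on _ v fun w => rfl }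
  have hmod := hP.card_modEq_card_fixedPoints (V ⧸ U)
  have hd : finrank F (V ⧸ U) ≠ 0 := by
    have := Submodule.finrank_quotient_add_finrank U
    omega
  have hdvd : p ∣ Nat.card (V ⧸ U) := by
    rw [Module.natCard_eq_pow_finrank (K := F), Nat.card_eq_fintype_card]
    refine dvd_pow ?_ hd
    obtain ⟨n, -, hn⟩ := FiniteField.card F p
    rw [hn]
    exact dvd_pow_self _ n.pos.ne'
  have h0 : (0 : V ⧸ U) ∈ MulAction.fixedPoints P (V ⧸ U) := fun g => map_zero (U.mapQ U _ (hc g))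
  obtain ⟨z, hz, hz0⟩ := hP.exists_fixed_point_of_prime_dvd_card_of_fixed_point _ hdvd h0
  obtain ⟨v, rfl⟩ := Submodule.Quotient.mk_surjective U z
  have hv : v ∉ U := fun h => hz0.symm ((Submodule.Quotient.mk_eq_zero U).2 h)
  refine ⟨U ⊔ Submodule.span F {v}, le_sup_left, fun g hg => ?_, ?_⟩
  · rw [Submodule.map_sup, Submodule.map_span, Set.image_singleton]
    refine sup_le ((hU g hg).trans le_sup_left) ((Submodule.span_singleton_le_iff_mem _ _).2 ?_)
    have h : Submodule.Quotient.mk (g v) = (Submodule.Quotient.mk v : V ⧸ U) := hz ⟨g, hg⟩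
    have h' : g v - v ∈ U := (Submodule.Quotient.eq U).1 h
    have := Submodule.add_mem_sup h' (Submodule.mem_span_singleton_self (R := F) v)
    rwa [sub_add_cancel] at this
  · have := Submodule.finrank_sup_add_finrank_inf_eq U (Submodule.span F {v})
    have hbot : U ⊓ Submodule.span F {v} = ⊥ :=
      (Submodule.disjoint_span_singleton' (by rintro rfl; exact hv U.zero_mem)).2 hv |>.eq_bot
    rw [hbot, finrank_bot, finrank_span_singleton (by rintro rfl; exact hv U.zero_mem)] at this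
    omega

theorem exists_inv_chain {p : ℕ} [Fact p.Prime] [CharP F p] (P : Subgroup (V ≃ₗ[F] V)) (hP : IsPGroup p P)
    {U : Submodule F V} (hU : ∀ g ∈ P, U.map g.toLinearMap ≤ U) {d : ℕ} (hd : finrank F ↥U ≤ d)
    (hdn : d ≤ finrank F V) :
    ∃ U' : Submodule F V, U ≤ U' ∧ (∀ g ∈ P, U'.map g.toLinearMap ≤ U') ∧ finrank F ↥U' = d := by
  induction d, hd using Nat.le_induction with
  | base => exact ⟨U, le_rfl, hU, rfl⟩
  | succ d _ ih =>
    obtain ⟨U', h1, h2, h3⟩ := ih (by omega)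
    obtain ⟨U'', h4, h5, h6⟩ := exists_inv_succ P hP h2 (by omega)
    exact ⟨U'', h1.trans h4, h5, by omega⟩

omit [Fintype F] [FiniteDimensional F V] in
theorem smul_eq_of_map_le [FiniteDimensional F V] {g : V ≃ₗ[F] V} {U : Submodule F V}
    (h : U.map g.toLinearMap ≤ U) : g • U = U := by
  rw [smul_submodule_eq]
  exact Submodule.eq_of_le_of_finrank_eq h (g.finrank_map_eq U)

omit [Fintype F] in
/-- `GL(V)` is transitive on complementary pairs of given dimensions. -/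
theorem exists_equiv_pair {U W U' W' : Submodule F V} (h : IsCompl U W) (h' : IsCompl U' W')
    (hd : finrank F ↥U = finrank F ↥U') :
    ∃ g : V ≃ₗ[F] V, U.map g.toLinearMap = U' ∧ W.map g.toLinearMap = W' := by
  have e1 := Submodule.finrank_add_eq_of_isCompl h
  have e2 := Submodule.finrank_add_eq_of_isCompl h'
  let a : U ≃ₗ[F] U' := LinearEquiv.ofFinrankEq _ _ hd
  let b : W ≃ₗ[F] W' := LinearEquiv.ofFinrankEq _ _ (by omega)
  let g : V ≃ₗ[F] V := (U.prodEquivOfIsCompl W h).symm ≪≫ₗ (a.prodCongr b) ≪≫ₗ (U'.prodEquivOfIsCompl W' h')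
  refine ⟨g, ?_, ?_⟩
  · refine Submodule.eq_of_le_of_finrank_eq ?_ (by rw [g.finrank_map_eq, hd])
    rintro _ ⟨u, hu, rfl⟩
    simp [g, Submodule.prodEquivOfIsCompl_symm_apply_left U W h ⟨u, hu⟩]
  · refine Submodule.eq_of_le_of_finrank_eq ?_ (by rw [g.finrank_map_eq]; omega)
    rintro _ ⟨u, hu, rfl⟩
    simp [g, Submodule.prodEquivOfIsCompl_symm_apply_right U W h ⟨u, hu⟩]

omit [Fintype F] in
theorem exists_equiv_sub {U U' : Submodule F V} (hd : finrank F ↥U = finrank F ↥U') :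
    ∃ g : V ≃ₗ[F] V, U.map g.toLinearMap = U' := by
  obtain ⟨W, hW⟩ := U.exists_isCompl
  obtain ⟨W', hW'⟩ := U'.exists_isCompl
  obtain ⟨g, hg, -⟩ := exists_equiv_pair hW hW' hd
  exact ⟨g, hg⟩

omit [Fintype F] in
theorem exists_equiv_flag {U W U' W' : Submodule F V} (h : U ≤ W) (h' : U' ≤ W')
    (hd : finrank F ↥U = finrank F ↥U') (hD : finrank F ↥W = finrank F ↥W') :
    ∃ g : V ≃ₗ[F] V, U.map g.toLinearMap = U' ∧ W.map g.toLinearMap = W' := by
  obtain ⟨g₁, hg₁⟩ := exists_equiv_sub hD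
  set U₁ := U.map g₁.toLinearMap
  have hU₁ : U₁ ≤ W' := hg₁ ▸ Submodule.map_mono h
  have hd₁ : finrank F ↥(U₁.comap W'.subtype) = finrank F ↥(U'.comap W'.subtype) := by
    rw [(Submodule.comapSubtypeEquivOfLe hU₁).finrank_eq, (Submodule.comapSubtypeEquivOfLe h').finrank_eq,
      g₁.finrank_map_eq, hd]
  obtain ⟨a, ha⟩ := exists_equiv_sub hd₁
  obtain ⟨Z, hZ⟩ := W'.exists_isCompl
  let g₂ : V ≃ₗ[F] V := (W'.prodEquivOfIsCompl Z hZ).symm ≪≫ₗ (a.prodCongr (LinearEquiv.refl F Z)) ≪≫ₗ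
    (W'.prodEquivOfIsCompl Z hZ)
  have hg₂ : ∀ w : W', g₂ w = a w := fun w => by
    simp [g₂, Submodule.prodEquivOfIsCompl_symm_apply_left W' Z hZ w]
  refine ⟨g₁ ≪≫ₗ g₂, ?_, ?_⟩
  · rw [show (g₁ ≪≫ₗ g₂).toLinearMap = g₂.toLinearMap ∘ₗ g₁.toLinearMap from rfl, Submodule.map_comp]
    refine Submodule.eq_of_le_of_finrank_eq ?_ (by rw [g₂.finrank_map_eq, g₁.finrank_map_eq, hd])
    rintro _ ⟨u, hu, rfl⟩
    have hmem : a ⟨u, hU₁ hu⟩ ∈ U'.comap W'.subtype :=
      ha ▸ Submodule.mem_map_of_mem (f := a.toLinearMap) (show (⟨u, hU₁ hu⟩ : W') ∈ U₁.comap W'.subtype from hu)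
    show g₂ u ∈ U'
    rw [hg₂ ⟨u, hU₁ hu⟩]
    exact hmem
  · rw [show (g₁ ≪≫ₗ g₂).toLinearMap = g₂.toLinearMap ∘ₗ g₁.toLinearMap from rfl, Submodule.map_comp, hg₁]
    refine Submodule.eq_of_le_of_finrank_eq ?_ (g₂.finrank_map_eq W')
    rintro _ ⟨u, hu, rfl⟩
    show g₂ u ∈ W'
    rw [hg₂ ⟨u, hu⟩]
    exact (a ⟨u, hu⟩).2

omit [Fintype F] in
theorem exists_subspace_between {A B : Submodule F V} (hAB : A ≤ B) {d : ℕ} (h1 : finrank F ↥A ≤ d)
    (h2 : d ≤ finrank F ↥B) : ∃ U : Submodule F V, A ≤ U ∧ U ≤ B ∧ finrank F ↥U = d := by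
  induction d, h1 using Nat.le_induction with
  | base => exact ⟨A, le_rfl, hAB, rfl⟩
  | succ d _ ih =>
    obtain ⟨U, h3, h4, h5⟩ := ih (by omega)
    obtain ⟨v, hvB, hvU⟩ := SetLike.exists_of_lt (lt_of_le_of_ne h4 fun e => by rw [e] at h5; omega)
    have hv0 : v ≠ 0 := by rintro rfl; exact hvU U.zero_mem
    refine ⟨U ⊔ Submodule.span F {v}, h3.trans le_sup_left,
      sup_le h4 ((Submodule.span_singleton_le_iff_mem _ _).2 hvB), ?_⟩
    have := Submodule.finrank_sup_add_finrank_inf_eq U (Submodule.span F {v})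
    rw [((Submodule.disjoint_span_singleton' hv0).2 hvU).eq_bot, finrank_bot, finrank_span_singleton hv0] at this
    omega

/-- The number of `m`-dimensional subspaces is prime to `r`, if `r = p` or `m ≤ n mod ord_r q`. -/
theorem not_dvd_card_subspaces {p r q m : ℕ} [Fact p.Prime] [Fact r.Prime] [CharP F p]
    (hq : Fintype.card F = q) (hm : m ≤ finrank F V)
    (h : r = p ∨ ((r : F) ≠ 0 ∧ m ≤ finrank F V % orderOf (q : ZMod r))) :
    ¬ r ∣ Nat.card {W : Submodule F V // finrank F ↥W = m} := by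
  have : Finite V := Module.finite_of_finite F
  let P : Sylow r (V ≃ₗ[F] V) := Classical.arbitrary _
  obtain ⟨U, hd, hU⟩ : ∃ U : Submodule F V, finrank F ↥U = m ∧
      ∀ g ∈ (P : Subgroup (V ≃ₗ[F] V)), U.map g.toLinearMap ≤ U := by
    rcases h with rfl | ⟨hr, hle⟩
    · obtain ⟨U, -, h2, h3⟩ := exists_inv_chain (P : Subgroup (V ≃ₗ[F] V)) P.isPGroup' (U := ⊥)
        (fun g _ => by simp) (d := m) (by simp) hm
      exact ⟨U, h3, h2⟩
    · obtain ⟨C, D, -, hC, -, hCd⟩ := exists_fix_compl hr hq (P : Subgroup (V ≃ₗ[F] V)) P.isPGroup'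
      obtain ⟨U, -, hUC, hd⟩ := exists_subspace_between (bot_le : ⊥ ≤ C) (d := m) (by simp) (hle.trans hCd)
      refine ⟨U, hd, fun g hg => ?_⟩
      rintro _ ⟨v, hv, rfl⟩
      show g v ∈ U
      rwa [hC g hg v (hUC hv)]
  have hfix : ∀ g ∈ (P : Subgroup (V ≃ₗ[F] V)), g • U = U := fun g hg => smul_eq_of_map_le (hU g hg)
  have horb : MulAction.orbit (V ≃ₗ[F] V) U = {W : Submodule F V | finrank F ↥W = m} := by
    ext W
    constructor
    · rintro ⟨g, rfl⟩
      show finrank F ↥(U.map g.toLinearMap) = m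
      rw [g.finrank_map_eq, hd]
    · intro hW
      obtain ⟨g, hg⟩ := exists_equiv_sub (hd.trans hW.symm)
      exact ⟨g, hg⟩
  have := not_dvd_card_orbit P hfix
  rwa [horb, ← Nat.card_coe_set_eq] at this

/-- The same for complementary pairs, `r ≠ p`. -/
theorem not_dvd_card_pairs {r q m : ℕ} [Fact r.Prime]
    (hq : Fintype.card F = q) (hr : (r : F) ≠ 0) (hle : m ≤ finrank F V % orderOf (q : ZMod r)) :
    ¬ r ∣ Nat.card {P : Submodule F V × Submodule F V // IsCompl P.1 P.2 ∧ finrank F ↥P.1 = m} := by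
  have : Finite V := Module.finite_of_finite F
  let P : Sylow r (V ≃ₗ[F] V) := Classical.arbitrary _
  obtain ⟨C, D, hCD, hC, hD, hCd⟩ := exists_fix_compl hr hq (P : Subgroup (V ≃ₗ[F] V)) P.isPGroup'
  obtain ⟨U, -, hUC, hd⟩ := exists_subspace_between (bot_le : ⊥ ≤ C) (d := m) (by simp) (hle.trans hCd)
  obtain ⟨C', hC'⟩ := (U.comap C.subtype).exists_isCompl
  set W := C'.map C.subtype ⊔ D
  have hWC : C'.map C.subtype ≤ C := Submodule.map_subtype_le C C'
  have hsup : U ⊔ C'.map C.subtype = C := by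
    conv_lhs => rw [← Submodule.map_comap_subtype C U |>.trans (inf_eq_right.2 hUC)]
    rw [← Submodule.map_sup, hC'.sup_eq_top, Submodule.map_subtype_top]
  have hUW : IsCompl U W := by
    refine ⟨?_, codisjoint_iff.2 (by rw [← sup_assoc, hsup, hCD.sup_eq_top])⟩
    rw [Submodule.disjoint_def]
    intro v hvU hvW
    obtain ⟨a, ha, b, hb, rfl⟩ := Submodule.mem_sup.1 hvW
    have hb0 : b = 0 := Submodule.disjoint_def.1 hCD.disjoint b
      (by simpa using C.sub_mem (hUC hvU) (hWC ha)) hb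
    subst hb0
    obtain ⟨a', ha', rfl⟩ := ha
    rw [add_zero] at hvU ⊢
    rw [Submodule.disjoint_def.1 hC'.disjoint a' (by simpa using hvU) ha', map_zero]
  have hfix : ∀ g ∈ (P : Subgroup (V ≃ₗ[F] V)), g • ((U, W) : Submodule F V × Submodule F V) = (U, W) := by
    intro g hg
    refine Prod.ext (smul_eq_of_map_le ?_) (smul_eq_of_map_le ?_)
    · rintro _ ⟨v, hv, rfl⟩
      show g v ∈ U
      rwa [hC g hg v (hUC hv)]
    · rw [Submodule.map_sup]
      refine sup_le_sup ?_ (hD g hg)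
      rintro _ ⟨v, hv, rfl⟩
      show g v ∈ C'.map C.subtype
      rwa [hC g hg v (hWC hv)]
  have horb : MulAction.orbit (V ≃ₗ[F] V) ((U, W) : Submodule F V × Submodule F V) =
      {P : Submodule F V × Submodule F V | IsCompl P.1 P.2 ∧ finrank F ↥P.1 = m} := by
    ext ⟨A, B⟩
    constructor
    · rintro ⟨g, hg⟩
      cases hg
      exact ⟨hUW.map (Submodule.orderIsoMapComap g), (g.finrank_map_eq U).trans hd⟩
    · rintro ⟨hAB, hA⟩
      obtain ⟨g, hg1, hg2⟩ := exists_equiv_pair hUW hAB (hd.trans hA.symm)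
      exact ⟨g, Prod.ext hg1 hg2⟩
  have := not_dvd_card_orbit P hfix
  rwa [horb, ← Nat.card_coe_set_eq] at this

/-- The same for flags of dimensions `m ≤ n - m`. -/
theorem not_dvd_card_flags {p r q m : ℕ} [Fact p.Prime] [Fact r.Prime] [CharP F p]
    (hq : Fintype.card F = q) (hm : 2 * m ≤ finrank F V)
    (h : r = p ∨ ((r : F) ≠ 0 ∧ 2 * m ≤ finrank F V % orderOf (q : ZMod r))) :
    ¬ r ∣ Nat.card {P : Submodule F V × Submodule F V //
      P.1 ≤ P.2 ∧ finrank F ↥P.1 = m ∧ finrank F ↥P.2 = finrank F V - m} := by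
  have : Finite V := Module.finite_of_finite F
  let P : Sylow r (V ≃ₗ[F] V) := Classical.arbitrary _
  obtain ⟨U, W, hUW, hd, hD, hU, hW⟩ : ∃ U W : Submodule F V, U ≤ W ∧ finrank F ↥U = m ∧
      finrank F ↥W = finrank F V - m ∧ (∀ g ∈ (P : Subgroup (V ≃ₗ[F] V)), U.map g.toLinearMap ≤ U) ∧
      (∀ g ∈ (P : Subgroup (V ≃ₗ[F] V)), W.map g.toLinearMap ≤ W) := by
    rcases h with rfl | ⟨hr, hle⟩
    · obtain ⟨U, -, h2, h3⟩ := exists_inv_chain (P : Subgroup (V ≃ₗ[F] V)) P.isPGroup' (U := ⊥)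
        (fun g _ => by simp) (d := m) (by simp) (by omega)
      obtain ⟨W, h4, h5, h6⟩ := exists_inv_chain (P : Subgroup (V ≃ₗ[F] V)) P.isPGroup' h2
        (d := finrank F V - m) (by omega) (by omega)
      exact ⟨U, W, h4, h3, h6, h2, h5⟩
    · obtain ⟨C, D, hCD, hC, hDi, hCd⟩ := exists_fix_compl hr hq (P : Subgroup (V ≃ₗ[F] V)) P.isPGroup'
      obtain ⟨U, -, hUC, hd⟩ := exists_subspace_between (bot_le : ⊥ ≤ C) (d := m) (by simp) (by omega)
      obtain ⟨C₂, hUC₂, hC₂, hd₂⟩ := exists_subspace_between hUC (d := finrank F ↥C - m) (by omega) (by omega)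
      refine ⟨U, C₂ ⊔ D, hUC₂.trans le_sup_left, hd, ?_, fun g hg => ?_, fun g hg => ?_⟩
      · have h1 := Submodule.finrank_sup_add_finrank_inf_eq C₂ D
        rw [(hCD.disjoint.mono_left hC₂).eq_bot, finrank_bot] at h1
        have h2 := Submodule.finrank_add_eq_of_isCompl hCD
        omega
      · rintro _ ⟨v, hv, rfl⟩
        show g v ∈ U
        rwa [hC g hg v (hUC hv)]
      · rw [Submodule.map_sup]
        refine sup_le_sup ?_ (hDi g hg)
        rintro _ ⟨v, hv, rfl⟩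
        show g v ∈ C₂
        rwa [hC g hg v (hC₂ hv)]
  have hfix : ∀ g ∈ (P : Subgroup (V ≃ₗ[F] V)), g • ((U, W) : Submodule F V × Submodule F V) = (U, W) :=
    fun g hg => Prod.ext (smul_eq_of_map_le (hU g hg)) (smul_eq_of_map_le (hW g hg))
  have horb : MulAction.orbit (V ≃ₗ[F] V) ((U, W) : Submodule F V × Submodule F V) =
      {P : Submodule F V × Submodule F V | P.1 ≤ P.2 ∧ finrank F ↥P.1 = m ∧ finrank F ↥P.2 = finrank F V - m} := by
    ext ⟨A, B⟩
    constructor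
    · rintro ⟨g, hg⟩
      cases hg
      exact ⟨Submodule.map_mono hUW, (g.finrank_map_eq U).trans hd, (g.finrank_map_eq W).trans hD⟩
    · rintro ⟨hAB, hA, hB⟩
      obtain ⟨g, hg1, hg2⟩ := exists_equiv_flag hUW hAB (hd.trans hA.symm) (hD.trans hB.symm)
      exact ⟨g, Prod.ext hg1 hg2⟩
  have := not_dvd_card_orbit P hfix
  rwa [horb, ← Nat.card_coe_set_eq] at this

end CfsgLib.PrimeElusive
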