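import Cfsg.Agent.Lib.PrimeElusive.FormTests
import Cfsg.Agent.Lib.OrthFix.Count
import Cfsg.Agent.Lib.PrimeClasses.OrthRealise
import Cfsg.Agent.Lib.Maximal99.ConjTools
import Cfsg.Agent.Lib.OrthFix.Invol

/-!
Which elements of prime order of `SL(n, q)`, `q` odd, are similitudes of some form similar to a given
quadratic form.
-/

set_option autoImplicit false
set_option linter.unusedSectionVars false

namespace CfsgLib.PrimeElusive.OrthSimilitude

open Matrix QuadraticMap CfsgLib.PrimeClasses CfsgLib.OrthFix CfsgLib.QuadType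

theorem two_ne_zero_of_odd {F : Type*} [Field F] [Fintype F] {q : ℕ} (hq : Fintype.card F = q) (hodd : Odd q) :
    (2 : F) ≠ 0 := by
  refine Ring.two_ne_zero fun h2 => ?_
  have := FiniteField.even_card_iff_char_two.1 h2
  rw [hq] at this
  have := Nat.odd_iff.1 hodd
  omega

variable {F : Type*} [Field F] [Fintype F] {n : ℕ}

/-- A non-degenerate quadratic function is a quadratic form. -/
theorem exists_form {ι : Type} [Fintype ι] {Q : (ι → F) → F} (hQ : Cfsg.Geo.IsNondegenerateQuadraticForm Q) :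
    ∃ QF : QuadraticForm F (ι → F), ⇑QF = Q ∧ QF.polarBilin.Nondegenerate := by
  obtain ⟨hsmul, ⟨hal, hsl, har, hsr⟩, hnd⟩ := hQ
  let QF : QuadraticForm F (ι → F) :=
    { toFun := Q
      toFun_smul := fun c v => by rw [hsmul, smul_eq_mul, pow_two]
      exists_companion' := ⟨LinearMap.mk₂ F (QuadraticMap.polar Q) hal (fun c x v => by rw [hsl, smul_eq_mul]) har
        (fun c v x => by rw [hsr, smul_eq_mul]), fun u v => by
          simp only [LinearMap.mk₂_apply, QuadraticMap.polar]; ring⟩ }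
  refine ⟨QF, rfl, fun u hu => ?_, fun v hv => ?_⟩
  · by_contra h0
    obtain ⟨x, hx⟩ := (hnd u h0).2
    exact hx (hu x)
  · by_contra h0
    obtain ⟨x, hx⟩ := (hnd v h0).1
    exact hx (hv x)

variable {Q : QuadraticForm F (Fin n → F)}

theorem exists_anisotropic_vec (hQ : Q.polarBilin.Nondegenerate) (hn : 0 < n) : ∃ v, Q v ≠ 0 := by
  by_contra hno
  push Not at hno
  have : Nonempty (Fin n) := ⟨⟨0, hn⟩⟩
  have h := hQ.1 (1 : Fin n → F) fun v => by simp [QuadraticMap.polar, hno]
  exact one_ne_zero (congrFun h (Classical.arbitrary _))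

theorem mem_similitude {g : GL (Fin n) F} :
    g ∈ Cfsg.Geo.quadSimilarityGroup (⇑Q) ↔
      ∃ c : Fˣ, ∀ v, Q ((g : Matrix (Fin n) (Fin n) F) *ᵥ v) = (c : F) * Q v := Iff.rfl

/-- A similitude with `r`-th power one has multiplier one, if the field has no `r`-th roots of unity. -/
theorem isometry_of_pow {r q : ℕ} (hr : r.Prime) (hq : Fintype.card F = q) (h : ¬ r ∣ q - 1)
    (hQ : Q.polarBilin.Nondegenerate) (hn : 0 < n) {g : GL (Fin n) F}
    (hg : g ∈ Cfsg.Geo.quadSimilarityGroup (⇑Q)) (hr1 : g ^ r = 1) :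
    ∀ v, Q ((g : Matrix (Fin n) (Fin n) F) *ᵥ v) = Q v := by
  obtain ⟨c, hc⟩ := mem_similitude.1 hg
  have hpow : ∀ (k : ℕ) v, Q (((g ^ k : GL (Fin n) F) : Matrix (Fin n) (Fin n) F) *ᵥ v) = (c : F) ^ k * Q v := by
    intro k
    induction k with
    | zero => intro v; simp
    | succ k ih => intro v; rw [pow_succ, Units.val_mul, ← mulVec_mulVec, ih, hc, pow_succ, mul_assoc]
  obtain ⟨v, hv⟩ := exists_anisotropic_vec hQ hn
  have h1 := hpow r v
  rw [hr1, Units.val_one, one_mulVec] at h1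
  have hcr : (c : F) ^ r = 1 := mul_right_cancel₀ hv (by rw [one_mul]; exact h1.symm)
  have := FormTests.eq_one_of_pow_eq_one hr hq h (m := 1) (c := (c : F)) (by rwa [pow_one])
  intro v
  rw [hc, this, one_mul]

/-- Diagonal similitudes: the values pair to a constant. -/
theorem exists_pairing (hQ : Q.polarBilin.Nondegenerate) {y g : GL (Fin n) F} {d : Fin n → F}
    (hy : y ∈ Cfsg.Geo.quadSimilarityGroup (⇑Q))
    (hyg : (y : Matrix (Fin n) (Fin n) F) * (g : Matrix (Fin n) (Fin n) F) =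
      (g : Matrix (Fin n) (Fin n) F) * Matrix.diagonal d) :
    ∃ (c : F) (σ : Equiv.Perm (Fin n)), ∀ i, d i * d (σ i) = c := by
  classical
  obtain ⟨c, hc⟩ := mem_similitude.1 hy
  set e : Fin n → Fin n → F := fun i => (g : Matrix (Fin n) (Fin n) F) *ᵥ Pi.single i 1
  have he : ∀ i, (y : Matrix (Fin n) (Fin n) F) *ᵥ e i = d i • e i := fun i => by
    show (y : Matrix (Fin n) (Fin n) F) *ᵥ ((g : Matrix (Fin n) (Fin n) F) *ᵥ Pi.single i 1) = _
    rw [mulVec_mulVec, hyg, ← mulVec_mulVec, Matrix.diagonal_mulVec_single, mul_one, ← Matrix.mulVec_smul,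
      ← Pi.single_smul', smul_eq_mul, mul_one]
  set M : Matrix (Fin n) (Fin n) F := (g : Matrix (Fin n) (Fin n) F)ᵀ *
    LinearMap.BilinForm.toMatrix' Q.polarBilin * (g : Matrix (Fin n) (Fin n) F) with hMdef
  have hMd : M.det ≠ 0 := by
    have h1 : (LinearMap.BilinForm.toMatrix' Q.polarBilin).det ≠ 0 := by
      rw [← LinearMap.BilinForm.nondegenerate_toBilin'_iff_det_ne_zero, Matrix.toBilin'_toMatrix']
      exact hQ
    have h2 : (g : Matrix (Fin n) (Fin n) F).det ≠ 0 :=
      ((Matrix.isUnit_iff_isUnit_det _).1 g.isUnit).ne_zero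
    rw [hMdef, det_mul, det_mul, det_transpose]
    exact mul_ne_zero (mul_ne_zero h2 h1) h2
  have hMij : ∀ i j, M i j = polar Q (e i) (e j) := fun i j => by
    rw [hMdef, ← LinearMap.toMatrix'_toLin' (g : Matrix (Fin n) (Fin n) F),
      ← LinearMap.BilinForm.toMatrix'_comp, LinearMap.BilinForm.toMatrix'_apply]
    simp [e]
  obtain ⟨σ, hσ⟩ : ∃ σ : Equiv.Perm (Fin n), ∀ i, M (σ i) i ≠ 0 := by
    by_contra hno
    push Not at hno
    refine hMd ?_
    rw [Matrix.det_apply]
    refine Finset.sum_eq_zero fun σ _ => ?_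
    obtain ⟨i, hi⟩ := hno σ
    exact (congrArg (Equiv.Perm.sign σ • ·) (Finset.prod_eq_zero (f := fun i => M (σ i) i) (Finset.mem_univ i) hi)).trans (smul_zero _)
  refine ⟨c, σ, fun i => mul_right_cancel₀ (hσ i) ?_⟩
  have hp : ∀ u v, polar Q ((y : Matrix (Fin n) (Fin n) F) *ᵥ u) ((y : Matrix (Fin n) (Fin n) F) *ᵥ v) =
      (c : F) * polar Q u v := fun u v => by
    simp only [polar, ← mulVec_add, hc]; ring
  have h1 := hp (e (σ i)) (e i)
  rw [he, he, polar_smul_left, polar_smul_right, ← hMij, smul_eq_mul, smul_eq_mul] at h1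
  linear_combination h1

/-- A transvection is no similitude. -/
theorem not_transvection (hQ : Q.polarBilin.Nondegenerate) (h2 : (2 : F) ≠ 0) {y : GL (Fin n) F}
    (hy : ∀ v, Q ((y : Matrix (Fin n) (Fin n) F) *ᵥ v) = Q v) {a b : Fin n → F} (ha : a ≠ 0) (hb : b ≠ 0)
    (hba : b ⬝ᵥ a = 0) (hyab : (y : Matrix (Fin n) (Fin n) F) = 1 + vecMulVec a b) : False := by
  have hT : ∀ v, (y : Matrix (Fin n) (Fin n) F) *ᵥ v = v + (b ⬝ᵥ v) • a := fun v => by
    rw [hyab, add_mulVec, one_mulVec, Matrix.vecMulVec_mulVec]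
    congr 1
    ext i; simp [mul_comm]
  have key : ∀ v, (b ⬝ᵥ v) * polar Q v a + (b ⬝ᵥ v) * (b ⬝ᵥ v) * Q a = 0 := fun v => by
    have h1 := hy v
    rw [hT, QuadraticMap.map_add (⇑Q), QuadraticMap.map_smul, polar_smul_right, smul_eq_mul, smul_eq_mul] at h1
    linear_combination h1
  obtain ⟨u, hu⟩ : ∃ u, b ⬝ᵥ u ≠ 0 := by
    by_contra h
    push Not at h
    exact hb (dotProduct_eq_zero _ fun v => h v)
  have hQa : Q a = 0 := by
    have hua : b ⬝ᵥ (u + a) = b ⬝ᵥ u := by rw [dotProduct_add, hba, add_zero]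
    have h1 := key u
    have h2' := key (u + a)
    rw [hua, polar_add_left, polar_self, two_smul, ← two_mul] at h2'
    have : (b ⬝ᵥ u) * (2 * Q a) = 0 := by linear_combination h2' - h1
    exact (mul_eq_zero.1 ((mul_eq_zero.1 this).resolve_left hu)).resolve_left h2
  have hpu : ∀ v, b ⬝ᵥ v ≠ 0 → polar Q v a = 0 := fun v hv => by
    have := key v
    rw [hQa, mul_zero, add_zero] at this
    exact (mul_eq_zero.1 this).resolve_left hv
  refine ha (hQ.2 a fun v => ?_)
  show polar Q v a = 0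
  by_cases hv : b ⬝ᵥ v = 0
  · have := hpu (u + v) (by rw [dotProduct_add, hv, add_zero]; exact hu)
    rwa [polar_add_left, hpu u hu, zero_add] at this
  · exact hpu v hv

/-- Conjugation by a linear equivalence as an element of the similitude group. -/
theorem mem_conj (E : (Fin n → F) ≃ₗ[F] (Fin n → F)) {D E' : GL (Fin n) F}
    (hE : ∀ v, (E' : Matrix (Fin n) (Fin n) F) *ᵥ v = E v) {c : F} (hc : c ≠ 0)
    (h : ∀ v, Q (E ((D : Matrix (Fin n) (Fin n) F) *ᵥ v)) = c * Q (E v)) :
    E' * D * E'⁻¹ ∈ Cfsg.Geo.quadSimilarityGroup (⇑Q) := by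
  refine mem_similitude.2 ⟨Units.mk0 c hc, fun v => ?_⟩
  rw [Units.val_mul, Units.val_mul, ← mulVec_mulVec, ← mulVec_mulVec, hE, h, ← hE, mulVec_mulVec, Units.mul_inv,
    one_mulVec]
  rfl

theorem exists_GL_equiv (E : (Fin n → F) ≃ₗ[F] (Fin n → F)) :
    ∃ E' : GL (Fin n) F, ∀ v, (E' : Matrix (Fin n) (Fin n) F) *ᵥ v = E v :=
  ⟨⟨LinearMap.toMatrix' E.toLinearMap, LinearMap.toMatrix' E.symm.toLinearMap,
      by rw [← LinearMap.toMatrix'_comp, LinearEquiv.comp_symm, LinearMap.toMatrix'_id],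
      by rw [← LinearMap.toMatrix'_comp, LinearEquiv.symm_comp, LinearMap.toMatrix'_id]⟩,
    fun v => LinearMap.toMatrix'_mulVec E.toLinearMap v⟩

section Two

open CfsgLib.SquareScalar

/-- An element with scalar square is conjugate inside `SL(n)` to a similitude. -/
theorem exists_sl_two (h2 : (2 : F) ≠ 0) (hQ : Q.polarBilin.Nondegenerate) (hn : 0 < n) (x : GL (Fin n) F)
    (hx : x ∈ Cfsg.Geo.specialLinear (Fin n) F) {z : F} (hz : z ≠ 0)
    (hxx : ∀ v, (x : Matrix (Fin n) (Fin n) F) *ᵥ ((x : Matrix (Fin n) (Fin n) F) *ᵥ v) = z • v) :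
    ∃ g ∈ Cfsg.Geo.specialLinear (Fin n) F, g⁻¹ * x * g ∈ Cfsg.Geo.quadSimilarityGroup (⇑Q) := by
  classical
  have : Nonempty (Fin n) := ⟨⟨0, hn⟩⟩
  set T := Matrix.toLin' (x : Matrix (Fin n) (Fin n) F) with hTdef
  have hTT : ∀ v, T (T v) = z • v := fun v => by simp only [hTdef, Matrix.toLin'_apply]; exact hxx v
  obtain ⟨w, E, hw, hE⟩ := OrthFix.exists_diag h2 Q hQ (Fintype.card_fin n)
  by_cases hsq : IsSquare z
  · obtain ⟨s, rfl⟩ := hsq
    have hs : s ≠ 0 := left_ne_zero_of_mul hz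
    obtain ⟨l, b, μ, -, -, hμ, hμ2⟩ := hasPairBasis_of_square h2 T s hs hTT
    have hcard : Fintype.card ((Fin 0 × Bool) ⊕ Fin l) = Fintype.card (Fin n) := by
      rw [← Module.finrank_eq_card_basis b, Module.finrank_fin_fun, Fintype.card_fin]
    let σ := Fintype.equivOfCardEq hcard
    let b' := b.reindex σ
    let d : Fin n → F := fun i => Sum.elim (fun k => k.1.elim0) μ (σ.symm i)
    have hbd : ∀ i, (x : Matrix (Fin n) (Fin n) F) *ᵥ b' i = d i • b' i := fun i => by
      rw [← Matrix.toLin'_apply, ← hTdef]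
      rcases hi : σ.symm i with k | k
      · exact k.1.elim0
      · simp [b', d, hi, hμ]
    have hdd : ∀ i, d i * d i = s * s := fun i => by
      rcases hi : σ.symm i with k | k
      · exact k.1.elim0
      · simp [d, hi, hμ2]
    obtain ⟨g, hg⟩ := exists_GL_equiv b'.equivFun.symm
    have hgi : ∀ i, (g : Matrix (Fin n) (Fin n) F) *ᵥ Pi.single i 1 = b' i := fun i => by
      rw [hg, Module.Basis.equivFun_symm_apply]
      simp [Pi.single_apply]
    let D : GL (Fin n) F := Matrix.GeneralLinearGroup.mkOfDetNeZero (Matrix.diagonal d) (by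
      rw [Matrix.det_diagonal]
      exact Finset.prod_ne_zero_iff.2 fun i _ h0 => hz (by rw [← hdd i, h0, zero_mul]))
    have hxg : x * g = g * D := Units.ext (Matrix.ext_of_mulVec_single fun i => by
      rw [Units.val_mul, Units.val_mul, ← mulVec_mulVec, ← mulVec_mulVec, hgi, hbd]
      show _ = (g : Matrix (Fin n) (Fin n) F) *ᵥ (Matrix.diagonal d *ᵥ Pi.single i 1)
      rw [Matrix.diagonal_mulVec_single, mul_one, ← hgi, ← Matrix.mulVec_smul, ← Pi.single_smul', smul_eq_mul,
        mul_one])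
    obtain ⟨E', hE'⟩ := exists_GL_equiv E
    refine FormTests.exists_sl_of_diag _ x g E' D d rfl hxg (mem_conj E hE' hz fun v => ?_)
    show Q (E (Matrix.diagonal d *ᵥ v)) = _
    rw [hE, hE, Finset.mul_sum]
    refine Finset.sum_congr rfl fun i _ => ?_
    rw [Matrix.mulVec_diagonal, ← hdd i]
    ring
  · obtain ⟨s, hb⟩ := hasPairBasis_of_not_square T z hTT hsq
    have hD := CfsgLib.ConjTools.detSurj hb hz (by
      obtain ⟨b, -⟩ := hb
      have := Module.finrank_eq_card_basis b
      simp only [Module.finrank_fin_fun, Fintype.card_sum, Fintype.card_prod, Fintype.card_fin, Fintype.card_bool]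
        at this
      omega) (Or.inr (Or.inr hsq))
    obtain ⟨b, μ, h1, h1', -, -⟩ := hb
    have hcard : Fintype.card ((Fin s × Bool) ⊕ Fin 0) = Fintype.card (Fin n) := by
      rw [← Module.finrank_eq_card_basis b, Module.finrank_fin_fun, Fintype.card_fin]
    let σ := Fintype.equivOfCardEq hcard
    have hdz : ∀ i ε, w (σ (.inl (i, ε))) ≠ 0 := fun i ε => hw _
    have huw : ∀ i : Fin s, ∃ p : F × F, p.2 ≠ 0 ∧
        p.1 ^ 2 + w (σ (.inl (i, false))) * w (σ (.inl (i, true))) * p.2 ^ 2 = z := fun i => by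
      obtain ⟨u, v, huv⟩ := CfsgLib.QuadFin.exists_eq_one h2 z⁻¹
        (w (σ (.inl (i, false))) * w (σ (.inl (i, true))) * z⁻¹) (inv_ne_zero hz)
        (mul_ne_zero (mul_ne_zero (hdz _ _) (hdz _ _)) (inv_ne_zero hz))
      field_simp at huv
      refine ⟨(u, v), fun hv => hsq ⟨u, ?_⟩, by linear_combination huv⟩
      simp only at hv
      rw [hv] at huv
      linear_combination -huv
    choose p hp0 hp using huw
    let fam : (Fin s × Bool) ⊕ Fin 0 → (Fin n → F) := fun k => k.elim
      (fun k => cond k.2 ((w (σ (.inl (k.1, false))) * (p k.1).2)⁻¹ •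
        (b (.inl (k.1, true)) - (p k.1).1 • b (.inl (k.1, false)))) (b (.inl (k.1, false)))) fun j => j.elim0
    have hspan : ⊤ ≤ Submodule.span F (Set.range fam) := by
      rw [← b.span_eq, Submodule.span_le]
      rintro _ ⟨⟨i, ε⟩ | j, rfl⟩
      · cases ε
        · exact Submodule.subset_span ⟨.inl (i, false), rfl⟩
        · have e : b (.inl (i, true)) = (w (σ (.inl (i, false))) * (p i).2) • fam (.inl (i, true)) +
              (p i).1 • fam (.inl (i, false)) := by
            simp only [fam, Sum.elim_inl, cond_true, cond_false]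
            rw [smul_smul, mul_inv_cancel₀ (mul_ne_zero (hdz _ _) (hp0 i)), one_smul, sub_add_cancel]
          rw [SetLike.mem_coe, e]
          exact Submodule.add_mem _ (Submodule.smul_mem _ _ (Submodule.subset_span ⟨_, rfl⟩))
            (Submodule.smul_mem _ _ (Submodule.subset_span ⟨_, rfl⟩))
      · exact j.elim0
    have hc' : Fintype.card ((Fin s × Bool) ⊕ Fin 0) = Module.finrank F (Fin n → F) := by
      rw [hcard, Fintype.card_fin, Module.finrank_fin_fun]
    let b' := (basisOfTopLeSpanOfCardEqFinrank fam hspan hc').reindex σ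
    have hb' : ∀ k, b' (σ k) = fam k := fun k => by simp [b']
    let L := b'.equivFun.symm.trans (LinearEquiv.refl F _)
    let g : (Fin n → F) ≃ₗ[F] (Fin n → F) := E.symm.trans L
    let X : Matrix.SpecialLinearGroup (Fin n) F :=
      ⟨(x : Matrix (Fin n) (Fin n) F), congrArg Units.val (MonoidHom.mem_ker.1 hx)⟩
    obtain ⟨P, hP⟩ := CfsgLib.ConjTools.exists_sl_conj X g hD
    refine ⟨Matrix.SpecialLinearGroup.toGL P, MonoidHom.mem_ker.2 (Units.ext P.2),
      mem_similitude.2 ⟨Units.mk0 z hz, fun v => ?_⟩⟩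
    have e0 : (((Matrix.SpecialLinearGroup.toGL P)⁻¹ * x * Matrix.SpecialLinearGroup.toGL P : GL (Fin n) F) :
        Matrix (Fin n) (Fin n) F) *ᵥ v = g.symm ((x : Matrix (Fin n) (Fin n) F) *ᵥ g v) := by
      rw [show x = Matrix.SpecialLinearGroup.toGL X from Units.ext rfl, ← map_inv, ← map_mul, ← map_mul]
      exact hP v
    rw [e0]
    show Q (g.symm (T (g v))) = z * Q v
    obtain ⟨a, rfl⟩ : ∃ a, v = E a := ⟨E.symm v, (E.apply_symm_apply v).symm⟩
    have hga : g (E a) = ∑ k, a (σ k) • fam k := by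
      simp only [g, L, LinearEquiv.trans_apply, LinearEquiv.symm_apply_apply, LinearEquiv.refl_apply,
        Module.Basis.equivFun_symm_apply]
      rw [← Equiv.sum_comp σ]
      exact Finset.sum_congr rfl fun k _ => by rw [hb']
    let U : (Fin s × Bool) ⊕ Fin 0 → F := fun k => k.elim (fun k => cond k.2
      (w (σ (.inl (k.1, false))) * (p k.1).2 * a (σ (.inl (k.1, false))) - (p k.1).1 * a (σ (.inl (k.1, true))))
      ((p k.1).1 * a (σ (.inl (k.1, false))) + w (σ (.inl (k.1, true))) * (p k.1).2 * a (σ (.inl (k.1, true)))))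
      fun j => j.elim0
    have hT1 : T (g (E a)) = g (E fun i => U (σ.symm i)) := by
      rw [hga, show g (E fun i => U (σ.symm i)) = ∑ k, U k • fam k from by
        simp only [g, L, LinearEquiv.trans_apply, LinearEquiv.symm_apply_apply, LinearEquiv.refl_apply,
          Module.Basis.equivFun_symm_apply]
        rw [← Equiv.sum_comp σ]
        exact Finset.sum_congr rfl fun k _ => by rw [hb', Equiv.symm_apply_apply],
        map_sum, Fintype.sum_sum_type, Fintype.sum_sum_type, Fintype.sum_prod_type, Fintype.sum_prod_type]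
      simp only [Finset.univ_eq_empty, Finset.sum_empty, add_zero]
      refine Finset.sum_congr rfl fun i _ => ?_
      simp only [Fintype.sum_bool, map_smul, fam, U, Sum.elim_inl, cond_true, cond_false, map_sub, h1, h1']
      have hz' := hp i
      have h0 := hdz i false
      have h0' := hp0 i
      set d0 := w (σ (.inl (i, false)))
      set d1 := w (σ (.inl (i, true)))
      set u := (p i).1
      set v := (p i).2
      set a0 := a (σ (.inl (i, false)))
      set a1 := a (σ (.inl (i, true)))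
      match_scalars <;> field_simp <;> first | linear_combination a1 * hz' | linear_combination -a1 * hz' | ring
    rw [hT1, g.symm_apply_apply, hE, hE, Finset.mul_sum]
    rw [← Equiv.sum_comp σ, ← Equiv.sum_comp σ (fun i => z * (w i * a i ^ 2)), Fintype.sum_sum_type,
      Fintype.sum_sum_type, Fintype.sum_prod_type, Fintype.sum_prod_type]
    simp only [Finset.univ_eq_empty, Finset.sum_empty, add_zero, Equiv.symm_apply_apply]
    refine Finset.sum_congr rfl fun i _ => ?_
    simp only [Fintype.sum_bool, U, Sum.elim_inl, cond_true, cond_false]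
    linear_combination (w (σ (.inl (i, false))) * a (σ (.inl (i, false))) ^ 2 +
      w (σ (.inl (i, true))) * a (σ (.inl (i, true))) ^ 2) * hp i

end Two

section Small

variable {r : ℕ} [hr : Fact r.Prime]

/-- In odd dimension a symmetrical multiset of roots of unity is realised by a similitude. -/
theorem exists_sl_symmetric (h2 : (2 : F) ≠ 0) (hQ : Q.polarBilin.Nondegenerate) (hnodd : Odd n) {ζ : F}
    (hζ : IsPrimitiveRoot ζ r) (x g : GL (Fin n) F) (e : Fin n → ZMod r)
    (hxg : (x : Matrix (Fin n) (Fin n) F) * (g : Matrix (Fin n) (Fin n) F) =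
      (g : Matrix (Fin n) (Fin n) F) * Matrix.diagonal fun i => rootChar hζ (e i))
    {t : ZMod r} {σ : Fin n → Fin n} (hσ : Function.Involutive σ) (hσe : ∀ i, e i + e (σ i) = t) :
    ∃ k ∈ Cfsg.Geo.specialLinear (Fin n) F, k⁻¹ * x * k ∈ Cfsg.Geo.quadSimilarityGroup (⇑Q) := by
  classical
  obtain ⟨k, hk⟩ := hnodd
  have : Nonempty (Fin n) := ⟨⟨0, by omega⟩⟩
  let d : Fin n → F := fun i => rootChar hζ (e i)
  have hd0 : ∀ i, d i ≠ 0 := fun i h0 => by
    have := rootChar_pow_self hζ (e i)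
    rw [show rootChar hζ (e i) = 0 from h0, zero_pow hr.out.ne_zero] at this
    exact zero_ne_one this
  let D : GL (Fin n) F := Matrix.GeneralLinearGroup.mkOfDetNeZero (Matrix.diagonal d) (by
    rw [Matrix.det_diagonal]; exact Finset.prod_ne_zero_iff.2 fun i _ => hd0 i)
  let Q' : QuadraticForm F (Fin n → F) := ∑ i, QuadraticMap.proj (R := F) (n := Fin n) (A := F) i (σ i)
  have hQ' : ∀ v, Q' v = ∑ i, v i * v (σ i) := fun v => by simp [Q', QuadraticMap.sum_apply]
  have hpol : ∀ u v, polar Q' u v = 2 * ∑ i, u i * v (σ i) := fun u v => by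
    simp only [polar, hQ', Pi.add_apply, ← Finset.sum_sub_distrib]
    have : ∑ i, v i * u (σ i) = ∑ i, u i * v (σ i) := by
      refine Fintype.sum_equiv hσ.toPerm _ _ fun i => ?_
      simp only [Function.Involutive.coe_toPerm, hσ i]
      ring
    rw [two_mul]
    nth_rw 1 [← this]
    rw [← Finset.sum_add_distrib]
    exact Finset.sum_congr rfl fun i _ => by ring
  have hnd : ∀ u, (∀ v, polar Q' u v = 0) → u = 0 := fun u hu => funext fun i => by
    have h := hu (Pi.single (σ i) 1)
    rw [hpol, Finset.sum_eq_single i (fun j _ hj => by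
      rw [Pi.single_eq_of_ne (fun he => hj (hσ.injective he)), mul_zero]) (by simp), Pi.single_eq_same, mul_one] at h
    exact (mul_eq_zero.1 h).resolve_left h2
  have hQ'n : Q'.polarBilin.Nondegenerate :=
    ⟨fun u hu => hnd u hu, fun v hv => hnd v fun u => by rw [QuadraticMap.polar_comm]; exact hv u⟩
  obtain ⟨-, s, hs, hse⟩ := OrthFix.qEquiv_odd Q hQ (k := k) (by rw [Fintype.card_fin]; omega)
  obtain ⟨-, s', hs', hse'⟩ := OrthFix.qEquiv_odd Q' hQ'n (k := k) (by rw [Fintype.card_fin]; omega)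
  obtain ⟨e₁, he₁⟩ := hse
  obtain ⟨e₂, he₂⟩ := hse'
  let E := e₂.symm.trans e₁
  have hEQ : ∀ v, Q (E v) = s / s' * Q' v := fun v => by
    obtain ⟨a, rfl⟩ := e₂.surjective v
    simp only [E, LinearEquiv.trans_apply, LinearEquiv.symm_apply_apply]
    rw [he₁, he₂]
    field_simp
  obtain ⟨E', hE'⟩ := exists_GL_equiv E
  refine FormTests.exists_sl_of_diag _ x g E' D d rfl (Units.ext hxg)
    (mem_conj E hE' (c := rootChar hζ t) ?_ fun v => ?_)
  · intro h0
    have := rootChar_pow_self hζ t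
    rw [h0, zero_pow hr.out.ne_zero] at this
    exact zero_ne_one this
  · show Q (E (Matrix.diagonal d *ᵥ v)) = _
    rw [hEQ, hEQ, hQ', hQ', mul_left_comm _ (s / s'), Finset.mul_sum (a := rootChar hζ t)]
    congr 1
    refine Finset.sum_congr rfl fun i _ => ?_
    rw [Matrix.mulVec_diagonal, Matrix.mulVec_diagonal, ← hσe i, AddChar.map_add_eq_mul]
    ring

/-- For `n = r` with `(q - 1)_r = r` an element with scalar `r`-th power has `r`-th power one. -/
theorem pow_eq_one_of_val_one {q : ℕ} (hq : Fintype.card F = q) (hrodd : Odd r)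
    (hv : padicValNat r (q - 1) = 1) (x : GL (Fin r) F) (hdet : (x : Matrix (Fin r) (Fin r) F).det = 1) {z : F}
    (hxz : (x : Matrix (Fin r) (Fin r) F) ^ r = z • 1) : (x : Matrix (Fin r) (Fin r) F) ^ r = 1 := by
  classical
  have hzn : z ^ r = 1 := by
    have h := congrArg Matrix.det hxz
    rw [Matrix.det_pow, hdet, one_pow, Matrix.det_smul, Matrix.det_one, mul_one, Fintype.card_fin] at h
    exact h.symm
  by_contra hne
  have hz1 : z ≠ 1 := fun h => hne (by rw [hxz, h, one_smul])
  have hz0 : z ≠ 0 := fun h => by rw [h, zero_pow hr.out.ne_zero] at hzn; exact zero_ne_one hzn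
  have hq1 : q - 1 ≠ 0 := fun h => by simp [h] at hv
  have hnr : ∀ b : F, b ^ r ≠ z := fun b hb => by
    have hb0 : b ≠ 0 := fun h => hz0 (by rw [← hb, h, zero_pow hr.out.ne_zero])
    have h2 : b ^ r ^ 2 = 1 := by rw [pow_two, pow_mul, hb, hzn]
    have hbq : b ^ (q - 1) = 1 := hq ▸ FiniteField.pow_card_sub_one_eq_one _ hb0
    obtain ⟨m, hm, hord⟩ := (Nat.dvd_prime_pow hr.out).1 (orderOf_dvd_of_pow_eq_one h2)
    have hm1 : m ≤ 1 := by
      have := (padicValNat_dvd_iff_le hq1).1 (hord ▸ orderOf_dvd_of_pow_eq_one hbq)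
      omega
    refine hz1 (hb ▸ orderOf_dvd_iff_pow_eq_one.1 ?_)
    rw [hord]
    exact (pow_dvd_pow r hm1).trans (by rw [pow_one])
  have hirr : Irreducible (Polynomial.X ^ r - Polynomial.C z) := X_pow_sub_C_irreducible_of_prime hr.out hnr
  have hmon : (Polynomial.X ^ r - Polynomial.C z).Monic := Polynomial.monic_X_pow_sub_C z hr.out.ne_zero
  have haev : Polynomial.aeval (x : Matrix (Fin r) (Fin r) F) (Polynomial.X ^ r - Polynomial.C z) = 0 := by
    rw [map_sub, map_pow, Polynomial.aeval_X, Polynomial.aeval_C, Algebra.algebraMap_eq_smul_one, hxz, sub_self]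
  have : Nonempty (Fin r) := ⟨⟨0, hr.out.pos⟩⟩
  have hmin := minpoly.eq_of_irreducible_of_monic hirr haev hmon
  have hchar : (x : Matrix (Fin r) (Fin r) F).charpoly = Polynomial.X ^ r - Polynomial.C z := by
    refine Polynomial.eq_of_monic_of_dvd_of_natDegree_le hmon (Matrix.charpoly_monic _) ?_ ?_
    · rw [hmin]; exact Matrix.minpoly_dvd_charpoly _
    · rw [Matrix.charpoly_natDegree_eq_dim, Fintype.card_fin, Polynomial.natDegree_X_pow_sub_C]
  have h := Matrix.det_eq_sign_charpoly_coeff (x : Matrix (Fin r) (Fin r) F)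
  rw [hchar, hdet, Fintype.card_fin, hrodd.neg_one_pow] at h
  simp [Polynomial.coeff_X_pow, hr.out.ne_zero.symm] at h
  exact hz1 h.symm

end Small

end CfsgLib.PrimeElusive.OrthSimilitude
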