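import Cfsg.Agent.Lib.PrimeElusive.Master
import Cfsg.Agent.Lib.PrimeElusive.Orbit

/-!
Invariant subspaces, complementary pairs and flags of elements of prime order.
-/

set_option autoImplicit false

namespace CfsgLib.PrimeElusive

open Module

variable {F V : Type*} [Field F] [AddCommGroup V] [Module F V]

def HasSub (m : ℕ) (T : Module.End F V) : Prop :=
  ∃ W : Submodule F V, finrank F ↥W = m ∧ W.map T ≤ W

def HasPair (m : ℕ) (T : Module.End F V) : Prop :=
  ∃ U W : Submodule F V, IsCompl U W ∧ finrank F ↥U = m ∧ U.map T ≤ U ∧ W.map T ≤ W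

def HasFlag (m d : ℕ) (T : Module.End F V) : Prop :=
  ∃ U W : Submodule F V, U ≤ W ∧ finrank F ↥U = m ∧ finrank F ↥W = d ∧ U.map T ≤ U ∧ W.map T ≤ W

theorem map_smul_le {T : Module.End F V} {U : Submodule F V} (h : U.map T ≤ U) (d : F) : U.map (d • T) ≤ U := by
  rintro _ ⟨v, hv, rfl⟩
  exact U.smul_mem d (h (Submodule.mem_map_of_mem hv))

theorem HasSub.smul {m : ℕ} {T : Module.End F V} (h : HasSub m T) (d : F) : HasSub m (d • T) := by
  obtain ⟨W, h1, h2⟩ := h
  exact ⟨W, h1, map_smul_le h2 d⟩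

theorem HasPair.smul {m : ℕ} {T : Module.End F V} (h : HasPair m T) (d : F) : HasPair m (d • T) := by
  obtain ⟨U, W, h1, h2, h3, h4⟩ := h
  exact ⟨U, W, h1, h2, map_smul_le h3 d, map_smul_le h4 d⟩

theorem HasFlag.smul {m k : ℕ} {T : Module.End F V} (h : HasFlag m k T) (d : F) : HasFlag m k (d • T) := by
  obtain ⟨U, W, h1, h2, h3, h4, h5⟩ := h
  exact ⟨U, W, h1, h2, h3, map_smul_le h4 d, map_smul_le h5 d⟩

theorem map_one_le (U : Submodule F V) : U.map (1 : Module.End F V) ≤ U := (Submodule.map_id U).le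

theorem hasPair_one [FiniteDimensional F V] {m : ℕ} (hm : m ≤ finrank F V) : HasPair m (1 : Module.End F V) := by
  obtain ⟨U, -, -, hU⟩ := exists_subspace_between (bot_le : (⊥ : Submodule F V) ≤ ⊤) (d := m) (by simp) (by simpa using hm)
  obtain ⟨W, hW⟩ := U.exists_isCompl
  exact ⟨U, W, hW, hU, map_one_le U, map_one_le W⟩

theorem hasFlag_one [FiniteDimensional F V] {m d : ℕ} (hmd : m ≤ d) (hd : d ≤ finrank F V) :
    HasFlag m d (1 : Module.End F V) := by
  obtain ⟨W, -, -, hW⟩ := exists_subspace_between (bot_le : (⊥ : Submodule F V) ≤ ⊤) (d := d) (by simp) (by simpa using hd)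
  obtain ⟨U, -, hUW, hU⟩ := exists_subspace_between (bot_le : (⊥ : Submodule F V) ≤ W) (d := m) (by simp) (by omega)
  exact ⟨U, W, hUW, hU, hW, map_one_le U, map_one_le W⟩

theorem hasPair_piece {ι L : Type*} [Finite ι] (B : Basis ι F V) (β : ι → L) {T : Module.End F V}
    (hT : ∀ i, T (B i) ∈ Submodule.span F (B '' {l | β l = β i})) (S : Set L) {m : ℕ}
    (hm : Nat.card ↥(β ⁻¹' S) = m) : HasPair m T :=
  ⟨Submodule.span F (B '' (β ⁻¹' S)), Submodule.span F (B '' (β ⁻¹' Sᶜ)),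
    by rw [Set.preimage_compl]; exact isCompl_span_piece B _,
    (finrank_span_piece B _).trans hm, span_piece_inv B β hT S, span_piece_inv B β hT Sᶜ⟩

theorem hasFlag_piece {ι L : Type*} [Finite ι] (B : Basis ι F V) (β : ι → L) {T : Module.End F V}
    (hT : ∀ i, T (B i) ∈ Submodule.span F (B '' {l | β l = β i})) {S S' : Set L} (hS : S ⊆ S') {m d : ℕ}
    (hm : Nat.card ↥(β ⁻¹' S) = m) (hd : Nat.card ↥(β ⁻¹' S') = d) : HasFlag m d T :=
  ⟨Submodule.span F (B '' (β ⁻¹' S)), Submodule.span F (B '' (β ⁻¹' S')),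
    Submodule.span_mono (Set.image_mono (Set.preimage_mono hS)),
    (finrank_span_piece B _).trans hm, (finrank_span_piece B _).trans hd,
    span_piece_inv B β hT S, span_piece_inv B β hT S'⟩

theorem two_mul_mod_le {u w n m d i : ℕ} (hi : 0 < i) (huw : u ≤ w) (hwn : w ≤ n % i) (h1 : m % i = u % i)
    (h2 : d % i = w % i) (hsum : m + d = n) : 2 * (m % i) ≤ n % i := by
  have hn := Nat.mod_lt n hi
  rw [Nat.mod_eq_of_lt (show u < i by omega)] at h1
  rw [Nat.mod_eq_of_lt (show w < i by omega)] at h2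
  have h3 := Nat.add_mod m d i
  rw [hsum, h1, h2] at h3
  rcases Nat.lt_or_ge (u + w) i with hlt | hge
  · rw [Nat.mod_eq_of_lt hlt] at h3
    omega
  · rw [Nat.mod_eq_sub_mod hge, Nat.mod_eq_of_lt (show u + w - i < i by omega)] at h3
    omega

theorem card_preimage_fst {k r b : ℕ} (hb : b ≤ k) :
    Nat.card ↥((Prod.fst : Fin k × Fin r → Fin k) ⁻¹' {i : Fin k | (i : ℕ) < b}) = b * r := by
  have he : ↥((Prod.fst : Fin k × Fin r → Fin k) ⁻¹' {i : Fin k | (i : ℕ) < b}) ≃ Fin b × Fin r :=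
    { toFun := fun x => (⟨x.1.1, x.2⟩, x.1.2)
      invFun := fun x => ⟨(⟨x.1, by omega⟩, x.2), x.1.2⟩
      left_inv := fun x => rfl
      right_inv := fun x => rfl }
  rw [Nat.card_congr he]
  simp

theorem exists_decomp {m n e c k : ℕ} (hn : e * c + k = n) (hm : m ≤ n) (hmod : m % c ≤ n % c) :
    ∃ b a, b ≤ e ∧ a ≤ k ∧ m = b * c + a := by
  have h1 := Nat.div_add_mod m c
  rw [mul_comm] at h1
  have hk : n % c ≤ k := by rw [← hn, Nat.mul_add_mod_self_right]; exact Nat.mod_le _ _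
  rcases Nat.le_total (m / c) e with hle | hle
  · exact ⟨m / c, m % c, hle, hmod.trans hk, h1.symm⟩
  · have := Nat.mul_le_mul_right c hle
    exact ⟨e, m - e * c, le_rfl, by omega, by omega⟩

theorem exists_decomp_two {m n e c k : ℕ} (hn : e * c + k = n) (hm : 2 * m ≤ n) (hmod : 2 * (m % c) ≤ n % c) :
    ∃ b a b' a', b + b' ≤ e ∧ a + a' ≤ k ∧ m = b * c + a ∧ m = b' * c + a' := by
  have h1 := Nat.div_add_mod m c
  rw [mul_comm] at h1
  have hk : n % c ≤ k := by rw [← hn, Nat.mul_add_mod_self_right]; exact Nat.mod_le _ _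
  rcases Nat.le_total (2 * (m / c)) e with hle | hle
  · exact ⟨m / c, m % c, m / c, m % c, by omega, by omega, h1.symm, h1.symm⟩
  · rcases Nat.le_total (m / c) e with hle' | hle'
    · have h2 := Nat.mul_le_mul_right c (show e - m / c ≤ m / c by omega)
      have h3 : (m / c) * c + (e - m / c) * c = e * c := by rw [← Nat.add_mul, Nat.add_sub_cancel' hle']
      exact ⟨m / c, m % c, e - m / c, m - (e - m / c) * c, by omega, by omega, h1.symm, by omega⟩
    · have h2 := Nat.mul_le_mul_right c hle'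
      exact ⟨e, m - e * c, 0, m, by omega, by omega, by omega, by simp⟩

def pieceSet {e c k : ℕ} (S : Set (Fin e)) (R : Set (Fin k)) : Set ((Fin e × Fin c) ⊕ Fin k) :=
  (Sum.map Prod.fst id) ⁻¹' (Sum.inl '' S ∪ Sum.inr '' R)

theorem card_pieceSet {e c k b a : ℕ} (hb : b ≤ e) (ha : a ≤ k) :
    Nat.card ↥(pieceSet (c := c) {i : Fin e | (i : ℕ) < b} {l : Fin k | (l : ℕ) < a}) = b * c + a := by
  have he : ↥(pieceSet (c := c) {i : Fin e | (i : ℕ) < b} {l : Fin k | (l : ℕ) < a}) ≃ (Fin b × Fin c) ⊕ Fin a :=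
    { toFun := fun x => match x with
        | ⟨.inl (i, j), h⟩ => .inl (⟨i, by simpa [pieceSet] using h⟩, j)
        | ⟨.inr l, h⟩ => .inr ⟨l, by simpa [pieceSet] using h⟩
      invFun := fun x => match x with
        | .inl (i, j) => ⟨.inl (⟨i, by omega⟩, j), by simp [pieceSet, i.2]⟩
        | .inr l => ⟨.inr ⟨l, by omega⟩, by simp [pieceSet, l.2]⟩
      left_inv := fun x => by rcases x with ⟨⟨i, j⟩ | l, h⟩ <;> rfl
      right_inv := fun x => by rcases x with ⟨i, j⟩ | l <;> rfl }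
  rw [Nat.card_congr he]
  simp

section Split

variable [Fintype F] [FiniteDimensional F V]

theorem exists_piece_basis {r q : ℕ} [Fact r.Prime] (hq : Fintype.card F = q) (hi : 0 < orderOf (q : ZMod r))
    (hr0 : (r : F) ≠ 0) {T : Module.End F V} (hT : T ^ r = 1) :
    ∃ (e k : ℕ) (B : Basis ((Fin e × Fin (orderOf (q : ZMod r))) ⊕ Fin k) F V),
      e * orderOf (q : ZMod r) + k = finrank F V ∧
      ∀ i, T (B i) ∈ Submodule.span F (B '' {l | Sum.map Prod.fst id l = Sum.map Prod.fst id i}) := by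
  obtain ⟨e, k, B, v, g, -, hfix, -, hpiece, -, -, -⟩ := CfsgLib.SemiR.exists_cyclic_basis hq rfl hi hr0 T hT
  refine ⟨e, k, B, ?_, ?_⟩
  · rw [Module.finrank_eq_card_basis B]; simp
  rintro (⟨i, j⟩ | l)
  · refine Submodule.span_mono ?_ (hpiece i j)
    rintro _ ⟨j', rfl⟩
    exact ⟨.inl (i, j'), rfl, rfl⟩
  · rw [hfix]
    exact Submodule.subset_span ⟨.inr l, rfl, rfl⟩

theorem hasPair_split {r q m : ℕ} [Fact r.Prime] (hq : Fintype.card F = q) (hi : 0 < orderOf (q : ZMod r))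
    (hr0 : (r : F) ≠ 0) (hm : m ≤ finrank F V)
    (hmod : m % orderOf (q : ZMod r) ≤ finrank F V % orderOf (q : ZMod r)) {T : Module.End F V} (hT : T ^ r = 1) :
    HasPair m T := by
  obtain ⟨e, k, B, hn, hB⟩ := exists_piece_basis hq hi hr0 hT
  obtain ⟨b, a, hb, ha, rfl⟩ := exists_decomp hn hm hmod
  exact hasPair_piece B _ hB (Sum.inl '' {i : Fin e | (i : ℕ) < b} ∪ Sum.inr '' {l : Fin k | (l : ℕ) < a})
    (card_pieceSet hb ha)

theorem hasFlag_split {r q m : ℕ} [Fact r.Prime] (hq : Fintype.card F = q) (hi : 0 < orderOf (q : ZMod r))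
    (hr0 : (r : F) ≠ 0) (hm : 2 * m ≤ finrank F V)
    (hmod : 2 * (m % orderOf (q : ZMod r)) ≤ finrank F V % orderOf (q : ZMod r)) {T : Module.End F V} (hT : T ^ r = 1) :
    HasFlag m (finrank F V - m) T := by
  obtain ⟨e, k, B, hn, hB⟩ := exists_piece_basis hq hi hr0 hT
  obtain ⟨b, a, b', a', hb, ha, h1, h2⟩ := exists_decomp_two hn hm hmod
  refine hasFlag_piece B _ hB
    (S := Sum.inl '' {i : Fin e | (i : ℕ) < b} ∪ Sum.inr '' {l : Fin k | (l : ℕ) < a})
    (S' := Sum.inl '' {i : Fin e | (i : ℕ) < e - b'} ∪ Sum.inr '' {l : Fin k | (l : ℕ) < k - a'})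
    (Set.union_subset_union (Set.image_mono fun i (hib : (i : ℕ) < b) => show (i : ℕ) < e - b' by omega)
      (Set.image_mono fun l (hla : (l : ℕ) < a) => show (l : ℕ) < k - a' by omega))
    ((card_pieceSet (by omega) (by omega)).trans h1.symm) ((card_pieceSet (by omega) (by omega)).trans ?_)
  rw [← hn, Nat.sub_mul]
  have := Nat.mul_le_mul_right (orderOf (q : ZMod r)) (show b' ≤ e by omega)
  omega

theorem mod_eq_fix {r q : ℕ} [Fact r.Prime] (hq : Fintype.card F = q) (hr0 : (r : F) ≠ 0)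
    {T : Module.End F V} (hT : T ^ r = 1) {U : Submodule F V} (hU : U.map T ≤ U) :
    finrank F ↥U % orderOf (q : ZMod r) = finrank F ↥(U ⊓ LinearMap.ker (T - 1)) % orderOf (q : ZMod r) := by
  have hle : U.map (T - 1) ≤ U := by
    rintro _ ⟨v, hv, rfl⟩
    exact U.sub_mem (hU (Submodule.mem_map_of_mem hv)) hv
  have h := LinearMap.finrank_range_add_finrank_ker ((T - 1).domRestrict U)
  have e : finrank F ↥(LinearMap.ker ((T - 1).domRestrict U)) = finrank F ↥(U ⊓ LinearMap.ker (T - 1)) := by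
    have : LinearMap.ker ((T - 1).domRestrict U) = (LinearMap.ker (T - 1)).comap U.subtype := by ext; simp
    rw [this, ← Submodule.finrank_map_subtype_eq, Submodule.map_comap_subtype]
  rw [LinearMap.range_domRestrict, e] at h
  obtain ⟨t, ht⟩ : orderOf (q : ZMod r) ∣ finrank F ↥(U.map (T - 1)) := by
    refine CfsgLib.OrderR.orderOf_dvd_finrank T hq hT _ ?_ ?_
    · rintro _ ⟨_, ⟨v, hv, rfl⟩, rfl⟩
      exact ⟨T v, hU (Submodule.mem_map_of_mem hv), by simp [LinearMap.sub_apply]⟩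
    · rintro _ ⟨v, hv, rfl⟩ hfix
      exact Submodule.disjoint_def.1 (CfsgLib.OrderR.disjoint_fix_move T hT hr0) _
        (LinearMap.mem_ker.2 (by rw [LinearMap.sub_apply, hfix, Module.End.one_apply, sub_self]))
        (LinearMap.mem_range_self _ v)
  rw [← h, ht, Nat.mul_add_mod_self_left]

theorem num_of_hasSub {r q m : ℕ} [Fact r.Prime] (hq : Fintype.card F = q) (hr0 : (r : F) ≠ 0)
    {T : Module.End F V} (hT : T ^ r = 1)
    (hker : finrank F ↥(LinearMap.ker (T - 1)) = finrank F V % orderOf (q : ZMod r)) (h : HasSub m T) :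
    m % orderOf (q : ZMod r) ≤ finrank F V % orderOf (q : ZMod r) := by
  obtain ⟨W, rfl, hW⟩ := h
  rw [mod_eq_fix hq hr0 hT hW, ← hker]
  exact (Nat.mod_le _ _).trans (Submodule.finrank_mono inf_le_right)

theorem num_of_hasFlag {r q m : ℕ} [Fact r.Prime] (hq : Fintype.card F = q) (hr0 : (r : F) ≠ 0)
    (hi : 0 < orderOf (q : ZMod r)) (hm : 2 * m ≤ finrank F V) {T : Module.End F V} (hT : T ^ r = 1)
    (hker : finrank F ↥(LinearMap.ker (T - 1)) = finrank F V % orderOf (q : ZMod r))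
    (h : HasFlag m (finrank F V - m) T) :
    2 * (m % orderOf (q : ZMod r)) ≤ finrank F V % orderOf (q : ZMod r) := by
  obtain ⟨U, W, hUW, hd, hD, hU, hW⟩ := h
  refine two_mul_mod_le (d := finrank F V - m) hi (Submodule.finrank_mono (inf_le_inf_right _ hUW))
    (hker ▸ Submodule.finrank_mono inf_le_right) ?_ ?_ (by omega)
  · rw [← hd]; exact mod_eq_fix hq hr0 hT hU
  · rw [← hD]; exact mod_eq_fix hq hr0 hT hW

end Split

section RootFree

variable [FiniteDimensional F V]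

theorem hasPair_rootfree {r m : ℕ} (hr : r.Prime) {T : Module.End F V} {c : F} (hnp : ∀ b : F, b ^ r ≠ c)
    (hT : T ^ r = c • 1) (hm : m ≤ finrank F V) (hrm : r ∣ m) : HasPair m T := by
  obtain ⟨k, B, hB, -⟩ := exists_rootfree_basis hr hT hnp
  obtain ⟨b, rfl⟩ := hrm
  have hn := Module.finrank_eq_card_basis B
  simp only [Fintype.card_prod, Fintype.card_fin] at hn
  have hb : b ≤ k := Nat.le_of_mul_le_mul_right (by rw [mul_comm b r, ← hn]; exact hm) hr.pos
  exact hasPair_piece B Prod.fst hB {i : Fin k | (i : ℕ) < b} ((card_preimage_fst hb).trans (mul_comm b r))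

theorem hasFlag_rootfree {r m : ℕ} (hr : r.Prime) {T : Module.End F V} {c : F} (hnp : ∀ b : F, b ^ r ≠ c)
    (hT : T ^ r = c • 1) (hm : 2 * m ≤ finrank F V) (hrm : r ∣ m) : HasFlag m (finrank F V - m) T := by
  obtain ⟨k, B, hB, -⟩ := exists_rootfree_basis hr hT hnp
  obtain ⟨b, rfl⟩ := hrm
  have hn := Module.finrank_eq_card_basis B
  simp only [Fintype.card_prod, Fintype.card_fin] at hn
  have hb : 2 * b ≤ k :=
    Nat.le_of_mul_le_mul_right (by rw [mul_assoc, mul_comm b r, ← hn]; exact hm) hr.pos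
  refine hasFlag_piece B Prod.fst hB (S := {i : Fin k | (i : ℕ) < b}) (S' := {i : Fin k | (i : ℕ) < k - b})
    (fun i (hib : (i : ℕ) < b) => show (i : ℕ) < k - b by omega)
    ((card_preimage_fst (by omega)).trans (mul_comm b r)) ((card_preimage_fst (by omega)).trans ?_)
  rw [hn, Nat.sub_mul, mul_comm b r]

end RootFree

end CfsgLib.PrimeElusive
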