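import Cfsg.Agent.Lib.PrimeClasses.Realise
import Cfsg.Agent.Lib.PrimeClasses.SplitRoots
import Cfsg.Agent.Lib.PrimeElusive.FormTests
import Cfsg.Agent.Lib.Maximal99.Subfield
import Cfsg.Agent.Classical.SLBasic

/-!
Elements of order `r` and subfield groups: similarity to a matrix over the subfield is invariance of the
multiplicities under the Frobenius of the subfield, and the index of the subfield group.
-/

set_option autoImplicit false
set_option linter.unusedSectionVars false

namespace CfsgLib.PrimeElusive.SubfieldType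

open Matrix Finset CfsgLib.PrimeClasses

variable {F : Type*} [Field F] [Fintype F] {r : ℕ} [hr : Fact r.Prime]

/-- The elements of a quotient by a cyclic group, summed over the group. -/
theorem sum_mk {G : Type*} [CommGroup G] [Fintype G] (H : Subgroup G) [Fintype (G ⧸ H)] (c : G ⧸ H → ℕ) :
    ∑ v : G, c (QuotientGroup.mk v) = Nat.card H * ∑ ω, c ω := by
  classical
  rw [← Finset.sum_fiberwise Finset.univ (fun v : G => (QuotientGroup.mk v : G ⧸ H)), Finset.mul_sum]
  refine Finset.sum_congr rfl fun ω _ => ?_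
  rw [Finset.sum_congr rfl (fun v hv => by rw [(Finset.mem_filter.1 hv).2]), Finset.sum_const, smul_eq_mul]
  congr 1
  rw [← Fintype.card_subtype, ← Nat.card_eq_fintype_card]
  obtain ⟨g, rfl⟩ := QuotientGroup.mk_surjective ω
  refine Nat.card_congr
    { toFun := fun v => ⟨g⁻¹ * v.1, QuotientGroup.eq.1 v.2.symm⟩
      invFun := fun h => ⟨g * h, by
        rw [QuotientGroup.eq, _root_.mul_inv_rev, mul_assoc, inv_mul_cancel, mul_one]
        exact inv_mem h.2⟩
      left_inv := fun v => Subtype.ext (mul_inv_cancel_left _ _)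
      right_inv := fun h => Subtype.ext (inv_mul_cancel_left _ _) }

section Similar

variable {L : Type*} [Field L] [Algebra F L] {ζ : L} (hζ : IsPrimitiveRoot ζ r)
variable {ι : Type*} [Fintype ι] [DecidableEq ι]

/-- Similar matrices have the same multiplicities. -/
theorem mult_up_congr {y Y : Matrix ι ι F} (g : GL ι F)
    (hg : (g : Matrix ι ι F) * y = Y * (g : Matrix ι ι F)) (u : ZMod r) :
    mult hζ (up Y) u = mult hζ (up y) u := by
  let g' : GL ι L := Units.map (algebraMap F L).mapMatrix.toMonoidHom g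
  have h : Y = (g : Matrix ι ι F) * y * ((g⁻¹ : GL ι F) : Matrix ι ι F) := by
    rw [hg, mul_assoc, Units.mul_inv, mul_one]
  have h1 : up (L := L) Y = (g' : Matrix ι ι L) * up y * (↑g'⁻¹ : Matrix ι ι L) := by
    conv_lhs => rw [h, up, Matrix.map_mul, Matrix.map_mul]
    rfl
  rw [h1, mult_conj]

/-- Multiplicities of a matrix over a subfield are invariant under its Frobenius. -/
theorem mult_subfield (F₀ : Subfield F) (X : Matrix ι ι F₀) (u : ZMod r) :
    mult hζ (up (X.map F₀.subtype)) ((Nat.card F₀ : ZMod r) * u) = mult hζ (up (X.map F₀.subtype)) u := by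
  classical
  let : Algebra F₀ L := ((algebraMap F L).comp F₀.subtype).toAlgebra
  have := Fintype.ofFinite F₀
  have h : up (L := L) (X.map F₀.subtype) = up X := by ext a b; rfl
  rw [h, Nat.card_eq_fintype_card, ← pow_one (Fintype.card F₀), mult, eigProj_frob, rank_map_ringHom]
  rfl

/-- An element of order dividing `r` whose multiplicities are invariant under the Frobenius of `F₀` is similar to a
matrix over `F₀`. -/
theorem exists_subfield_conj (hgen : Algebra.adjoin F ({ζ} : Set L) = ⊤) (hrF : (r : F) ≠ 0) (F₀ : Subfield F)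
    {n : ℕ} {y : Matrix (Fin n) (Fin n) F} (hy : y ^ r = 1)
    (hinv : ∀ u, mult hζ (up y) ((Nat.card F₀ : ZMod r) * u) = mult hζ (up y) u) :
    ∃ (g : GL (Fin n) F) (X : Matrix (Fin n) (Fin n) F₀),
      (g : Matrix (Fin n) (Fin n) F) * y = X.map F₀.subtype * (g : Matrix (Fin n) (Fin n) F) := by
  classical
  let : Algebra F₀ L := ((algebraMap F L).comp F₀.subtype).toAlgebra
  have := Fintype.ofFinite F₀
  have hr0 : (r : F₀) ≠ 0 := fun h => hrF (by simpa using congrArg F₀.subtype h)
  have hpow : ∀ (j : ℕ) u, mult hζ (up y) ((Fintype.card F₀ : ZMod r) ^ j * u) = mult hζ (up y) u := by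
    intro j
    induction j with
    | zero => simp
    | succ j ih =>
      intro u
      rw [pow_succ, mul_assoc, ih, ← Nat.card_eq_fintype_card, hinv]
  let c : Orbits hr0 → ℕ := fun ω => mult hζ (up y) (ω.out : ZMod r)
  have hc : ∀ v : (ZMod r)ˣ, c (QuotientGroup.mk v) = mult hζ (up y) (v : ZMod r) := fun v => by
    obtain ⟨j, -, hj⟩ := exists_pow_mul_out hr0 v
    conv_rhs => rw [← hj, Units.val_mul, Units.val_pow_eq_pow_val, coe_qUnit, hpow]
  have hw : orderOf (Fintype.card F₀ : ZMod r) * ∑ ω, c ω ≤ n := by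
    rw [← coe_qUnit hr0, orderOf_units, ← Nat.card_zpowers, ← sum_mk]
    calc ∑ v : (ZMod r)ˣ, c (QuotientGroup.mk v)
        = ∑ u ∈ Finset.univ.map ⟨((↑) : (ZMod r)ˣ → ZMod r), fun _ _ h => Units.ext h⟩,
            mult hζ (up y) u := by
          rw [Finset.sum_map]; exact Finset.sum_congr rfl fun v _ => hc v
      _ ≤ ∑ u, mult hζ (up y) u := Finset.sum_le_sum_of_subset (Finset.subset_univ _)
      _ = n := by rw [sum_mult hζ (rootCast_ne_zero hrF) (up_pow hy), Fintype.card_fin]
  obtain ⟨X, hX, hXc⟩ := exists_GL_realise hζ hr0 c n hw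
  have hY : (X.map F₀.subtype) ^ r = 1 := by
    show (F₀.subtype.mapMatrix X) ^ r = 1
    rw [← map_pow, hX, map_one]
  obtain ⟨g, hg⟩ := exists_conj_of_orbitMult hζ hgen hrF hy hY (funext fun ω => by
    have h : up (L := L) (X.map F₀.subtype) = up X := by ext a b; rfl
    rw [orbitMult, orbitMult, h, mult_eq_orbitMult hζ hr0 X, hXc, hc])
  exact ⟨g, X, hg⟩

end Similar

/-- A non-trivial element of order `r` has centralising matrices of every determinant. -/
theorem exists_comm_det (hrF : (r : F) ≠ 0) {n : ℕ} {y : Matrix (Fin n) (Fin n) F} (hy : y ^ r = 1)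
    (hy1 : y ≠ 1) (a : F) :
    ∃ Z : Matrix (Fin n) (Fin n) F, Z * y = y * Z ∧ Z.det = a := by
  classical
  obtain ⟨ζ, hζ, hgen⟩ := exists_root (K := F) hrF
  set d := orderOf (Fintype.card F : ZMod r) with hd
  have hd0 : 0 < d := orbit_size_pos hrF
  have hwy := weight_orbitMult_le hζ hrF hy
  rw [Fintype.card_fin] at hwy
  obtain ⟨ω, hω⟩ : ∃ ω, orbitMult hζ hrF y ω ≠ 0 := by
    by_contra h
    push Not at h
    exact hy1 (eq_one_of_orbitMult hζ hrF hy (funext h))
  let c : Orbits hrF → ℕ := Function.update (orbitMult hζ hrF y) ω (orbitMult hζ hrF y ω - 1)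
  have hdec : orbitMult hζ hrF y = Pi.single ω 1 + c := funext fun η => by
    by_cases h : η = ω
    · subst h; simp [c]; omega
    · simp [c, h]
  have hsum : ∑ η, orbitMult hζ hrF y η = 1 + ∑ η, c η := by
    rw [hdec]; simp [Finset.sum_add_distrib]
  have hdn : d ≤ n ∧ d * ∑ η, c η ≤ n - d := by
    rw [hsum, Nat.mul_add, mul_one, ← hd] at hwy
    omega
  -- a field of degree `d`
  obtain ⟨p, hp⟩ := CharP.exists F
  have : Fact p.Prime := ⟨CharP.char_is_prime F p⟩
  have : NeZero d := ⟨hd0.ne'⟩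
  let E := FiniteField.Extension F p d
  let b : Module.Basis (Fin d) F E := Module.finBasisOfFinrankEq F E (FiniteField.finrank_extension F p d)
  have hdvd : r ∣ Nat.card Eˣ := by
    rw [Nat.card_units, show Nat.card E = Nat.card F ^ d from FiniteField.natCard_extension F p d,
      Nat.card_eq_fintype_card, ← CharP.cast_eq_zero_iff (ZMod r) r,
      Nat.cast_sub (Nat.one_le_pow _ _ Fintype.card_pos), Nat.cast_pow, hd, pow_orderOf_eq_one, Nat.cast_one, sub_self]
  obtain ⟨ε, hε⟩ := exists_prime_orderOf_dvd_card' r hdvd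
  set Y1 := Algebra.leftMulMatrix b (ε : E)
  have hY1 : Y1 ^ r = 1 := by
    rw [← map_pow, ← Units.val_pow_eq_pow_val, ← hε, pow_orderOf_eq_one, Units.val_one, map_one]
  have hY11 : Y1 ≠ 1 := fun h => by
    have h' : (ε : E) = 1 := Algebra.leftMulMatrix_injective b (h.trans (map_one _).symm)
    rw [Units.val_eq_one.1 h', orderOf_one] at hε
    exact hr.out.one_lt.ne hε
  obtain ⟨s, hs⟩ := exists_pow_eq_single (hrK := hrF) hζ hY1 hY11 (Fintype.card_fin d) ω
  obtain ⟨e, he⟩ := FiniteField.norm_surjective F E a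
  have hZ1 : (Algebra.leftMulMatrix b e).det = a := by rw [← Algebra.norm_eq_matrix_det, he]
  obtain ⟨X, hX, hXc⟩ := exists_GL_realise hζ hrF c (n - d) hdn.2
  let σ : Fin d ⊕ Fin (n - d) ≃ Fin n := finSumFinEquiv.trans (finCongr (by omega))
  set Y := Matrix.reindexAlgEquiv F F σ (Matrix.fromBlocks (Y1 ^ s) 0 0 X) with hYdef
  have hpow : ∀ (A : Matrix (Fin d) (Fin d) F) (B : Matrix (Fin (n - d)) (Fin (n - d)) F) (k : ℕ),
      (Matrix.fromBlocks A 0 0 B) ^ k = Matrix.fromBlocks (A ^ k) 0 0 (B ^ k) := fun A B k => by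
    induction k with
    | zero => simp [Matrix.fromBlocks_one]
    | succ k ih => rw [pow_succ, pow_succ, pow_succ, ih, Matrix.fromBlocks_multiply]; simp
  have hY : Y ^ r = 1 := by
    rw [hYdef, ← map_pow, hpow, hX, ← pow_mul, mul_comm, pow_mul, hY1, one_pow, Matrix.fromBlocks_one, map_one]
  have hYc : orbitMult hζ hrF Y = orbitMult hζ hrF y := by
    rw [hYdef, show Matrix.reindexAlgEquiv F F σ (Matrix.fromBlocks (Y1 ^ s) 0 0 X) =
      Matrix.reindex σ σ (Matrix.fromBlocks (Y1 ^ s) 0 0 X) from rfl, orbitMult_reindex, orbitMult_fromBlocks,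
      hs, hXc, hdec]
  obtain ⟨g, hg⟩ := exists_conj_of_orbitMult hζ hgen hrF hy hY hYc.symm
  set W := Matrix.reindexAlgEquiv F F σ (Matrix.fromBlocks (Algebra.leftMulMatrix b e) 0 0 1) with hWdef
  have hWY : W * Y = Y * W := by
    rw [hWdef, hYdef, ← map_mul, ← map_mul, Matrix.fromBlocks_multiply, Matrix.fromBlocks_multiply]
    congr 1
    simp only [Matrix.mul_zero, Matrix.zero_mul, add_zero, zero_add, Matrix.one_mul, Matrix.mul_one]
    rw [← map_pow, ← map_mul, ← map_mul, mul_comm]
  refine ⟨((g⁻¹ : GL (Fin n) F) : Matrix (Fin n) (Fin n) F) * W * g, ?_, ?_⟩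
  · have h2 : y = ((g⁻¹ : GL (Fin n) F) : Matrix (Fin n) (Fin n) F) * Y * g := by
      rw [mul_assoc, ← hg, ← mul_assoc, Units.inv_mul, one_mul]
    rw [h2]
    calc _ = ((g⁻¹ : GL (Fin n) F) : Matrix (Fin n) (Fin n) F) * (W * Y) * g := by
          simp only [mul_assoc, Units.mul_inv_cancel_left]
      _ = _ := by rw [hWY]; simp only [mul_assoc, Units.mul_inv_cancel_left]
  · rw [Matrix.det_units_conj', hWdef, Matrix.det_reindexAlgEquiv, Matrix.det_fromBlocks_zero₂₁, det_one, mul_one,
      hZ1]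

section Index

/-- The `r`-part of `|SL(n, F)|` and the one of `|GL(n, F)|`. -/
theorem val_SL {q n : ℕ} (hq : Fintype.card F = q) (hn : 1 ≤ n) :
    padicValNat r (q - 1) + padicValNat r (Nat.card (SpecialLinearGroup (Fin n) F)) =
      padicValNat r (Nat.card (GL (Fin n) F)) := by
  classical
  have hq1 : 1 < q := by rw [← hq]; exact Fintype.one_lt_card
  rw [← padicValNat.mul (by omega) Nat.card_pos.ne', Matrix.card_GL_field, ← hq,
    Cfsg.Agent.Classical.card_sl_mul n hn]

/-- If `SL(n, F₀)` has the full `r`-part of `SL(n, F)` then `r` does not divide the index of the subfield group. -/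
theorem not_dvd_index (F₀ : Subfield F) {n : ℕ}
    (hv : padicValNat r (Nat.card (SpecialLinearGroup (Fin n) F)) ≤
      padicValNat r (Nat.card (SpecialLinearGroup (Fin n) F₀))) :
    ¬ r ∣ ((Cfsg.Geo.subfieldSubgroup F₀ 1).comap
      (SpecialLinearGroup.toGL : SpecialLinearGroup (Fin n) F →* GL (Fin n) F)).index := by
  classical
  intro hd
  set H := (Cfsg.Geo.subfieldSubgroup F₀ 1).comap
    (SpecialLinearGroup.toGL : SpecialLinearGroup (Fin n) F →* GL (Fin n) F) with hH
  let φ : SpecialLinearGroup (Fin n) F₀ →* SpecialLinearGroup (Fin n) F := SpecialLinearGroup.map F₀.subtype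
  have hφ : Function.Injective φ := fun a a' h => by
    ext i j
    exact congrArg (fun y : SpecialLinearGroup (Fin n) F => (y : Matrix (Fin n) (Fin n) F) i j) h
  have hle : φ.range ≤ H := by
    rintro _ ⟨a, rfl⟩
    exact CfsgLib.Subfield99.mem_comap_iff.2 ⟨1, one_ne_zero, fun i j => by simp [φ]⟩
  have h1 : Nat.card (SpecialLinearGroup (Fin n) F₀) ∣ Nat.card H := by
    rw [Nat.card_congr (MonoidHom.ofInjective hφ).toEquiv]
    exact Subgroup.card_dvd_of_le hle
  have h2 : r ^ (padicValNat r (Nat.card (SpecialLinearGroup (Fin n) F₀)) + 1) ∣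
      Nat.card (SpecialLinearGroup (Fin n) F) := by
    rw [pow_succ, ← H.card_mul_index]
    exact Nat.mul_dvd_mul (pow_padicValNat_dvd.trans h1) hd
  have := (padicValNat_dvd_iff_le Nat.card_pos.ne').1 h2
  omega

end Index

end CfsgLib.PrimeElusive.SubfieldType
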