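import Cfsg.Agent.Lib.PrimeElusive.SymplType

/-!
Frames of symplectic-type 2-subgroups of `GL₄`: the monomial table, spanning, and elements of orders 2, 3, 5
of the normalizer with their adjoints.
-/

set_option autoImplicit false
set_option linter.unusedSectionVars false

namespace CfsgLib.PrimeElusive.SymplType

open Matrix

open scoped MatrixGroups

variable {F : Type*} [Field F] {ι : Type} [Fintype ι] [DecidableEq ι]

/-- Two commuting pairs of anticommuting elements, with squares -1, -1 and 1, 1. -/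
structure Frame (R : Subgroup (GL ι F)) where
  a : GL ι F
  b : GL ι F
  c : GL ι F
  d : GL ι F
  ha : a ∈ R
  hb : b ∈ R
  hc : c ∈ R
  hd : d ∈ R
  saa : mt a * mt a = -1
  sbb : mt b * mt b = -1
  scc : mt c * mt c = 1
  sdd : mt d * mt d = 1
  ab : Anti a b
  cd : Anti c d
  ac : a * c = c * a
  ad : a * d = d * a
  bc : b * c = c * b
  bd : b * d = d * b

/-! ### Products of signs and commutation -/

section rules

variable {g h k : GL ι F}

theorem cm (e : g * h = h * g) : mt g * mt h = mt h * mt g := congrArg Units.val e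

theorem cm_of (e : mt g * mt h = mt h * mt g) : g * h = h * g := Units.ext e

theorem anti_mul (h1 : Anti g k) (h2 : h * k = k * h) : Anti (g * h) k := by
  show mt g * mt h * mt k = -(mt k * (mt g * mt h))
  rw [mul_assoc, cm h2, ← mul_assoc, show mt g * mt k = _ from h1, neg_mul, mul_assoc]

theorem anti_mul' (h1 : g * k = k * g) (h2 : Anti h k) : Anti (g * h) k := by
  show mt g * mt h * mt k = -(mt k * (mt g * mt h))
  rw [mul_assoc, show mt h * mt k = _ from h2, mul_neg, ← mul_assoc, cm h1, mul_assoc]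

theorem comm_mul (h1 : Anti g k) (h2 : Anti h k) : g * h * k = k * (g * h) := by
  refine cm_of ?_
  show mt g * mt h * mt k = mt k * (mt g * mt h)
  rw [mul_assoc, show mt h * mt k = _ from h2, mul_neg, ← mul_assoc, show mt g * mt k = _ from h1, neg_mul, neg_neg,
    mul_assoc]

theorem comm_mul' (h1 : g * k = k * g) (h2 : h * k = k * h) : g * h * k = k * (g * h) :=
  (Commute.mul_left (show Commute g k from h1) h2).eq

theorem anti_sq (h1 : Anti g h) {s t : ℤ} (hg : mt g * mt g = s • 1) (hh : mt h * mt h = t • 1) :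
    mt (g * h) * mt (g * h) = (-(s * t)) • 1 := by
  show mt g * mt h * (mt g * mt h) = _
  rw [mul_assoc, ← mul_assoc (mt h), show mt h * mt g = -(mt g * mt h) from h1.symm, neg_mul, mul_assoc, hh]
  simp [← mul_assoc, hg, smul_smul, mul_comm]

theorem comm_sq (h1 : g * h = h * g) {s t : ℤ} (hg : mt g * mt g = s • 1) (hh : mt h * mt h = t • 1) :
    mt (g * h) * mt (g * h) = (s * t) • 1 := by
  show mt g * mt h * (mt g * mt h) = _
  rw [mul_assoc, ← mul_assoc (mt h), ← cm h1, mul_assoc, hh]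
  simp [← mul_assoc, hg, smul_smul, mul_comm]

theorem anti_scalar {i : GL ι F} (hi : Sc i) (h1 : Anti g h) : Anti (i * g) h :=
  anti_mul' (hi.commute h) h1

theorem comm_scalar {i : GL ι F} (hi : Sc i) (h1 : g * h = h * g) : i * g * h = h * (i * g) :=
  comm_mul' (hi.commute h) h1

end rules

variable {R : Subgroup (GL ι F)} {z : ℕ}

theorem Data.zsq (D : Data R z) {g : GL ι F} (hg : g ∈ R) : ∃ s : ℤ, (s = 1 ∨ s = -1) ∧ mt g * mt g = s • 1 := by
  rcases D.sq g hg with h | h
  · exact ⟨1, Or.inl rfl, by rw [h, one_smul]⟩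
  · exact ⟨-1, Or.inr rfl, by rw [h, neg_one_smul]⟩

/-- Two commuting anticommuting pairs. -/
theorem Data.exists_pairs (D : Data R z) : ∃ a b x h : GL ι F, a ∈ R ∧ b ∈ R ∧ x ∈ R ∧ h ∈ R ∧
    Anti a b ∧ Anti x h ∧ a * x = x * a ∧ a * h = h * a ∧ b * x = x * b ∧ b * h = h * b := by
  classical
  have := D.nonempty
  have := D.finite
  obtain ⟨a, ha, hans⟩ : ∃ a ∈ R, ¬ Sc a := by
    by_contra hno
    push Not at hno
    have htop : Subgroup.center R = ⊤ := eq_top_iff.2 fun g _ => (mem_center_iff D.irr g).2 (hno g g.2)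
    have h1 := D.center
    rw [htop, Subgroup.card_top, D.card] at h1
    have := D.pos
    omega
  obtain ⟨b, hb, hab⟩ := D.exists_anti ha hans
  -- adjust an element to commute with `a` and `b`
  have hadj : ∀ v ∈ R, ∃ (ε δ : Bool), let w := v * (if ε then b else 1) * (if δ then a else 1)
      w * a = a * w ∧ w * b = b * w := by
    intro v hv
    rcases D.sgn v hv a ha with h1 | h1 <;> rcases D.sgn v hv b hb with h2 | h2
    · exact ⟨false, false, by simpa using h1, by simpa using h2⟩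
    · refine ⟨false, true, ?_, ?_⟩
      · simpa using comm_mul' h1 (rfl : a * a = a * a)
      · simpa using comm_mul h2 hab
    · refine ⟨true, false, ?_, ?_⟩
      · simpa using comm_mul h1 hab.symm
      · simpa using comm_mul' h2 (rfl : b * b = b * b)
    · refine ⟨true, true, ?_, ?_⟩
      · simpa using comm_mul' (comm_mul h1 hab.symm) (rfl : a * a = a * a)
      · simpa using comm_mul (anti_mul h2 (rfl : b * b = b * b)) hab
  obtain ⟨x, hx, hxns, hxa, hxb⟩ : ∃ x ∈ R, ¬ Sc x ∧ x * a = a * x ∧ x * b = b * x := by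
    by_contra hno
    push Not at hno
    let T : Subgroup.center R × Bool × Bool → R := fun p =>
      (p.1 : R) * (if p.2.2 then (⟨a, ha⟩ : R)⁻¹ else 1) * (if p.2.1 then (⟨b, hb⟩ : R)⁻¹ else 1)
    have hT : Function.Surjective T := by
      intro v
      obtain ⟨ε, δ, h1, h2⟩ := hadj v v.2
      set w : GL ι F := (v : GL ι F) * (if ε then b else 1) * (if δ then a else 1) with hw
      have hwR : w ∈ R := R.mul_mem (R.mul_mem v.2 (by split_ifs; exacts [hb, R.one_mem])) (by split_ifs; exacts [ha, R.one_mem])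
      have hsc : Sc w := by
        by_contra hns
        exact hno w hwR hns h1 h2
      refine ⟨(⟨⟨w, hwR⟩, (mem_center_iff D.irr _).2 hsc⟩, ε, δ), Subtype.ext ?_⟩
      simp only [T, hw]
      cases ε <;> cases δ <;> simp
    have h := Nat.card_le_card_of_surjective T hT
    rw [Nat.card_prod, Nat.card_prod, D.center, D.card, Nat.card_eq_fintype_card (α := Bool), Fintype.card_bool] at h
    have := D.pos
    omega
  obtain ⟨k, hk, hxk⟩ := D.exists_anti hx hxns
  obtain ⟨ε, δ, h1, h2⟩ := hadj k hk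
  refine ⟨a, b, x, k * (if ε then b else 1) * (if δ then a else 1), ha, hb, hx,
    R.mul_mem (R.mul_mem hk (by split_ifs; exacts [hb, R.one_mem])) (by split_ifs; exacts [ha, R.one_mem]),
    hab, ?_, hxa.symm, h1.symm, hxb.symm, h2.symm⟩
  refine (anti_mul (anti_mul hxk.symm ?_) ?_).symm <;> split_ifs <;> simp [hxa, hxb]

/-- Scale an element to any square. -/
theorem scale {i g : GL ι F} (hiR : i ∈ R) (hg : g ∈ R) (hi : Sc i) (hi2 : mt i * mt i = -1) {s : ℤ}
    (hgs : mt g * mt g = s • 1) (hs : s = 1 ∨ s = -1) (t : ℤ) (ht : t = 1 ∨ t = -1) :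
    ∃ g' ∈ R, (∀ h, Anti g h → Anti g' h) ∧ (∀ h, g * h = h * g → g' * h = h * g') ∧ mt g' * mt g' = t • 1 := by
  rcases (show t = s ∨ t = -s by omega) with rfl | rfl
  · exact ⟨g, hg, fun _ h => h, fun _ h => h, hgs⟩
  · refine ⟨i * g, R.mul_mem hiR hg, fun h hh => anti_scalar hi hh, fun h hh => comm_scalar hi hh, ?_⟩
    rw [comm_sq (hi.commute g) (s := -1) (t := s) (by rw [hi2, neg_one_smul]) hgs, neg_one_mul]

/-- Frames exist when `R` contains a scalar square root of -1, or has no two independent commuting involutions. -/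
theorem Data.exists_frame (D : Data R z)
    (h : (∃ i ∈ R, Sc i ∧ mt i * mt i = -1) ∨
      ∀ g ∈ R, ∀ k ∈ R, mt g * mt g = 1 → mt k * mt k = 1 → g * k = k * g → Sc g ∨ Sc k ∨ Sc (g * k)) :
    Nonempty (Frame R) := by
  classical
  have := D.nonempty
  obtain ⟨a, b, x, y, ha, hb, hx, hy, hab, hxy, hax, hay, hbx, hby⟩ := D.exists_pairs
  obtain ⟨sa, hsa, ea⟩ := D.zsq ha
  obtain ⟨sb, hsb, eb⟩ := D.zsq hb
  obtain ⟨sx, hsx, ex⟩ := D.zsq hx
  obtain ⟨sy, hsy, ey⟩ := D.zsq hy
  rcases h with ⟨i, hiR, hi, hi2⟩ | hmin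
  · obtain ⟨a', ha', Aa, Ca, ea'⟩ := scale hiR ha hi hi2 ea hsa (-1) (Or.inr rfl)
    obtain ⟨b', hb', Ab, Cb, eb'⟩ := scale hiR hb hi hi2 eb hsb (-1) (Or.inr rfl)
    obtain ⟨c', hc', Ac, Cc, ec'⟩ := scale hiR hx hi hi2 ex hsx 1 (Or.inl rfl)
    obtain ⟨d', hd', Ad, Cd, ed'⟩ := scale hiR hy hi hi2 ey hsy 1 (Or.inl rfl)
    exact ⟨⟨a', b', c', d', ha', hb', hc', hd', by rw [ea', neg_one_smul], by rw [eb', neg_one_smul],
      by rw [ec', one_smul], by rw [ed', one_smul], Aa _ (Ab _ hab.symm).symm, Ac _ (Ad _ hxy.symm).symm,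
      Ca _ (Cc _ hax.symm).symm, Ca _ (Cd _ hay.symm).symm, Cb _ (Cc _ hbx.symm).symm,
      Cb _ (Cd _ hby.symm).symm⟩⟩
  · -- make each pair of type (1, 1) or (-1, -1)
    have norm : ∀ g k : GL ι F, g ∈ R → k ∈ R → Anti g k → ∀ s t : ℤ, (s = 1 ∨ s = -1) → (t = 1 ∨ t = -1) →
        mt g * mt g = s • 1 → mt k * mt k = t • 1 → ∀ u v : GL ι F, g * u = u * g → k * u = u * k → g * v = v * g →
        k * v = v * k →
        ∃ g' k' : GL ι F, ∃ w : ℤ, g' ∈ R ∧ k' ∈ R ∧ Anti g' k' ∧ (w = 1 ∨ w = -1) ∧ mt g' * mt g' = w • 1 ∧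
          mt k' * mt k' = w • 1 ∧ g' * u = u * g' ∧ k' * u = u * k' ∧ g' * v = v * g' ∧ k' * v = v * k' := by
      intro g k hg hk hgk s t hs ht eg ek u v gu ku gv kv
      rcases hs with rfl | rfl <;> rcases ht with rfl | rfl
      · exact ⟨g, k, 1, hg, hk, hgk, Or.inl rfl, eg, ek, gu, ku, gv, kv⟩
      · refine ⟨g, g * k, 1, hg, R.mul_mem hg hk, ?_, Or.inl rfl, eg, ?_, gu, comm_mul' gu ku, gv, comm_mul' gv kv⟩
        · exact (anti_mul' rfl hgk.symm).symm
        · rw [anti_sq hgk eg ek]; norm_num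
      · refine ⟨g * k, k, 1, R.mul_mem hg hk, hk, anti_mul hgk rfl, Or.inl rfl, ?_, ek, comm_mul' gu ku, ku, comm_mul' gv kv, kv⟩
        rw [anti_sq hgk eg ek]; norm_num
      · exact ⟨g, k, -1, hg, hk, hgk, Or.inr rfl, eg, ek, gu, ku, gv, kv⟩
    obtain ⟨a', b', w, ha', hb', hab', hw, ea', eb', hax', hbx', hay', hby'⟩ :=
      norm a b ha hb hab sa sb hsa hsb ea eb x y hax hbx hay hby
    obtain ⟨x', y', w', hx', hy', hxy', hw', ex', ey', hxa, hya, hxb, hyb⟩ :=
      norm x y hx hy hxy sx sy hsx hsy ex ey a' b' hax'.symm hay'.symm hbx'.symm hby'.symm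
    rcases hw with rfl | rfl <;> rcases hw' with rfl | rfl
    · exfalso
      rcases hmin a' ha' x' hx' (by rw [ea', one_smul]) (by rw [ex', one_smul]) hxa.symm with h' | h' | h'
      · exact hab'.not_sc D.two h'
      · exact hxy'.not_sc D.two h'
      · exact (anti_mul hab' hxb).not_sc D.two h'
    · exact ⟨⟨x', y', a', b', hx', hy', ha', hb', by rw [ex', neg_one_smul], by rw [ey', neg_one_smul],
        by rw [ea', one_smul], by rw [eb', one_smul], hxy', hab', hxa, hxb, hya, hyb⟩⟩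
    · exact ⟨⟨a', b', x', y', ha', hb', hx', hy', by rw [ea', neg_one_smul], by rw [eb', neg_one_smul],
        by rw [ex', one_smul], by rw [ey', one_smul], hab', hxy', hxa.symm, hya.symm, hxb.symm, hyb.symm⟩⟩
    · exfalso
      have c1 : b' * (a' * x') ≠ a' * x' * b' := ((anti_mul hab' hxb).not_commute D.two).symm
      rcases hmin (a' * x') (R.mul_mem ha' hx') (b' * y') (R.mul_mem hb' hy')
        (by rw [comm_sq hxa.symm ea' ex']; norm_num) (by rw [comm_sq hyb.symm eb' ey']; norm_num)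
        (by
          refine comm_mul (g := a') (h := x') (k := b' * y') ?_ ?_
          · exact (anti_mul hab'.symm hya).symm
          · exact (anti_mul' hxb.symm hxy'.symm).symm) with h' | h' | h'
      · exact c1 ((h'.commute b').symm)
      · exact (anti_mul hab'.symm hya).not_sc D.two h'
      · have : Anti (a' * x' * (b' * y')) b' := anti_mul (anti_mul hab' hxb) (comm_mul' rfl hyb)
        exact this.not_sc D.two h'

/-! ### The table -/

/-- Coefficient arrays for the sixteen monomials. -/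
abbrev Vec := Fin 4 → Fin 4 → ℤ

/-- Index of a product of monomials of one pair. -/
def xr : Fin 4 → Fin 4 → Fin 4 := ![![0, 1, 2, 3], ![1, 0, 3, 2], ![2, 3, 0, 1], ![3, 2, 1, 0]]

/-- Sign of a product of monomials of a pair with both squares `e`. -/
def sg (e : ℤ) : Fin 4 → Fin 4 → ℤ := ![![1, 1, 1, 1], ![1, e, 1, e], ![1, -1, e, -e], ![1, -e, e, -1]]

/-- Four-term sum. -/
def s4 (f : Fin 4 → ℤ) : ℤ := f 0 + f 1 + f 2 + f 3

/-- Product of coefficient arrays. -/
def mulC (u v : Vec) : Vec := fun q q' =>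
  s4 fun p => s4 fun p' => u p p' * v (xr p q) (xr p' q') * (sg (-1) p (xr p q) * sg 1 p' (xr p' q'))

/-- Monomials of a pair. -/
def pr (x y : Matrix ι ι F) : Fin 4 → Matrix ι ι F := ![1, x, y, x * y]

theorem pr_mul {x y : Matrix ι ι F} {e : ℤ} (he : e = 1 ∨ e = -1) (hx : x * x = e • 1) (hy : y * y = e • 1)
    (hyx : y * x = -(x * y)) (p q : Fin 4) : pr x y p * pr x y q = sg e p q • pr x y (xr p q) := by
  have e1 : ∀ M : Matrix ι ι F, x * (x * M) = e • M := fun M => by rw [← mul_assoc, hx, smul_mul_assoc, one_mul]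
  have e2 : ∀ M : Matrix ι ι F, y * (y * M) = e • M := fun M => by rw [← mul_assoc, hy, smul_mul_assoc, one_mul]
  have e3 : ∀ M : Matrix ι ι F, y * (x * M) = -(x * (y * M)) := fun M => by
    rw [← mul_assoc, hyx, neg_mul, mul_assoc]
  rcases he with rfl | rfl
  all_goals
    simp only [one_smul, neg_one_smul] at hx hy e1 e2
    fin_cases p <;> fin_cases q <;>
      simp [pr, sg, xr, hx, hy, hyx, e1, e2, e3, mul_assoc]

namespace Frame

variable (f : Frame R)

/-- The monomial. -/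
def mono (q q' : Fin 4) : Matrix ι ι F := pr (mt f.a) (mt f.b) q * pr (mt f.c) (mt f.d) q'

/-- Evaluation of a coefficient array. -/
def ev (v : Vec) : Matrix ι ι F := ∑ q, ∑ q', v q q' • f.mono q q'

theorem pr_comm (q q' : Fin 4) :
    pr (mt f.c) (mt f.d) q' * pr (mt f.a) (mt f.b) q = pr (mt f.a) (mt f.b) q * pr (mt f.c) (mt f.d) q' := by
  have hac := cm f.ac
  have had := cm f.ad
  have hbc := cm f.bc
  have hbd := cm f.bd
  have h1 : ∀ M, mt f.a * M = M * mt f.a → ∀ N, mt f.b * N = N * mt f.b → True := fun _ _ _ _ => trivial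
  have key : ∀ u : Matrix ι ι F, mt f.c * u = u * mt f.c → mt f.d * u = u * mt f.d →
      pr (mt f.c) (mt f.d) q' * u = u * pr (mt f.c) (mt f.d) q' := by
    intro u hc hd
    fin_cases q' <;> simp [pr, hc, hd]
    rw [mul_assoc, hd, ← mul_assoc, hc, mul_assoc]
  refine key _ ?_ ?_
  · fin_cases q <;> simp [pr, hac, hbc]
    rw [← mul_assoc, ← hac, mul_assoc, ← hbc, mul_assoc]
  · fin_cases q <;> simp [pr, had, hbd]
    rw [← mul_assoc, ← had, mul_assoc, ← hbd, mul_assoc]

theorem mono_mul (p p' q q' : Fin 4) :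
    f.mono p p' * f.mono q q' = (sg (-1) p q * sg 1 p' q') • f.mono (xr p q) (xr p' q') := by
  have h1 := pr_mul (x := mt f.a) (y := mt f.b) (e := -1) (Or.inr rfl) (by rw [f.saa, neg_one_smul]) (by rw [f.sbb, neg_one_smul])
    f.ab.symm p q
  have h2 := pr_mul (x := mt f.c) (y := mt f.d) (e := 1) (Or.inl rfl) (by rw [f.scc, one_smul]) (by rw [f.sdd, one_smul])
    f.cd.symm p' q'
  calc f.mono p p' * f.mono q q'
      = pr (mt f.a) (mt f.b) p * pr (mt f.a) (mt f.b) q * (pr (mt f.c) (mt f.d) p' * pr (mt f.c) (mt f.d) q') := by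
        simp only [mono]
        rw [mul_assoc, ← mul_assoc (pr (mt f.c) (mt f.d) p'), pr_comm, mul_assoc, ← mul_assoc]
    _ = _ := by rw [h1, h2, smul_mul_smul_comm]; rfl

theorem ev_mul (u v : Vec) : f.ev (mulC u v) = f.ev u * f.ev v := by
  have hx : ∀ p : Fin 4, ∀ g : Fin 4 → Matrix ι ι F, ∑ q, g (xr p q) = ∑ q, g q := fun p g => by
    refine Fintype.sum_equiv ⟨xr p, xr p, ?_, ?_⟩ _ _ fun _ => rfl
    all_goals intro q; revert p q; decide
  have hxx : ∀ p q : Fin 4, xr p (xr p q) = q := by decide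
  have hR : f.ev u * f.ev v = ∑ p, ∑ p', ∑ q, ∑ q',
      (u p p' * v (xr p q) (xr p' q') * (sg (-1) p (xr p q) * sg 1 p' (xr p' q'))) • f.mono q q' := by
    simp only [ev]
    rw [Finset.sum_mul]
    refine Finset.sum_congr rfl fun p _ => ?_
    rw [Finset.sum_mul]
    refine Finset.sum_congr rfl fun p' _ => ?_
    rw [Finset.mul_sum, ← hx p]
    refine Finset.sum_congr rfl fun q _ => ?_
    rw [Finset.mul_sum, ← hx p']
    refine Finset.sum_congr rfl fun q' _ => ?_
    rw [smul_mul_smul_comm, mono_mul, hxx, hxx, smul_smul]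
  rw [hR]
  simp only [ev, mulC, s4]
  simp only [Fin.sum_univ_four, add_smul]
  abel

theorem ev_one : f.ev (fun q q' => if q = 0 ∧ q' = 0 then 1 else 0) = 1 := by
  simp [ev, mono, pr, Fin.sum_univ_four]

theorem ev_single (q q' : Fin 4) : f.ev (fun u u' => if u = q ∧ u' = q' then 1 else 0) = f.mono q q' := by
  simp [ev, Finset.sum_eq_single q, ite_and]

theorem mono_mem (q q' : Fin 4) : ∃ g ∈ R, mt g = f.mono q q' := by
  have h1 : ∃ g ∈ R, mt g = pr (mt f.a) (mt f.b) q := by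
    fin_cases q
    exacts [⟨1, R.one_mem, rfl⟩, ⟨f.a, f.ha, rfl⟩, ⟨f.b, f.hb, rfl⟩, ⟨f.a * f.b, R.mul_mem f.ha f.hb, rfl⟩]
  have h2 : ∃ g ∈ R, mt g = pr (mt f.c) (mt f.d) q' := by
    fin_cases q'
    exacts [⟨1, R.one_mem, rfl⟩, ⟨f.c, f.hc, rfl⟩, ⟨f.d, f.hd, rfl⟩, ⟨f.c * f.d, R.mul_mem f.hc f.hd, rfl⟩]
  obtain ⟨g, hg, eg⟩ := h1
  obtain ⟨k, hk, ek⟩ := h2
  exact ⟨g * k, R.mul_mem hg hk, by show mt g * mt k = _; rw [eg, ek]; rfl⟩

theorem trace_mono (D : Data R z) (q q' : Fin 4) (h : ¬ (q = 0 ∧ q' = 0)) : (f.mono q q').trace = 0 := by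
  obtain ⟨g, hg, e⟩ := f.mono_mem q q'
  rw [← e]
  refine D.trace_eq_zero hg fun ⟨c, hc⟩ => ?_
  -- the monomial anticommutes with one of the four generators
  have := D.nonempty
  have key : ∀ u u' : Fin 4, ¬ (u = 0 ∧ u' = 0) →
      ∃ (p p' : Fin 4), sg (-1) p u * sg 1 p' u' = -(sg (-1) u p * sg 1 u' p') := by decide
  obtain ⟨p, p', hp⟩ := key q q' h
  have h1 := f.mono_mul p p' q q'
  have h2 := f.mono_mul q q' p p'
  have hxc : ∀ u v : Fin 4, xr u v = xr v u := by decide
  have hx1 : xr p q = xr q p := hxc p q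
  have hx2 : xr p' q' = xr q' p' := hxc p' q' 
  rw [hx1, hx2, hp] at h1
  rw [← e] at h1 h2
  obtain ⟨k, hk, ek⟩ := f.mono_mem p p'
  rw [← ek] at h1 h2
  refine Anti.not_sc D.two (g := g) (h := k) ?_ ⟨c, hc⟩
  show mt g * mt k = -(mt k * mt g)
  rw [h1, h2, neg_smul, neg_neg]

theorem span (D : Data R z) : Submodule.span F (Set.range fun p : Fin 4 × Fin 4 => f.mono p.1 p.2) = ⊤ := by
  have hli : LinearIndependent F fun p : Fin 4 × Fin 4 => f.mono p.1 p.2 := by
    rw [Fintype.linearIndependent_iff]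
    intro g hg p
    have h := congrArg (fun M => (M * f.mono p.1 p.2).trace) hg
    simp only [Finset.sum_mul, smul_mul_assoc, Matrix.trace_sum, Matrix.trace_smul, zero_mul, Matrix.trace_zero] at h
    rw [Finset.sum_eq_single p (fun s _ hs => ?_) (by simp)] at h
    · rw [mono_mul] at h
      have hsg0 : ∀ u v : Fin 4, sg (-1) u u * sg 1 v v = 1 ∨ sg (-1) u u * sg 1 v v = -1 := by decide
      have hsg := hsg0 p.1 p.2
      have hxp : ∀ q : Fin 4, xr q q = 0 := by decide
      rw [hxp, hxp, show f.mono 0 0 = (1 : Matrix ι ι F) by simp [mono, pr]] at h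
      rcases hsg with e | e <;> rw [e] at h <;> simp [D.trace_one, D.four_ne] at h <;> exact h
    · rw [mono_mul, Matrix.trace_smul, trace_mono f D _ _ ?_, smul_zero, smul_zero]
      intro hz
      apply hs
      have key : ∀ a b : Fin 4, xr a b = 0 → a = b := by decide
      exact Prod.ext (key _ _ hz.1) (key _ _ hz.2)
  refine hli.span_eq_top_of_card_eq_finrank ?_
  rw [Fintype.card_prod, Fintype.card_fin, Module.finrank_matrix, Module.finrank_self, D.four]

/-- A matrix commuting with the four generators is scalar; so `R` consists of scalar multiples of monomials. -/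
theorem eq_scalar_mul (D : Data R z) {g : GL ι F} (hg : g ∈ R) :
    ∃ s k : GL ι F, s ∈ R ∧ Sc s ∧ k ∈ Subgroup.closure ({f.a, f.b, f.c, f.d} : Set (GL ι F)) ∧ g = s * k := by
  classical
  have := D.nonempty
  set K := Subgroup.closure ({f.a, f.b, f.c, f.d} : Set (GL ι F))
  have hKR : K ≤ R := by
    rw [Subgroup.closure_le]
    rintro x (rfl | rfl | rfl | rfl)
    exacts [f.ha, f.hb, f.hc, f.hd]
  have mem : f.a ∈ K ∧ f.b ∈ K ∧ f.c ∈ K ∧ f.d ∈ K :=
    ⟨Subgroup.subset_closure (by simp), Subgroup.subset_closure (by simp), Subgroup.subset_closure (by simp),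
      Subgroup.subset_closure (by simp)⟩
  -- fix the commutation with one generator by a partner commuting with the previous ones
  have fix1 : ∀ v ∈ R, ∀ (x y : GL ι F), x ∈ R → Anti y x →
      (v * x = x * v ∨ (v * y) * x = x * (v * y)) := by
    intro v hv x y hx hyx
    rcases D.sgn v hv x hx with h | h
    · exact Or.inl h
    · exact Or.inr (comm_mul h hyx)
  obtain ⟨k1, hk1, c1⟩ : ∃ k ∈ K, (g * k) * f.a = f.a * (g * k) := by
    rcases fix1 g hg f.a f.b f.ha f.ab.symm with h | h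
    · exact ⟨1, K.one_mem, by simpa using h⟩
    · exact ⟨f.b, mem.2.1, h⟩
  obtain ⟨k2, hk2, c2a, c2⟩ : ∃ k ∈ K, (g * k) * f.a = f.a * (g * k) ∧ (g * k) * f.b = f.b * (g * k) := by
    rcases fix1 (g * k1) (R.mul_mem hg (hKR hk1)) f.b f.a f.hb f.ab with h | h
    · exact ⟨k1, hk1, c1, h⟩
    · exact ⟨k1 * f.a, K.mul_mem hk1 mem.1, by rw [← mul_assoc]; exact comm_mul' c1 rfl, by rw [← mul_assoc]; exact h⟩
  obtain ⟨k3, hk3, c3a, c3b, c3⟩ : ∃ k ∈ K, (g * k) * f.a = f.a * (g * k) ∧ (g * k) * f.b = f.b * (g * k) ∧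
      (g * k) * f.c = f.c * (g * k) := by
    rcases fix1 (g * k2) (R.mul_mem hg (hKR hk2)) f.c f.d f.hc f.cd.symm with h | h
    · exact ⟨k2, hk2, c2a, c2, h⟩
    · exact ⟨k2 * f.d, K.mul_mem hk2 mem.2.2.2, by rw [← mul_assoc]; exact comm_mul' c2a f.ad.symm,
        by rw [← mul_assoc]; exact comm_mul' c2 f.bd.symm, by rw [← mul_assoc]; exact h⟩
  obtain ⟨k4, hk4, c4a, c4b, c4c, c4⟩ : ∃ k ∈ K, (g * k) * f.a = f.a * (g * k) ∧ (g * k) * f.b = f.b * (g * k) ∧
      (g * k) * f.c = f.c * (g * k) ∧ (g * k) * f.d = f.d * (g * k) := by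
    rcases fix1 (g * k3) (R.mul_mem hg (hKR hk3)) f.d f.c f.hd f.cd with h | h
    · exact ⟨k3, hk3, c3a, c3b, c3, h⟩
    · exact ⟨k3 * f.c, K.mul_mem hk3 mem.2.2.1, by rw [← mul_assoc]; exact comm_mul' c3a f.ac.symm,
        by rw [← mul_assoc]; exact comm_mul' c3b f.bc.symm, by rw [← mul_assoc]; exact comm_mul' c3 rfl,
        by rw [← mul_assoc]; exact h⟩
  have hall : ∀ M : Matrix ι ι F, mt (g * k4) * M = M * mt (g * k4) := by
    intro M
    have hM : M ∈ Submodule.span F (Set.range fun p : Fin 4 × Fin 4 => f.mono p.1 p.2) := by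
      rw [f.span D]; trivial
    induction hM using Submodule.span_induction with
    | mem x hx =>
      obtain ⟨p, rfl⟩ := hx
      have h1 : ∀ q, Commute (mt (g * k4)) (pr (mt f.a) (mt f.b) q) := by
        intro q
        fin_cases q
        exacts [Commute.one_right _, cm c4a, cm c4b, Commute.mul_right (cm c4a) (cm c4b)]
      have h2 : ∀ q, Commute (mt (g * k4)) (pr (mt f.c) (mt f.d) q) := by
        intro q
        fin_cases q
        exacts [Commute.one_right _, cm c4c, cm c4, Commute.mul_right (cm c4c) (cm c4)]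
      exact (h1 p.1).mul_right (h2 p.2)
    | zero => simp
    | add x y _ _ hx hy => rw [mul_add, add_mul, hx, hy]
    | smul c x _ hx => rw [mul_smul_comm, smul_mul_assoc, hx]
  exact ⟨g * k4, k4⁻¹, R.mul_mem hg (hKR hk4), D.sc_of_commute fun h _ => cm_of (hall _), K.inv_mem hk4, by group⟩

/-- An element sending the four generators into `R` normalizes `R`. -/
theorem mem_normalizer (D : Data R z) {y : GL ι F} (ha : y * f.a * y⁻¹ ∈ R) (hb : y * f.b * y⁻¹ ∈ R)
    (hc : y * f.c * y⁻¹ ∈ R) (hd : y * f.d * y⁻¹ ∈ R) : y ∈ Subgroup.normalizer (R : Set (GL ι F)) := by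
  have := D.finite
  have hle : R.map (MulAut.conj y).toMonoidHom ≤ R := by
    rintro _ ⟨g, hg, rfl⟩
    obtain ⟨s, k, hs, hsc, hk, rfl⟩ := f.eq_scalar_mul D hg
    have hk' : Subgroup.closure ({f.a, f.b, f.c, f.d} : Set (GL ι F)) ≤ R.comap (MulAut.conj y).toMonoidHom := by
      rw [Subgroup.closure_le]
      rintro x (rfl | rfl | rfl | rfl)
      exacts [ha, hb, hc, hd]
    rw [map_mul]
    refine R.mul_mem ?_ (hk' hk)
    show y * s * y⁻¹ ∈ R
    rw [← hsc.commute y, mul_inv_cancel_right]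
    exact hs
  have heq := Subgroup.eq_of_le_of_card_ge hle (le_of_eq (Nat.card_congr
    (R.equivMapOfInjective _ (MulAut.conj y).injective).toEquiv))
  rw [Subgroup.mem_normalizer_iff]
  refine fun x => ⟨fun hx => hle ⟨x, hx, rfl⟩, fun hx => ?_⟩
  have hx' : y * x * y⁻¹ ∈ R.map (MulAut.conj y).toMonoidHom := heq.symm ▸ hx
  obtain ⟨w, hw, hwx⟩ := hx'
  exact (MulAut.conj y).injective hwx ▸ hw

end Frame

end CfsgLib.PrimeElusive.SymplType
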