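import Cfsg.Agent.Lib.PrimeElusive.SymplFrame

/-!
Elements of orders 2, 3 and 5 of the normalizer of a symplectic-type 2-subgroup of `GL₄`, their traces and
adjoints.
-/

set_option autoImplicit false
set_option linter.unusedSectionVars false

namespace CfsgLib.PrimeElusive.SymplType

open Matrix

open scoped MatrixGroups

variable {F : Type*} [Field F] {ι : Type} [Fintype ι] [DecidableEq ι]

/-- A semilinear anti-multiplicative map inverting the elements of `R`. -/
structure Adj (R : Subgroup (GL ι F)) where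
  σ : F →+* F
  T : Matrix ι ι F → Matrix ι ι F
  map_add : ∀ M N, T (M + N) = T M + T N
  map_smul : ∀ (c : F) M, T (c • M) = σ c • T M
  map_mul : ∀ M N, T (M * N) = T N * T M
  map_mem : ∀ g ∈ R, T (mt g) * mt g = 1

variable {R : Subgroup (GL ι F)} {z : ℕ}

/-- Preserving the adjunction. -/
def Adj.Isom (A : Adj R) (g : GL ι F) : Prop := A.T (mt g) * mt g = 1

theorem mul_inv_val (g : GL ι F) : mt g * mt g⁻¹ = 1 := by rw [← Units.val_mul, mul_inv_cancel, Units.val_one]

theorem inv_val_mul (g : GL ι F) : mt g⁻¹ * mt g = 1 := by rw [← Units.val_mul, inv_mul_cancel, Units.val_one]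

theorem Adj.T_mem (A : Adj R) {g : GL ι F} (hg : g ∈ R) : A.T (mt g) = mt g⁻¹ := by
  calc A.T (mt g) = A.T (mt g) * (mt g * mt g⁻¹) := by rw [mul_inv_val, mul_one]
    _ = mt g⁻¹ := by rw [← mul_assoc, A.map_mem g hg, one_mul]

theorem Adj.T_one (A : Adj R) : A.T 1 = 1 := by
  have h := A.T_mem R.one_mem
  simpa using h

theorem Adj.Isom.mul {A : Adj R} {g h : GL ι F} (hg : A.Isom g) (hh : A.Isom h) : A.Isom (g * h) := by
  show A.T (mt g * mt h) * (mt g * mt h) = 1
  rw [A.map_mul, mul_assoc, ← mul_assoc (A.T (mt g)), show A.T (mt g) * mt g = 1 from hg, one_mul]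
  exact hh

theorem inv_of_sq_neg {g : GL ι F} (h : mt g * mt g = -1) : mt g⁻¹ = -mt g := by
  calc mt g⁻¹ = mt g⁻¹ * (mt g * -mt g) := by rw [mul_neg, h, neg_neg, mul_one]
    _ = -mt g := by rw [← mul_assoc, inv_val_mul, one_mul]

theorem inv_of_sq_one {g : GL ι F} (h : mt g * mt g = 1) : mt g⁻¹ = mt g := by
  calc mt g⁻¹ = mt g⁻¹ * (mt g * mt g) := by rw [h, mul_one]
    _ = mt g := by rw [← mul_assoc, inv_val_mul, one_mul]

/-- Conjugating a finite subgroup into itself normalizes it. -/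
theorem mem_normalizer_of_conj [Finite R] {y : GL ι F} (h : ∀ u ∈ R, ∃ v ∈ R, mt y * mt u = mt v * mt y) :
    y ∈ Subgroup.normalizer (R : Set (GL ι F)) := by
  have hle : R.map (MulAut.conj y).toMonoidHom ≤ R := by
    rintro _ ⟨u, hu, rfl⟩
    obtain ⟨v, hv, e⟩ := h u hu
    show y * u * y⁻¹ ∈ R
    have e' : y * u = v * y := Units.ext e
    rw [e', mul_inv_cancel_right]
    exact hv
  have heq := Subgroup.eq_of_le_of_card_ge hle (le_of_eq (Nat.card_congr
    (R.equivMapOfInjective _ (MulAut.conj y).injective).toEquiv))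
  rw [Subgroup.mem_normalizer_iff]
  refine fun x => ⟨fun hx => hle ⟨x, hx, rfl⟩, fun hx => ?_⟩
  have hx' : y * x * y⁻¹ ∈ R.map (MulAut.conj y).toMonoidHom := heq.symm ▸ hx
  obtain ⟨w, hw, hwx⟩ := hx'
  exact (MulAut.conj y).injective hwx ▸ hw

theorem Data.not_sc_of_trace (D : Data R z) {g y : GL ι F} (hg : g ∈ R) (hns : ¬ Sc g)
    (h : (mt y * mt g).trace ≠ 0) : ¬ Sc y := by
  rintro ⟨c, hc⟩
  apply h
  rw [hc, smul_mul_assoc, one_mul, Matrix.trace_smul, D.trace_eq_zero hg hns, smul_zero]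

/-! ### Order three -/

section three

/-- The matrix of an element of order three. -/
def w3 (x y : Matrix ι ι F) : Matrix ι ι F := (-(2⁻¹ : F)) • (1 + x + y + x * y)

theorem half_half (h2 : (2 : F) ≠ 0) : (2⁻¹ : F) * 2⁻¹ * 4 = 1 := by
  rw [show (4 : F) = 2 * 2 by norm_num]; field_simp

variable {x y : Matrix ι ι F}

theorem w3_mul_neg (h2 : (2 : F) ≠ 0) (hx : x * x = -1) (hy : y * y = -1) (hyx : y * x = -(x * y)) :
    w3 x y * w3 (-x) (-y) = w3 x y * ((-(2⁻¹ : F)) • (1 - x - y + x * y)) ∧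
    w3 x y * ((-(2⁻¹ : F)) • (1 - x - y - x * y)) = 1 ∧
    ((-(2⁻¹ : F)) • (1 - x - y - x * y)) * w3 x y = 1 ∧ w3 x y * w3 x y = (-(2⁻¹ : F)) • (1 - x - y - x * y) := by
  have e1 : ∀ M : Matrix ι ι F, x * (x * M) = -M := fun M => by rw [← mul_assoc, hx, neg_one_mul]
  have e2 : ∀ M : Matrix ι ι F, y * (y * M) = -M := fun M => by rw [← mul_assoc, hy, neg_one_mul]
  have e3 : ∀ M : Matrix ι ι F, y * (x * M) = -(x * (y * M)) := fun M => by
    rw [← mul_assoc, hyx, neg_mul, mul_assoc]
  have h4 := half_half h2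
  have h22 : (2 : F) * 2⁻¹ = 1 := mul_inv_cancel₀ h2
  refine ⟨by simp [w3, sub_eq_add_neg], ?_, ?_, ?_⟩
  all_goals
    simp only [w3, smul_mul_assoc, mul_smul_comm, smul_smul, mul_add, add_mul, mul_sub, sub_mul, mul_one, one_mul,
      hx, hy, hyx, e1, e2, e3, mul_assoc, mul_neg, neg_neg]
    match_scalars
    all_goals first
      | ring1
      | linear_combination h4
      | linear_combination (2⁻¹ : F) * h22
      | linear_combination (-2⁻¹ : F) * h22

variable {a b : GL ι F}

/-- The element of order three of an anticommuting pair. -/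
theorem Data.exists_w3 (D : Data R z) (ha : a ∈ R) (hb : b ∈ R) (saa : mt a * mt a = -1) (sbb : mt b * mt b = -1)
    (hab : Anti a b) :
    ∃ y : GL ι F, mt y = w3 (mt a) (mt b) ∧ y ∈ Subgroup.normalizer (R : Set (GL ι F)) ∧ y ^ 3 = 1 ∧
      ∀ A : Adj R, A.Isom y := by
  have := D.nonempty
  have := D.finite
  obtain ⟨-, h1, h2, h3⟩ := w3_mul_neg D.two saa sbb hab.symm
  refine ⟨⟨_, _, h1, h2⟩, rfl, ?_, ?_, ?_⟩
  · refine mem_normalizer_of_conj fun u hu => ?_
    show ∃ v ∈ R, w3 (mt a) (mt b) * mt u = mt v * w3 (mt a) (mt b)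
    have e1 : ∀ M, mt a * (mt a * M) = -M := fun M => by rw [← mul_assoc, saa, neg_one_mul]
    have e2 : ∀ M, mt b * (mt b * M) = -M := fun M => by rw [← mul_assoc, sbb, neg_one_mul]
    have e3 : ∀ M, mt b * (mt a * M) = -(mt a * (mt b * M)) := fun M => by
      rw [← mul_assoc, show mt b * mt a = _ from hab.symm, neg_mul, mul_assoc]
    have hai := inv_of_sq_neg saa
    have hbi := inv_of_sq_neg sbb
    have hbai : mt (a * b)⁻¹ = -mt b * -mt a := by
      rw [_root_.mul_inv_rev]; show mt b⁻¹ * mt a⁻¹ = _; rw [hai, hbi]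
    have hba : mt b * mt a = -(mt a * mt b) := hab.symm
    rcases D.sgn u hu a ha with hua | hua <;> rcases D.sgn u hu b hb with hub | hub
    · refine ⟨u, hu, ?_⟩
      have h1 := (cm hua).symm
      have h2 := (cm hub).symm
      have h2' : ∀ M, mt b * (mt u * M) = mt u * (mt b * M) := fun M => by rw [← mul_assoc, h2, mul_assoc]
      simp only [w3, smul_mul_assoc, mul_smul_comm, mul_add, add_mul, mul_one, one_mul, mul_assoc, h2]
      rw [← mul_assoc (mt a), h1, mul_assoc]
    · refine ⟨u * (a * b)⁻¹, R.mul_mem hu (R.inv_mem (R.mul_mem ha hb)), ?_⟩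
      show _ = mt u * mt (a * b)⁻¹ * _
      have h1 := (cm hua).symm
      have h2 : mt b * mt u = -(mt u * mt b) := hub.symm
      have h1' : ∀ M, mt a * (mt u * M) = mt u * (mt a * M) := fun M => by rw [← mul_assoc, h1, mul_assoc]
      simp only [hbai, w3, smul_mul_assoc, mul_smul_comm, mul_add, add_mul, mul_one, one_mul, mul_assoc, h1, h1', h2,
        mul_neg, neg_mul, neg_neg, e1, e2, e3, saa, sbb, hba]
      module
    · refine ⟨u * a⁻¹, R.mul_mem hu (R.inv_mem ha), ?_⟩
      show _ = mt u * mt a⁻¹ * _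
      have h1 : mt a * mt u = -(mt u * mt a) := hua.symm
      have h2 := (cm hub).symm
      have h1' : ∀ M, mt a * (mt u * M) = -(mt u * (mt a * M)) := fun M => by
        rw [← mul_assoc, h1, neg_mul, mul_assoc]
      simp only [hai, w3, smul_mul_assoc, mul_smul_comm, mul_add, add_mul, mul_one, one_mul, mul_assoc, h1, h1', h2,
        mul_neg, neg_mul, neg_neg, e1, e2, e3, saa, sbb, hba]
      module
    · refine ⟨u * b⁻¹, R.mul_mem hu (R.inv_mem hb), ?_⟩
      show _ = mt u * mt b⁻¹ * _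
      have h1 : mt a * mt u = -(mt u * mt a) := hua.symm
      have h2 : mt b * mt u = -(mt u * mt b) := hub.symm
      have h1' : ∀ M, mt a * (mt u * M) = -(mt u * (mt a * M)) := fun M => by
        rw [← mul_assoc, h1, neg_mul, mul_assoc]
      simp only [hbi, w3, smul_mul_assoc, mul_smul_comm, mul_add, add_mul, mul_one, one_mul, mul_assoc, h1, h1', h2,
        mul_neg, neg_mul, neg_neg, e1, e2, e3, saa, sbb, hba]
      module
  · refine Units.ext ?_
    show (w3 (mt a) (mt b)) ^ 3 = 1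
    rw [pow_succ, pow_two, h3, h2]
  · intro A
    show A.T (w3 (mt a) (mt b)) * w3 (mt a) (mt b) = 1
    have hT : A.T (w3 (mt a) (mt b)) = (-(2⁻¹ : F)) • (1 - mt a - mt b - mt a * mt b) := by
      have hab' : A.T (mt a * mt b) = -(mt a * mt b) := by
        rw [show mt a * mt b = mt (a * b) from rfl, A.T_mem (R.mul_mem ha hb), _root_.mul_inv_rev]
        show mt b⁻¹ * mt a⁻¹ = -(mt a * mt b)
        rw [inv_of_sq_neg saa, inv_of_sq_neg sbb, neg_mul_neg, show mt b * mt a = _ from hab.symm]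
      simp only [w3, A.map_smul, A.map_add, A.T_one, A.T_mem ha, A.T_mem hb, hab', inv_of_sq_neg saa,
        inv_of_sq_neg sbb, _root_.map_neg, map_inv₀, map_ofNat]
      module
    rw [hT, h2]

theorem Data.trace_w3_mul (D : Data R z) {k : GL ι F} (hk : k ∈ R) (ha : a ∈ R) (hb : b ∈ R) (hab : Anti a b)
    (ka : k * a = a * k) (kb : k * b = b * k) :
    (mt k * w3 (mt a) (mt b)).trace = -(2⁻¹ : F) * (mt k).trace := by
  have := D.nonempty
  have t1 : (mt k * mt a).trace = 0 :=
    D.trace_eq_zero (g := k * a) (R.mul_mem hk ha) ((anti_mul' kb hab).not_sc D.two)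
  have t2 : (mt k * mt b).trace = 0 :=
    D.trace_eq_zero (g := k * b) (R.mul_mem hk hb) ((anti_mul' ka hab.symm).not_sc D.two)
  have t3 : (mt k * (mt a * mt b)).trace = 0 :=
    D.trace_eq_zero (g := k * (a * b)) (R.mul_mem hk (R.mul_mem ha hb))
      ((anti_mul' ka (anti_mul' (rfl : a * a = a * a) hab.symm)).not_sc D.two)
  simp only [w3, mul_smul_comm, mul_add, mul_one, Matrix.trace_smul, Matrix.trace_add, t1, t2, t3, smul_eq_mul]
  ring

/-- Order three with trace `-2`. -/
theorem Data.exists_three (D : Data R z) (f : Frame R) :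
    ∃ y : GL ι F, y ∈ Subgroup.normalizer (R : Set (GL ι F)) ∧ y ^ 3 = 1 ∧ ¬ Sc y ∧ (mt y).trace = -2 ∧
      ∀ A : Adj R, A.Isom y := by
  have := D.nonempty
  obtain ⟨y, hy, hN, h3, hA⟩ := D.exists_w3 f.ha f.hb f.saa f.sbb f.ab
  have hans : ¬ Sc f.a := f.ab.not_sc D.two
  have tb := D.trace_eq_zero f.hb (f.ab.symm.not_sc D.two)
  have ta := D.trace_eq_zero f.ha hans
  have tab := D.trace_eq_zero (R.mul_mem f.ha f.hb) ((anti_mul' (rfl : f.a * f.a = f.a * f.a) f.ab.symm).not_sc D.two)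
  have tab' : (mt f.a * mt f.b).trace = 0 := tab
  refine ⟨y, hN, h3, ?_, ?_, hA⟩
  · refine D.not_sc_of_trace f.ha hans ?_
    have e : mt f.a * mt f.b * mt f.a = mt f.b := by
      rw [mul_assoc, show mt f.b * mt f.a = _ from f.ab.symm, mul_neg, ← mul_assoc, f.saa, neg_one_mul, neg_neg]
    have tba : (mt f.b * mt f.a).trace = 0 := by rw [Matrix.trace_mul_comm]; exact tab'
    rw [hy]
    simp only [w3, smul_mul_assoc, add_mul, one_mul, f.saa, e, Matrix.trace_smul, Matrix.trace_add, Matrix.trace_neg,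
      D.trace_one, ta, tb, tba, smul_eq_mul]
    simpa using mul_ne_zero (inv_ne_zero D.two) D.four_ne
  · rw [hy]
    simp only [w3, Matrix.trace_smul, Matrix.trace_add, D.trace_one, ta, tb, tab', smul_eq_mul]
    have h22 : (2 : F) * 2⁻¹ = 1 := mul_inv_cancel₀ D.two
    linear_combination -2 * h22

/-- Order three with trace `1`, when there is a scalar square root of `-1`. -/
theorem Data.exists_three' (D : Data R z) (f : Frame R) {i : GL ι F} (hiR : i ∈ R) (hi : Sc i)
    (hi2 : mt i * mt i = -1) :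
    ∃ y : GL ι F, y ∈ Subgroup.normalizer (R : Set (GL ι F)) ∧ y ^ 3 = 1 ∧ ¬ Sc y ∧ (mt y).trace = 1 ∧
      ∀ A : Adj R, A.Isom y := by
  have := D.nonempty
  set a' := i * f.c
  set b' := i * f.d
  have hsq : ∀ g : GL ι F, mt g * mt g = 1 → mt (i * g) * mt (i * g) = -1 := fun g hg => by
    rw [comm_sq (hi.commute g) (s := -1) (t := 1) (by rw [hi2, neg_one_smul]) (by rw [hg, one_smul])]
    norm_num
  have hab' : Anti a' b' := anti_scalar hi (anti_scalar hi f.cd.symm).symm
  have ca : f.a * a' = a' * f.a := (comm_scalar hi f.ac.symm).symm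
  have da : f.a * b' = b' * f.a := (comm_scalar hi f.ad.symm).symm
  have cb : f.b * a' = a' * f.b := (comm_scalar hi f.bc.symm).symm
  have db : f.b * b' = b' * f.b := (comm_scalar hi f.bd.symm).symm
  obtain ⟨u, hu, huN, hu3, huA⟩ := D.exists_w3 f.ha f.hb f.saa f.sbb f.ab
  obtain ⟨v, hv, hvN, hv3, hvA⟩ := D.exists_w3 (R.mul_mem hiR f.hc) (R.mul_mem hiR f.hd) (hsq _ f.scc)
    (hsq _ f.sdd) hab'
  have key : ∀ k ∈ R, k * a' = a' * k → k * b' = b' * k →
      (mt k * mt v).trace = -(2⁻¹ : F) * (mt k).trace := fun k hk h1 h2 => by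
    rw [hv]; exact D.trace_w3_mul hk (R.mul_mem hiR f.hc) (R.mul_mem hiR f.hd) hab' h1 h2
  have k1 := key 1 R.one_mem (by simp) (by simp)
  have ka := key _ f.ha ca da
  have kb := key _ f.hb cb db
  have kab : (mt f.a * mt f.b * mt v).trace = -(2⁻¹ : F) * (mt f.a * mt f.b).trace :=
    key _ (R.mul_mem f.ha f.hb) (comm_mul' ca cb) (comm_mul' da db)
  have huv : u * v = v * u := by
    refine Units.ext ?_
    show mt u * mt v = mt v * mt u
    rw [hu, hv]
    have q : ∀ g ∈ ({f.a, f.b} : Set (GL ι F)), ∀ g' ∈ ({a', b'} : Set (GL ι F)), Commute (mt g) (mt g') := by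
      rintro g (rfl | rfl) g' (rfl | rfl)
      exacts [cm ca, cm da, cm cb, cm db]
    have qa := q f.a (by simp)
    have qb := q f.b (by simp)
    have l1 : ∀ g : Matrix ι ι F, Commute g (mt a') → Commute g (mt b') →
        Commute g (1 + mt a' + mt b' + mt a' * mt b') := fun g h1 h2 =>
      (((Commute.one_right g).add_right h1).add_right h2).add_right (h1.mul_right h2)
    exact (((((Commute.one_left _).add_left (l1 _ (qa a' (by simp)) (qa b' (by simp)))).add_left
      (l1 _ (qb a' (by simp)) (qb b' (by simp)))).add_left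
      ((l1 _ (qa a' (by simp)) (qa b' (by simp))).mul_left (l1 _ (qb a' (by simp)) (qb b' (by simp))))).smul_left
      _).smul_right _
  have ta := D.trace_eq_zero f.ha (f.ab.not_sc D.two)
  have tb := D.trace_eq_zero f.hb (f.ab.symm.not_sc D.two)
  have tab : (mt f.a * mt f.b).trace = 0 :=
    D.trace_eq_zero (R.mul_mem f.ha f.hb) ((anti_mul' (rfl : f.a * f.a = f.a * f.a) f.ab.symm).not_sc D.two)
  have k1' : (mt v).trace = -(2⁻¹ : F) * 4 := by simpa [D.trace_one] using k1
  refine ⟨u * v, mul_mem huN hvN, ?_, ?_, ?_, fun A => (huA A).mul (hvA A)⟩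
  · rw [(show Commute u v from huv).mul_pow, hu3, hv3, one_mul]
  · refine D.not_sc_of_trace f.ha (f.ab.not_sc D.two) ?_
    have hva : mt v * mt f.a = mt f.a * mt v := by
      rw [hv]
      exact ((((Commute.one_left _).add_left (cm ca).symm).add_left (cm da).symm).add_left
        (Commute.mul_left (cm ca).symm (cm da).symm)).smul_left _
    show (mt u * mt v * mt f.a).trace ≠ 0
    rw [mul_assoc, hva, hu]
    have e1 : mt f.a * (mt f.a * mt v) = -mt v := by rw [← mul_assoc, f.saa, neg_one_mul]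
    have e3 : mt f.b * (mt f.a * mt v) = -(mt f.a * (mt f.b * mt v)) := by
      rw [← mul_assoc, show mt f.b * mt f.a = _ from f.ab.symm, neg_mul, mul_assoc]
    have e1' : mt f.a * (mt f.a * (mt f.b * mt v)) = -(mt f.b * mt v) := by
      rw [← mul_assoc, f.saa, neg_one_mul]
    have kab' : (mt f.a * (mt f.b * mt v)).trace = -(2⁻¹ : F) * (mt f.a * mt f.b).trace := by
      rw [← mul_assoc]; exact kab
    simp only [w3, smul_mul_assoc, add_mul, one_mul, mul_assoc (mt f.a) (mt f.b) (mt f.a * mt v), e1, e1', e3, mul_neg, neg_neg,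
      Matrix.trace_smul, Matrix.trace_add, Matrix.trace_neg, ka, kb, kab', k1', ta, tb, tab, smul_eq_mul]
    intro h
    have : (1 : F) = 0 := by linear_combination -h - half_half D.two + h - h
    exact one_ne_zero this
  · show (mt u * mt v).trace = 1
    rw [hu]
    simp only [w3, smul_mul_assoc, add_mul, one_mul, Matrix.trace_smul, Matrix.trace_add, ka, kb, kab, k1', ta, tb,
      tab, smul_eq_mul]
    linear_combination half_half D.two

end three

/-! ### Order two with trace two -/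

/-- An involution of trace two, when there is a scalar square root of `-1`. -/
theorem Data.exists_two (D : Data R z) (f : Frame R) {i : GL ι F} (hiR : i ∈ R) (hi : Sc i)
    (hi2 : mt i * mt i = -1) :
    ∃ y : GL ι F, y ∈ Subgroup.normalizer (R : Set (GL ι F)) ∧ mt y * mt y = 1 ∧ ¬ Sc y ∧ (mt y).trace = 2 ∧
      ∀ A : Adj R, A.Isom y := by
  have := D.nonempty
  have := D.finite
  have hsR : f.c ∈ R := f.hc
  have hss := f.scc
  have htt : mt (i * f.a) * mt (i * f.a) = 1 := by
    rw [comm_sq (hi.commute f.a) (s := -1) (t := -1) (by rw [hi2, neg_one_smul]) (by rw [f.saa, neg_one_smul])]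
    norm_num
  have hst : f.c * (i * f.a) = i * f.a * f.c := (comm_scalar hi f.ac).symm
  have hsd : Anti f.c f.d := f.cd
  have htb : Anti (i * f.a) f.b := anti_scalar hi f.ab
  have hstb : Anti (f.c * (i * f.a)) f.b := anti_mul' f.bc.symm htb
  set t := i * f.a with ht
  have htR : t ∈ R := R.mul_mem hiR f.ha
  set s := f.c with hs
  have h22 : (2 : F) * 2⁻¹ = 1 := mul_inv_cancel₀ D.two
  have h4 := half_half D.two
  have e1 : ∀ M, mt s * (mt s * M) = M := fun M => by rw [← mul_assoc, hss, one_mul]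
  have e2 : ∀ M, mt t * (mt t * M) = M := fun M => by rw [← mul_assoc, htt, one_mul]
  have ets : mt t * mt s = mt s * mt t := (cm hst).symm
  have e3 : ∀ M, mt t * (mt s * M) = mt s * (mt t * M) := fun M => by rw [← mul_assoc, ets, mul_assoc]
  have hW : ((2⁻¹ : F) • (1 + mt s + mt t - mt s * mt t)) * ((2⁻¹ : F) • (1 + mt s + mt t - mt s * mt t)) = 1 := by
    simp only [smul_mul_assoc, mul_smul_comm, smul_smul, mul_add, add_mul, mul_sub, sub_mul, mul_one, one_mul,
      mul_assoc, hss, htt, ets, e1, e2, e3]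
    match_scalars
    all_goals first
      | ring1
      | linear_combination h4
  have tr0 : (mt s).trace = 0 ∧ (mt t).trace = 0 ∧ (mt s * mt t).trace = 0 :=
    ⟨D.trace_eq_zero hsR (hsd.not_sc D.two), D.trace_eq_zero htR (htb.not_sc D.two),
      D.trace_eq_zero (R.mul_mem hsR htR) (hstb.not_sc D.two)⟩
  refine ⟨⟨_, _, hW, hW⟩, mem_normalizer_of_conj fun u hu => ?_, hW, ?_, ?_, ?_⟩
  · show ∃ v ∈ R, ((2⁻¹ : F) • (1 + mt s + mt t - mt s * mt t)) * mt u =
      mt v * ((2⁻¹ : F) • (1 + mt s + mt t - mt s * mt t))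
    rcases D.sgn u hu s hsR with hus | hus <;> rcases D.sgn u hu t htR with hut | hut
    · refine ⟨u, hu, ?_⟩
      have h1 := (cm hus).symm
      have h2 := (cm hut).symm
      simp only [smul_mul_assoc, mul_smul_comm, mul_add, add_mul, mul_sub, sub_mul, mul_one, one_mul, mul_assoc, h2]
      rw [← mul_assoc (mt s), h1, mul_assoc]
    · refine ⟨u * s, R.mul_mem hu hsR, ?_⟩
      show _ = mt u * mt s * _
      have h1 := (cm hus).symm
      have h2 : mt t * mt u = -(mt u * mt t) := hut.symm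
      have h1' : ∀ M, mt s * (mt u * M) = mt u * (mt s * M) := fun M => by rw [← mul_assoc, h1, mul_assoc]
      simp only [smul_mul_assoc, mul_smul_comm, mul_add, add_mul, mul_sub, sub_mul, mul_one, one_mul, mul_assoc,
        h1, h1', h2, mul_neg, hss, e1]
      module
    · refine ⟨u * t, R.mul_mem hu htR, ?_⟩
      show _ = mt u * mt t * _
      have h1 : mt s * mt u = -(mt u * mt s) := hus.symm
      have h2 := (cm hut).symm
      have h1' : ∀ M, mt s * (mt u * M) = -(mt u * (mt s * M)) := fun M => by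
        rw [← mul_assoc, h1, neg_mul, mul_assoc]
      simp only [smul_mul_assoc, mul_smul_comm, mul_add, add_mul, mul_sub, sub_mul, mul_one, one_mul, mul_assoc,
        h1, h1', h2, htt, ets, e2, e3]
      module
    · refine ⟨u * (s * t) * (f.a * f.a), R.mul_mem (R.mul_mem hu (R.mul_mem hsR htR)) (R.mul_mem f.ha f.ha), ?_⟩
      show _ = mt u * (mt s * mt t) * (mt f.a * mt f.a) * _
      rw [f.saa]
      have h1 : mt s * mt u = -(mt u * mt s) := hus.symm
      have h2 : mt t * mt u = -(mt u * mt t) := hut.symm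
      have h1' : ∀ M, mt s * (mt u * M) = -(mt u * (mt s * M)) := fun M => by
        rw [← mul_assoc, h1, neg_mul, mul_assoc]
      simp only [smul_mul_assoc, mul_smul_comm, mul_add, add_mul, mul_sub, sub_mul, mul_one, one_mul, mul_assoc,
        h1, h1', h2, mul_neg, neg_mul, neg_neg, hss, htt, ets, e1, e2, e3]
      module
  · refine D.not_sc_of_trace hsR (hsd.not_sc D.two) ?_
    show (((2⁻¹ : F) • (1 + mt s + mt t - mt s * mt t)) * mt s).trace ≠ 0
    simp only [smul_mul_assoc, add_mul, sub_mul, one_mul, mul_assoc, hss, ets, e1, Matrix.trace_smul, Matrix.trace_add,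
      Matrix.trace_sub, tr0, D.trace_one, smul_eq_mul]
    simpa using mul_ne_zero (inv_ne_zero D.two) D.four_ne
  · show ((2⁻¹ : F) • (1 + mt s + mt t - mt s * mt t)).trace = 2
    simp only [Matrix.trace_smul, Matrix.trace_add, Matrix.trace_sub, tr0, D.trace_one, smul_eq_mul]
    linear_combination 2 * h22
  · intro A
    show A.T _ * _ = 1
    have hTst : A.T (mt s * mt t) = mt s * mt t := by
      rw [A.map_mul, A.T_mem hsR, A.T_mem htR, inv_of_sq_one hss, inv_of_sq_one htt, ets]
    have hT : A.T ((2⁻¹ : F) • (1 + mt s + mt t - mt s * mt t)) = (2⁻¹ : F) • (1 + mt s + mt t - mt s * mt t) := by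
      rw [sub_eq_add_neg, ← neg_one_smul F (mt s * mt t)]
      simp only [A.map_smul, A.map_add, A.T_one, A.T_mem hsR, A.T_mem htR, hTst, inv_of_sq_one hss,
        inv_of_sq_one htt, map_inv₀, map_ofNat, _root_.map_neg, map_one]
    show A.T ((2⁻¹ : F) • (1 + mt s + mt t - mt s * mt t)) * _ = 1
    rw [hT, hW]

/-! ### Order five -/

section five

namespace Frame

variable (f : Frame R)

/-- Sign of the square of a monomial. -/
def sq2 (q q' : Fin 4) : ℤ := sg (-1) q q * sg 1 q' q'

theorem trace_ev (D : Data R z) (v : Vec) : (f.ev v).trace = 4 * (v 0 0 : F) := by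
  simp only [ev, Matrix.trace_sum, Matrix.trace_smul]
  rw [Finset.sum_eq_single (0 : Fin 4) (fun q _ hq => Finset.sum_eq_zero fun q' _ => by
      rw [f.trace_mono D q q' (fun h => hq h.1), smul_zero]) (by simp),
    Finset.sum_eq_single (0 : Fin 4) (fun q' _ hq' => by
      rw [f.trace_mono D 0 q' (fun h => hq' h.2), smul_zero]) (by simp)]
  simp [mono, pr, D.trace_one, mul_comm, zsmul_eq_mul]

theorem T_ev (A : Adj R) (v : Vec) : A.T (f.ev v) = f.ev fun q q' => v q q' * sq2 q q' := by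
  have hm : ∀ q q', A.T (f.mono q q') = sq2 q q' • f.mono q q' := fun q q' => by
    obtain ⟨g, hg, e⟩ := f.mono_mem q q'
    rw [← e, A.T_mem hg]
    have h := f.mono_mul q q' q q'
    have hxp : ∀ u : Fin 4, xr u u = 0 := by decide
    rw [hxp, hxp, show f.mono 0 0 = (1 : Matrix ι ι F) by simp [mono, pr], ← e] at h
    have hs : ∀ u v : Fin 4, sq2 u v = 1 ∨ sq2 u v = -1 := by decide
    rcases hs q q' with hs | hs
    · rw [hs, one_smul]; exact inv_of_sq_one (by rw [h]; show sq2 q q' • _ = _; rw [hs, one_smul])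
    · rw [hs, neg_one_smul]; exact inv_of_sq_neg (by rw [h]; show sq2 q q' • _ = _; rw [hs, neg_one_smul])
  have hz : ∀ (n : ℤ) (M : Matrix ι ι F), A.T (n • M) = n • A.T M := fun n M =>
    (AddMonoidHom.mk' A.T A.map_add).map_zsmul n M
  have hsum : ∀ (g : Fin 4 → Matrix ι ι F), A.T (∑ i, g i) = ∑ i, A.T (g i) := fun g =>
    map_sum (AddMonoidHom.mk' A.T A.map_add) g _
  simp only [ev, hsum, hz, hm, smul_smul]

end Frame

/-- Coefficients of four times an element of order five. -/
def v5 : Vec := ![![-1, 1, -1, -1], ![-1, 1, 1, 1], ![-1, -1, -1, 1], ![-1, -1, 1, -1]]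

/-- The coefficient array of a monomial. -/
def e16 (q q' : Fin 4) : Vec := fun u u' => if u = q ∧ u' = q' then 1 else 0

/-- An element of order five. -/
theorem Data.exists_five (D : Data R z) (f : Frame R) :
    ∃ y : GL ι F, y ∈ Subgroup.normalizer (R : Set (GL ι F)) ∧ y ^ 5 = 1 ∧ ¬ Sc y ∧ ∀ A : Adj R, A.Isom y := by
  have := D.nonempty
  have := D.finite
  have h4 : (4 : F) ≠ 0 := D.four_ne
  have hscal : ∀ n : ℤ, f.ev (fun u u' => n * e16 0 0 u u') = (n : F) • 1 := fun n => by
    rw [Int.cast_smul_eq_zsmul, ← f.ev_one]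
    simp only [Frame.ev, Finset.smul_sum, smul_smul]
    rfl
  set v5' : Vec := fun q q' => v5 q q' * Frame.sq2 q q' with hv5'
  have hVV : mulC v5' v5 = fun u u' => 16 * e16 0 0 u u' := by rw [hv5']; decide
  have hVV' : mulC v5 v5' = fun u u' => 16 * e16 0 0 u u' := by rw [hv5']; decide
  have hinv : ∀ {u v : Vec}, mulC u v = (fun u u' => 16 * e16 0 0 u u') →
      ((4⁻¹ : F) • f.ev u) * ((4⁻¹ : F) • f.ev v) = 1 := by
    intro u v h
    rw [smul_mul_smul_comm, ← f.ev_mul, h, hscal, smul_smul]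
    rw [show (4⁻¹ : F) * 4⁻¹ * ((16 : ℤ) : F) = 1 by push_cast; rw [show (16 : F) = 4 * 4 by norm_num]; field_simp,
      one_smul]
  set Y : GL ι F := ⟨(4⁻¹ : F) • f.ev v5, (4⁻¹ : F) • f.ev v5', hinv hVV', hinv hVV⟩ with hY
  have himg : ∀ (q q' p p' : Fin 4), mulC v5 (e16 q q') = mulC (e16 p p') v5 →
      ∀ g : GL ι F, mt g = f.mono q q' → Y * g * Y⁻¹ ∈ R := by
    intro q q' p p' h g hg
    obtain ⟨k, hk, ek⟩ := f.mono_mem p p'
    have e : Y * g = k * Y := by
      refine Units.ext ?_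
      show ((4⁻¹ : F) • f.ev v5) * mt g = mt k * ((4⁻¹ : F) • f.ev v5)
      have h' := congrArg f.ev h
      rw [f.ev_mul, f.ev_mul, show f.ev (e16 q q') = f.mono q q' from f.ev_single q q',
        show f.ev (e16 p p') = f.mono p p' from f.ev_single p p'] at h'
      rw [hg, ek, smul_mul_assoc, mul_smul_comm, h']
    rw [e, mul_inv_cancel_right]
    exact hk
  refine ⟨Y, f.mem_normalizer D ?_ ?_ ?_ ?_, ?_, ?_, ?_⟩
  · exact himg 1 0 0 3 (by decide) f.a (by simp [Frame.mono, pr])
  · exact himg 2 0 2 2 (by decide) f.b (by simp [Frame.mono, pr])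
  · exact himg 0 1 1 3 (by decide) f.c (by simp [Frame.mono, pr])
  · exact himg 0 2 3 3 (by decide) f.d (by simp [Frame.mono, pr])
  · refine Units.ext ?_
    rw [Units.val_pow_eq_pow_val, Units.val_one, hY]
    show ((4⁻¹ : F) • f.ev v5) ^ 5 = 1
    have hv : mulC (mulC (mulC v5 v5) (mulC v5 v5)) v5 = fun u u' => 1024 * e16 0 0 u u' := by decide
    have h5 := congrArg f.ev hv
    rw [f.ev_mul, f.ev_mul, f.ev_mul, hscal] at h5
    rw [smul_pow, show f.ev v5 ^ 5 = f.ev v5 * f.ev v5 * (f.ev v5 * f.ev v5) * f.ev v5 by simp [pow_succ, mul_assoc],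
      h5, smul_smul, show (4⁻¹ : F) ^ 5 * ((1024 : ℤ) : F) = 1 by
        push_cast; rw [show (1024 : F) = 4 ^ 5 by norm_num, ← mul_pow, inv_mul_cancel₀ h4, one_pow], one_smul]
  · refine D.not_sc_of_trace f.ha (f.ab.not_sc D.two) ?_
    show (((4⁻¹ : F) • f.ev v5) * mt f.a).trace ≠ 0
    have ha : mt f.a = f.ev (e16 1 0) := by
      rw [show f.ev (e16 1 0) = f.mono 1 0 from f.ev_single 1 0]; simp [Frame.mono, pr]
    rw [ha, smul_mul_assoc, ← f.ev_mul, Matrix.trace_smul, f.trace_ev D,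
      show mulC v5 (e16 1 0) 0 0 = 1 by decide]
    simp [h4]
  · intro A
    show A.T ((4⁻¹ : F) • f.ev v5) * ((4⁻¹ : F) • f.ev v5) = 1
    rw [A.map_smul, f.T_ev, map_inv₀, map_ofNat]
    exact hinv hVV

end five

end CfsgLib.PrimeElusive.SymplType
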