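import Cfsg.Prelude.Def_GeometricClasses
import Cfsg.Agent.Lib.Maximal99.OrderR

/-!
Ranks of `y - c` for elements `y` of a tensor product stabiliser.
-/

set_option autoImplicit false
set_option linter.unusedSectionVars false

namespace CfsgLib.PrimeElusive.Tensor

open Matrix Module
open scoped Kronecker MatrixGroups

variable {F : Type*} [Field F]

/-- A non-scalar matrix moves a vector out of a hyperplane through it. -/
theorem exists_sep {a : ℕ} {g : Matrix (Fin a) (Fin a) F} (hg : ∀ c : F, g ≠ c • 1) :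
    ∃ v φ : Fin a → F, φ ⬝ᵥ v = 0 ∧ φ ⬝ᵥ (g *ᵥ v) = 1 := by
  classical
  suffices h : ∃ v φ : Fin a → F, φ ⬝ᵥ v = 0 ∧ φ ⬝ᵥ (g *ᵥ v) ≠ 0 by
    obtain ⟨v, φ, h1, h2⟩ := h
    exact ⟨v, (φ ⬝ᵥ (g *ᵥ v))⁻¹ • φ, by rw [smul_dotProduct, h1, smul_zero],
      by rw [smul_dotProduct, smul_eq_mul, inv_mul_cancel₀ h2]⟩
  by_cases hoff : ∃ i j, i ≠ j ∧ g i j ≠ 0
  · obtain ⟨i, j, hij, h⟩ := hoff
    exact ⟨Pi.single j 1, Pi.single i 1, by simp [hij.symm], by simpa using h⟩
  · push Not at hoff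
    obtain ⟨i, j, h⟩ : ∃ i j, g i i ≠ g j j := by
      by_contra hd
      push Not at hd
      rcases Nat.eq_zero_or_pos a with rfl | ha
      · exact hg 0 (by ext i; exact i.elim0)
      · refine hg (g ⟨0, ha⟩ ⟨0, ha⟩) ?_
        ext i j
        by_cases hij : i = j
        · subst hij; simpa using hd i ⟨0, ha⟩
        · simp [hij, hoff i j hij]
    have hij : i ≠ j := fun e => h (by rw [e])
    refine ⟨Pi.single i 1 + Pi.single j 1, Pi.single i 1 - Pi.single j 1, ?_, ?_⟩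
    · simp [hij, hij.symm]
    · simpa [Matrix.mulVec_add, hij, hij.symm, hoff i j hij, hoff j i hij.symm, ← sub_eq_add_neg, sub_eq_zero] using h

variable {a b : ℕ}

/-- A non-scalar first factor gives rank at least the second dimension. -/
theorem le_rank_of_left {g : Matrix (Fin a) (Fin a) F} (hg : ∀ c : F, g ≠ c • 1) {h : Matrix (Fin b) (Fin b) F}
    (hh : IsUnit h) (c : F) : b ≤ (g ⊗ₖ h - c • 1).rank := by
  classical
  obtain ⟨v, φ, h1, h2⟩ := exists_sep hg
  let V := (Matrix.replicateRow (Fin 1) φ) ⊗ₖ (1 : Matrix (Fin b) (Fin b) F)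
  let U := (Matrix.replicateCol (Fin 1) v) ⊗ₖ (1 : Matrix (Fin b) (Fin b) F)
  have hA : ∀ A : Matrix (Fin a) (Fin a) F, Matrix.replicateRow (Fin 1) φ * A * Matrix.replicateCol (Fin 1) v =
      (φ ⬝ᵥ (A *ᵥ v)) • 1 := fun A => by
    ext i j
    fin_cases i; fin_cases j
    simp only [Matrix.smul_apply, Matrix.one_apply_eq, smul_eq_mul, mul_one, mul_assoc]
    simp [Matrix.mul_apply, Matrix.mulVec, dotProduct, Finset.mul_sum, Finset.sum_mul]
    rw [Finset.sum_comm]
    simp [mul_assoc]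
  have e : V * (g ⊗ₖ h - c • 1) * U = (1 : Matrix (Fin 1) (Fin 1) F) ⊗ₖ h := by
    simp only [V, U, Matrix.mul_sub, Matrix.sub_mul]
    rw [← Matrix.one_kronecker_one, Matrix.mul_smul, Matrix.smul_mul, ← Matrix.mul_kronecker_mul,
      ← Matrix.mul_kronecker_mul, ← Matrix.mul_kronecker_mul, ← Matrix.mul_kronecker_mul, hA, hA, h2]
    simp [h1]
  have hu : IsUnit ((1 : Matrix (Fin 1) (Fin 1) F) ⊗ₖ h) := by
    obtain ⟨u, rfl⟩ := hh
    exact ⟨⟨_, (1 : Matrix (Fin 1) (Fin 1) F) ⊗ₖ (↑u⁻¹ : Matrix (Fin b) (Fin b) F),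
      (Matrix.mul_kronecker_mul _ _ _ _).symm.trans (by simp), (Matrix.mul_kronecker_mul _ _ _ _).symm.trans (by simp)⟩, rfl⟩
  calc b = ((1 : Matrix (Fin 1) (Fin 1) F) ⊗ₖ h).rank := by rw [Matrix.rank_of_isUnit _ hu]; simp
    _ ≤ (V * (g ⊗ₖ h - c • 1)).rank := e ▸ Matrix.rank_mul_le_left _ _
    _ ≤ _ := Matrix.rank_mul_le_right _ _

/-- Rank of a matrix with several equal blocks. -/
theorem rank_one_kronecker (N : Matrix (Fin b) (Fin b) F) :
    ((1 : Matrix (Fin a) (Fin a) F) ⊗ₖ N).rank = a * N.rank := by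
  classical
  set M := (1 : Matrix (Fin a) (Fin a) F) ⊗ₖ N
  have happ : ∀ (X : Fin a × Fin b → F) i j, (M *ᵥ X) (i, j) = (N *ᵥ fun j' => X (i, j')) j := fun X i j => by
    simp [M, Matrix.mulVec, dotProduct, Fintype.sum_prod_type, Matrix.one_apply]
  let L : (Fin a → ↥(LinearMap.range N.mulVecLin)) →ₗ[F] (Fin a × Fin b → F) :=
    { toFun := fun w k => (w k.1 : Fin b → F) k.2
      map_add' := fun u w => rfl
      map_smul' := fun c w => rfl }
  have hL : Function.Injective L := fun u w h =>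
    funext fun i => Subtype.ext (funext fun j => congrFun h (i, j))
  have hr : LinearMap.range M.mulVecLin = LinearMap.range L := by
    refine le_antisymm ?_ ?_
    · rintro _ ⟨X, rfl⟩
      exact ⟨fun i => ⟨N *ᵥ fun j' => X (i, j'), ⟨_, rfl⟩⟩, funext fun k => (happ X k.1 k.2).symm⟩
    · rintro _ ⟨w, rfl⟩
      choose u hu using fun i => (w i).2
      exact ⟨fun k => u k.1 k.2, funext fun k => by
        rw [Matrix.mulVecLin_apply, happ, ← Matrix.mulVecLin_apply, hu]; rfl⟩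
  rw [Matrix.rank, hr, LinearMap.finrank_range_of_inj hL, Module.finrank_pi_fintype, Matrix.rank]
  simp

theorem eq_zero_of_rank {m : Type*} [Fintype m] [DecidableEq m] {M : Matrix m m F} (h : M.rank = 0) : M = 0 := by
  rw [Matrix.rank, Submodule.finrank_eq_zero, LinearMap.range_eq_bot] at h
  exact Matrix.ext_iff_mulVec.2 fun v => by
    rw [← Matrix.mulVecLin_apply, h]; simp

/-- The rank of `h - 1` for `h ^ r = 1`. -/
theorem dvd_rank [Fintype F] {κ : Type*} [Fintype κ] [DecidableEq κ] {h : Matrix κ κ F} {r q : ℕ} [Fact r.Prime]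
    (hq : Fintype.card F = q) (hr : (r : F) ≠ 0) (hh : h ^ r = 1) : orderOf (q : ZMod r) ∣ (h - 1).rank := by
  set T : Module.End F (κ → F) := Matrix.toLinAlgEquiv' h
  have hT : T ^ r = 1 := by rw [← map_pow, hh, map_one]
  have hcompl := CfsgLib.OrderR.isCompl_fix_move T hT hr
  have e : Matrix.mulVecLin (h - 1) = T - 1 := LinearMap.ext fun v => by
    simp [T, Matrix.toLinAlgEquiv'_apply, Matrix.sub_mulVec]
  rw [Matrix.rank, e]
  refine CfsgLib.OrderR.orderOf_dvd_finrank T hq hT _ ?_ fun v hv hfix => ?_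
  · rintro _ ⟨_, ⟨w, rfl⟩, rfl⟩
    exact ⟨T w, by simp⟩
  · exact Submodule.disjoint_def.1 hcompl.disjoint v (by simp [hfix]) hv

variable {ι : Type} [Fintype ι] [DecidableEq ι]

theorem rank_conj (P : GL ι F) (M : Matrix ι ι F) :
    ((P : Matrix ι ι F) * M * ((P⁻¹ : GL ι F) : Matrix ι ι F)).rank = M.rank := by
  refine le_antisymm ((Matrix.rank_mul_le_left _ _).trans (Matrix.rank_mul_le_right _ _)) ?_
  set M' := (P : Matrix ι ι F) * M * ((P⁻¹ : GL ι F) : Matrix ι ι F)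
  have e : M = ((P⁻¹ : GL ι F) : Matrix ι ι F) * M' * (P : Matrix ι ι F) := by simp [M', mul_assoc]
  calc M.rank ≤ (((P⁻¹ : GL ι F) : Matrix ι ι F) * M').rank := e ▸ Matrix.rank_mul_le_left _ _
    _ ≤ _ := Matrix.rank_mul_le_right _ _

theorem rank_conj_sub (g x : GL ι F) (c : F) :
    (((g⁻¹ * x * g : GL ι F) : Matrix ι ι F) - c • 1).rank = ((x : Matrix ι ι F) - c • 1).rank := by
  rw [← rank_conj g⁻¹ ((x : Matrix ι ι F) - c • 1)]
  simp [mul_sub, sub_mul]

/-- An element of the stabiliser in standard form. -/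
theorem exists_kron {e : ι ≃ Fin a × Fin b} {P y : GL ι F} (hy : y ∈ Cfsg.Geo.tensorProductSubgroup a b e P) :
    ∃ (g : GL (Fin a) F) (h : GL (Fin b) F),
      (y : Matrix ι ι F) = (P : Matrix ι ι F) * Matrix.reindex e.symm e.symm
        ((g : Matrix (Fin a) (Fin a) F) ⊗ₖ (h : Matrix (Fin b) (Fin b) F)) * ((P⁻¹ : GL ι F) : Matrix ι ι F) := by
  obtain ⟨_, ⟨k, ⟨g, h, hk⟩, rfl⟩, rfl⟩ := hy
  exact ⟨g, h, by
    show (P : Matrix ι ι F) * Matrix.reindexAlgEquiv F F e.symm (k : Matrix _ _ F) * _ = _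
    rw [hk]; rfl⟩

theorem rank_eq {e : ι ≃ Fin a × Fin b} {P : GL ι F} {y : Matrix ι ι F} {K : Matrix (Fin a × Fin b) (Fin a × Fin b) F}
    (hy : y = (P : Matrix ι ι F) * Matrix.reindex e.symm e.symm K * ((P⁻¹ : GL ι F) : Matrix ι ι F)) (c : F) :
    (y - c • 1).rank = (K - c • 1).rank := by
  have e1 : y - c • 1 =
      (P : Matrix ι ι F) * Matrix.reindex e.symm e.symm (K - c • 1) * ((P⁻¹ : GL ι F) : Matrix ι ι F) := by
    have hone : Matrix.reindex e.symm e.symm (K - c • 1) = Matrix.reindex e.symm e.symm K - c • 1 := by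
      change Matrix.reindexAlgEquiv F F e.symm (K - c • 1) = Matrix.reindexAlgEquiv F F e.symm K - c • 1
      simp [Matrix.submatrix_sub, Matrix.submatrix_smul]
    rw [hone, hy]; simp [mul_sub, sub_mul]
  rw [e1, rank_conj, Matrix.rank_reindex]

theorem kron_scalar_left (s : F) (h : Matrix (Fin b) (Fin b) F) (c : F) :
    (s • (1 : Matrix (Fin a) (Fin a) F)) ⊗ₖ h - c • 1 = (1 : Matrix (Fin a) (Fin a) F) ⊗ₖ (s • h - c • 1) := by
  ext ⟨i, j⟩ ⟨i', j'⟩
  by_cases hi : i = i' <;> by_cases hj : j = j' <;> simp [hi, hj]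

/-- Either all ranks are at least `b`, or all are multiples of `a`. -/
theorem rank_cases {e : ι ≃ Fin a × Fin b} {P y : GL ι F} (hy : y ∈ Cfsg.Geo.tensorProductSubgroup a b e P) :
    (∀ c : F, b ≤ ((y : Matrix ι ι F) - c • 1).rank) ∨ (∀ c : F, a ∣ ((y : Matrix ι ι F) - c • 1).rank) := by
  obtain ⟨g, h, e1⟩ := exists_kron hy
  by_cases hg : ∀ c : F, (g : Matrix (Fin a) (Fin a) F) ≠ c • 1
  · exact Or.inl fun c => (rank_eq e1 c).symm ▸ le_rank_of_left hg h.isUnit c
  · push Not at hg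
    obtain ⟨s, hs⟩ := hg
    refine Or.inr fun c => ?_
    rw [rank_eq e1 c, hs, kron_scalar_left, rank_one_kronecker]
    exact dvd_mul_right _ _

/-- An element of order `r` prime to `q - 1` with smallest moving space is outside, when `2 ≤ a < b`. -/
theorem not_mem_of_move [Fintype F] {e : ι ≃ Fin a × Fin b} {P y : GL ι F} {r q : ℕ} [Fact r.Prime]
    (hq : Fintype.card F = q) (hr : (r : F) ≠ 0) (hcop : Nat.Coprime (q - 1) r) (ha : 2 ≤ a) (hab : a < b)
    (hyr : y ^ r = 1) (hi0 : 0 < orderOf (q : ZMod r))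
    (hy1 : ((y : Matrix ι ι F) - 1).rank = orderOf (q : ZMod r)) :
    y ∉ Cfsg.Geo.tensorProductSubgroup a b e P := by
  classical
  intro hy
  obtain ⟨g, h, e1⟩ := exists_kron hy
  set i := orderOf (q : ZMod r) with hi
  have e2 : ((y ^ r : GL ι F) : Matrix ι ι F) = (P : Matrix ι ι F) * Matrix.reindex e.symm e.symm
      (((g ^ r : GL (Fin a) F) : Matrix (Fin a) (Fin a) F) ⊗ₖ ((h ^ r : GL (Fin b) F) : Matrix (Fin b) (Fin b) F)) *
      ((P⁻¹ : GL ι F) : Matrix ι ι F) := by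
    have hp : ∀ m : ℕ, ((g : Matrix (Fin a) (Fin a) F) ⊗ₖ (h : Matrix (Fin b) (Fin b) F)) ^ m =
        ((g : Matrix (Fin a) (Fin a) F) ^ m) ⊗ₖ ((h : Matrix (Fin b) (Fin b) F) ^ m) := by
      intro m
      induction m with
      | zero => simp
      | succ m ih => rw [pow_succ, ih, ← Matrix.mul_kronecker_mul, ← pow_succ, ← pow_succ]
    rw [Units.val_pow_eq_pow_val, e1, Units.val_pow_eq_pow_val, Units.val_pow_eq_pow_val, ← hp]
    change ((P : Matrix ι ι F) * Matrix.reindexAlgEquiv F F e.symm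
      ((g : Matrix (Fin a) (Fin a) F) ⊗ₖ (h : Matrix (Fin b) (Fin b) F)) * ((P⁻¹ : GL ι F) : Matrix ι ι F)) ^ r =
      (P : Matrix ι ι F) * Matrix.reindexAlgEquiv F F e.symm
        (((g : Matrix (Fin a) (Fin a) F) ⊗ₖ (h : Matrix (Fin b) (Fin b) F)) ^ r) * ((P⁻¹ : GL ι F) : Matrix ι ι F)
    rw [map_pow, Units.conj_pow]
  have hK := rank_eq e2 1
  rw [hyr] at hK
  simp at hK
  have hy1' := rank_eq e1 1
  rw [one_smul, hy1, one_smul] at hy1'
  by_cases hg : ∀ c : F, (g : Matrix (Fin a) (Fin a) F) ≠ c • 1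
  · -- then the first factor moves at most `a` dimensions
    have hgr : ¬ ∀ c : F, ((g ^ r : GL (Fin a) F) : Matrix (Fin a) (Fin a) F) ≠ c • 1 := fun hgr => by
      have := le_rank_of_left hgr (h ^ r).isUnit 1
      simp [← hK] at this
      omega
    push Not at hgr
    obtain ⟨s, hs⟩ := hgr
    have hs0 : s ≠ 0 := by
      intro h0
      have : NeZero a := ⟨by omega⟩
      exact (g ^ r).isUnit.ne_zero (by rw [hs, h0, zero_smul])
    obtain ⟨t, ht⟩ : ∃ t : F, t ^ r = s := by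
      have hcop' : (Nat.card Fˣ).Coprime r := by
        rwa [Nat.card_units, Nat.card_eq_fintype_card, hq]
      refine ⟨(((powCoprime hcop').symm (Units.mk0 s hs0) : Fˣ) : F), ?_⟩
      rw [← Units.val_pow_eq_pow_val]
      exact congrArg Units.val ((powCoprime hcop').apply_symm_apply (Units.mk0 s hs0))
    have ht0 : t ≠ 0 := fun h0 => hs0 (by rw [← ht, h0, zero_pow (Fact.out : r.Prime).ne_zero])
    have hg' : (t⁻¹ • (g : Matrix (Fin a) (Fin a) F)) ^ r = 1 := by
      rw [_root_.smul_pow, ← Units.val_pow_eq_pow_val, hs, smul_smul, ← ht, ← mul_pow, inv_mul_cancel₀ ht0, one_pow,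
        one_smul]
    have hd := dvd_rank hq hr hg'
    have hpos : (t⁻¹ • (g : Matrix (Fin a) (Fin a) F) - 1).rank ≠ 0 := fun h0 => by
      have := eq_zero_of_rank h0
      rw [sub_eq_zero] at this
      refine hg t ?_
      rw [← this, smul_smul, mul_inv_cancel₀ ht0, one_smul]
    have h1 := Nat.le_of_dvd (Nat.pos_of_ne_zero hpos) hd
    have h2 : (t⁻¹ • (g : Matrix (Fin a) (Fin a) F) - 1).rank ≤ a :=
      (Matrix.rank_le_card_width _).trans_eq (Fintype.card_fin a)
    have h3 := le_rank_of_left hg h.isUnit 1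
    rw [one_smul, ← hy1'] at h3
    omega
  · push Not at hg
    obtain ⟨s, hs⟩ := hg
    rw [hs] at hy1'
    have e3 := kron_scalar_left (a := a) s (h : Matrix (Fin b) (Fin b) F) 1
    rw [one_smul, one_smul] at e3
    rw [e3, rank_one_kronecker] at hy1'
    rw [hs, _root_.smul_pow, one_pow] at hK
    have e4 := kron_scalar_left (a := a) (s ^ r) ((h : Matrix (Fin b) (Fin b) F) ^ r) 1
    rw [one_smul, one_smul] at e4
    rw [e4, rank_one_kronecker] at hK
    have hh : (s • (h : Matrix (Fin b) (Fin b) F)) ^ r = 1 := by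
      rw [_root_.smul_pow, ← sub_eq_zero]
      refine eq_zero_of_rank ?_
      rcases Nat.mul_eq_zero.1 hK.symm with h | h
      · omega
      · exact h
    have hd := dvd_rank hq hr hh
    obtain ⟨m, hm⟩ := hd
    rw [hm, ← hi] at hy1'
    rcases Nat.eq_zero_or_pos m with rfl | hm0
    · rw [mul_zero, mul_zero] at hy1'; omega
    · have h2 : 2 * (i * 1) ≤ a * (i * m) := Nat.mul_le_mul ha (Nat.mul_le_mul_left _ hm0)
      omega

end CfsgLib.PrimeElusive.Tensor
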