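import Cfsg.Agent.Lib.PrimeElusive.Structures
import Cfsg.Agent.Helper57NilpJordan

/-!
Elements of order `p` modulo scalars and their invariant complementary pairs.
-/

set_option autoImplicit false

namespace CfsgLib.PrimeElusive

open Module CfsgLib.RankProfile

theorem exists_finset_of_le_map {ι : Type*} [DecidableEq ι] (d : ι → ℕ) :
    ∀ (s : Finset ι) (ν : Multiset ℕ), ν ≤ s.val.map d → ∃ t ⊆ s, t.val.map d = ν := by
  intro s
  induction s using Finset.induction_on with
  | empty =>
    intro ν hν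
    exact ⟨∅, Finset.Subset.refl _, (Multiset.le_zero.1 (by simpa using hν)).symm⟩
  | insert a s ha ih =>
    intro ν hν
    rw [Finset.insert_val_of_notMem ha, Multiset.map_cons] at hν
    by_cases hmem : d a ∈ ν
    · obtain ⟨t, ht, htν⟩ := ih (ν.erase (d a)) (by
        have := Multiset.erase_le_erase (d a) hν
        rwa [Multiset.erase_cons_head] at this)
      refine ⟨insert a t, Finset.insert_subset_insert a ht, ?_⟩
      rw [Finset.insert_val_of_notMem fun h => ha (ht h), Multiset.map_cons, htν, Multiset.cons_erase hmem]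
    · obtain ⟨t, ht, htν⟩ := ih ν ((Multiset.le_cons_of_notMem hmem).1 hν)
      exact ⟨t, ht.trans (Finset.subset_insert a s), htν⟩

theorem partition_two {n m : ℕ} (hmn : 2 * m < n) :
    (∀ μ : Multiset ℕ, (∀ a ∈ μ, 0 < a ∧ a ≤ 2) → μ.sum = n → ∃ ν : Multiset ℕ, ν ≤ μ ∧ ν.sum = m) ↔
      (Odd n ∨ Even m) := by
  constructor
  · intro h
    by_contra hne
    rw [not_or, Nat.not_odd_iff_even] at hne
    obtain ⟨⟨k, hk⟩, hm⟩ := hne
    obtain ⟨ν, hν, hνs⟩ := h (Multiset.replicate k 2)
      (fun a ha => by rw [Multiset.eq_of_mem_replicate ha]; omega) (by rw [Multiset.sum_replicate, smul_eq_mul]; omega)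
    obtain ⟨j, -, rfl⟩ := Multiset.le_replicate_iff.1 hν
    rw [Multiset.sum_replicate, smul_eq_mul] at hνs
    exact hm ⟨j, by omega⟩
  · intro h μ hμ hsum
    have hdec : μ = Multiset.replicate (μ.count 1) 1 + Multiset.replicate (μ.count 2) 2 := by
      refine Multiset.ext.2 fun a => ?_
      rw [Multiset.count_add, Multiset.count_replicate, Multiset.count_replicate]
      by_cases ha : a ∈ μ
      · obtain ⟨h1, h2⟩ := hμ a ha
        interval_cases a <;> simp
      · rw [Multiset.count_eq_zero_of_notMem ha]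
        split_ifs with h1 h2 h2
        · omega
        · subst h1; rw [Multiset.count_eq_zero_of_notMem ha]
        · subst h2; rw [Multiset.count_eq_zero_of_notMem ha]
        · rfl
    generalize μ.count 1 = a at hdec
    generalize μ.count 2 = b at hdec
    subst hdec
    rw [Multiset.sum_add, Multiset.sum_replicate, Multiset.sum_replicate, smul_eq_mul, smul_eq_mul, mul_one] at hsum
    obtain ⟨a', b', ha', hb', he⟩ : ∃ a' b', a' ≤ a ∧ b' ≤ b ∧ a' + b' * 2 = m := by
      have hpar : 0 < a ∨ m % 2 = 0 := by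
        rcases h with ⟨k, hk⟩ | ⟨k, hk⟩
        · left; omega
        · right; omega
      exact ⟨m - (min b (m / 2)) * 2, min b (m / 2), by omega, by omega, by omega⟩
    refine ⟨Multiset.replicate a' 1 + Multiset.replicate b' 2,
      add_le_add ((Multiset.replicate_le_replicate 1).2 ha') ((Multiset.replicate_le_replicate 2).2 hb'), ?_⟩
    rw [Multiset.sum_add, Multiset.sum_replicate, Multiset.sum_replicate, smul_eq_mul, smul_eq_mul, mul_one, he]

variable {F : Type*} [Field F] [Fintype F] {p : ℕ} [Fact p.Prime] [CharP F p]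

omit [Fintype F] in
theorem sub_one_pow_eq {V : Type*} [AddCommGroup V] [Module F V] (T : Module.End F V) :
    (T - 1) ^ p = T ^ p - 1 := by
  have h : ((Polynomial.X - 1 : Polynomial F)) ^ p = Polynomial.X ^ p - 1 := by
    rw [sub_pow_char, one_pow]
  simpa using congrArg (Polynomial.aeval T) h

omit [Fintype F] in
theorem hasPair_unipotent {V : Type*} [AddCommGroup V] [Module F V] [FiniteDimensional F V] {m : ℕ}
    (h : ∀ μ : Multiset ℕ, (∀ a ∈ μ, 0 < a ∧ a ≤ p) → μ.sum = finrank F V → ∃ ν : Multiset ℕ, ν ≤ μ ∧ ν.sum = m)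
    {T : Module.End F V} (hT : T ^ p = 1) : HasPair m T := by
  classical
  have hN : (T - 1) ^ p = 0 := by rw [sub_one_pow_eq, hT, sub_self]
  obtain ⟨C⟩ := Cfsg.Agent.Jordan57.exists_chains (f := T - 1) ⟨p, hN⟩
  have hd : ∀ k, C.d k ≤ p := by
    intro k
    by_contra hlt
    refine C.b.ne_zero ⟨k, ⟨p, not_le.1 hlt⟩⟩ ?_
    rw [C.b_apply]
    show ((T - 1) ^ p) (C.gen k) = 0
    rw [hN, LinearMap.zero_apply]
  have hsum : C.parts.sum = finrank F V := by
    rw [Module.finrank_eq_card_basis C.b, Fintype.card_sigma]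
    simp [Cfsg.Agent.Jordan57.Chains.parts, Finset.sum]
  obtain ⟨ν, hν, hνs⟩ := h C.parts (fun a ha => ⟨C.parts_pos a ha, by
    obtain ⟨k, -, rfl⟩ := Multiset.mem_map.1 ha
    exact hd k⟩) hsum
  obtain ⟨t, -, ht⟩ := exists_finset_of_le_map C.d Finset.univ ν hν
  refine hasPair_piece C.b Sigma.fst (fun i => ?_) (t : Set (Fin C.r)) ?_
  · have h1 := C.pow_b 1 i
    rw [pow_one, LinearMap.sub_apply, Module.End.one_apply, sub_eq_iff_eq_add] at h1
    rw [h1]
    refine Submodule.add_mem _ ?_ (Submodule.subset_span (Set.mem_image_of_mem _ rfl))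
    split_ifs with hlt
    · exact Submodule.subset_span (Set.mem_image_of_mem _ rfl)
    · exact Submodule.zero_mem _
  · have he : ↥((Sigma.fst : ((k : Fin C.r) × Fin (C.d k)) → Fin C.r) ⁻¹' (t : Set (Fin C.r))) ≃
        ((k : t) × Fin (C.d k)) :=
      { toFun := fun x => ⟨⟨x.1.1, x.2⟩, x.1.2⟩
        invFun := fun x => ⟨⟨x.1.1, x.2⟩, x.1.2⟩
        left_inv := fun x => rfl
        right_inv := fun x => rfl }
    rw [Nat.card_congr he, Nat.card_eq_fintype_card, Fintype.card_sigma, ← hνs, ← ht]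
    simp only [Fintype.card_fin]
    exact Finset.sum_coe_sort t C.d

theorem pairs_char_iff {n m : ℕ} (hn : 0 < n) (hm : m ≤ n) :
    (∀ x : Matrix.SpecialLinearGroup (Fin n) F,
      (∃ c : F, ((x ^ p : Matrix.SpecialLinearGroup (Fin n) F) : Matrix (Fin n) (Fin n) F) = c • (1 : Matrix (Fin n) (Fin n) F)) →
      (∀ c : F, (x : Matrix (Fin n) (Fin n) F) ≠ c • (1 : Matrix (Fin n) (Fin n) F)) →
      HasPair m (Matrix.toLin' (x : Matrix (Fin n) (Fin n) F))) ↔
    (∀ μ : Multiset ℕ, (∀ a ∈ μ, 0 < a ∧ a ≤ p) → μ.sum = n → ∃ ν : Multiset ℕ, ν ≤ μ ∧ ν.sum = m) := by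
  have hfin : finrank F (Fin n → F) = n := Module.finrank_fin_fun F
  constructor
  · intro H μ hμ hsum
    obtain ⟨N, hN⟩ := exists_end_of_partition F μ hsum
    have hNp : N ^ p = 0 := by
      have h0 := hN p
      rw [imDim_top, partProfile_eq_zero fun a ha => (hμ a ha).2, Submodule.finrank_eq_zero,
        LinearMap.range_eq_bot] at h0
      exact h0
    have hT : (1 + N) ^ p = 1 := by
      have := sub_one_pow_eq (p := p) (1 + N)
      rw [add_sub_cancel_left, hNp] at this
      exact sub_eq_zero.1 this.symm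
    have hdet : LinearMap.det (1 + N) = 1 := by
      have h1 := congrArg LinearMap.det hT
      rw [map_pow, map_one] at h1
      have h2 : (LinearMap.det (1 + N) - 1) ^ p = 0 := by rw [sub_pow_char, h1, one_pow, sub_self]
      exact sub_eq_zero.1 (eq_zero_of_pow_eq_zero h2)
    let x : Matrix.SpecialLinearGroup (Fin n) F :=
      ⟨LinearMap.toMatrix' (1 + N), by rw [LinearMap.det_toMatrix', hdet]⟩
    have hx : Matrix.toLin' (x : Matrix (Fin n) (Fin n) F) = 1 + N := Matrix.toLin'_toMatrix' _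
    have hP : HasPair m (1 + N) := by
      by_cases hs : ∃ s : F, (x : Matrix (Fin n) (Fin n) F) = s • (1 : Matrix (Fin n) (Fin n) F)
      · obtain ⟨s, hs⟩ := hs
        rw [← hx, hs, map_smul, Matrix.toLin'_one]
        exact (hasPair_one (by omega)).smul s
      · push Not at hs
        rw [← hx]
        refine H x ⟨1, ?_⟩ hs
        rw [Matrix.SpecialLinearGroup.coe_pow, one_smul]
        apply Matrix.toLin'.injective
        rw [Matrix.toLin'_pow, hx, hT, Matrix.toLin'_one]
        rfl
    obtain ⟨U, W, hc, hd, hU, hW⟩ := hP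
    have hinv : ∀ S : Submodule F (Fin n → F), S.map (1 + N) ≤ S → S.map N ≤ S := by
      rintro S hS _ ⟨v, hv, rfl⟩
      have := S.sub_mem (hS (Submodule.mem_map_of_mem hv)) hv
      simpa using this
    obtain ⟨ν, ν', rfl, hν, -⟩ := exists_sub_partition N (fun a ha => (hμ a ha).1) hN (hinv U hU) (hinv W hW) hc
    refine ⟨ν, Multiset.le_add_right _ _, ?_⟩
    rw [← partProfile_zero ν, hν, imDim_zero, hd]
  · intro h x ⟨c, hxc⟩ _
    obtain ⟨d, hd⟩ : ∃ d : F, d ^ p = c := surjective_frobenius F p c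
    have hTc : (Matrix.toLin' (x : Matrix (Fin n) (Fin n) F)) ^ p = c • 1 := by
      rw [← Matrix.toLin'_pow, ← Matrix.SpecialLinearGroup.coe_pow, hxc, map_smul, Matrix.toLin'_one]
      rfl
    have hc0 : c ≠ 0 := det_scalar_ne hn (x ^ p) hxc
    have hd0 : d ≠ 0 := by rintro rfl; exact hc0 (by rw [← hd, zero_pow (Fact.out : p.Prime).ne_zero])
    have h1 : (d⁻¹ • Matrix.toLin' (x : Matrix (Fin n) (Fin n) F) : Module.End F (Fin n → F)) ^ p = 1 := by
      rw [smul_pow, hTc, smul_smul, ← hd, ← mul_pow, inv_mul_cancel₀ hd0, one_pow, one_smul]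
    have := (hasPair_unipotent (m := m) (by rwa [hfin]) h1).smul d
    rwa [smul_smul, mul_inv_cancel₀ hd0, one_smul] at this

end CfsgLib.PrimeElusive
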