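import Mathlib
import Cfsg.Prelude.Def_Classical
import Cfsg.Agent.Lib.GeomClasses.Unit
import Cfsg.Agent.Lib.GeomClasses.UnitPow
import Cfsg.Agent.Lib.ClassicalGroups.HermGroup

/-!
Pairs of complementary totally isotropic subspaces of the standard hermitian space of dimension `2m`:
bases in duality, transitivity of `SU`, elements acting as `A` and its conjugate-inverse-transpose, and the
parity of ranks of elements fixing such a pair.
-/

set_option autoImplicit false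
set_option linter.unusedSectionVars false
set_option linter.unusedVariables false

open scoped MatrixGroups

namespace CfsgLib.PrimeElusive.UnitPair

open Matrix CfsgLib.GeomClasses

variable {F : Type*} [Field F] [Fintype F] {q n : ℕ}

/-- A pair of disjoint totally isotropic `m`-spaces. -/
structure IsPolarPair (q : ℕ) (m : ℕ) (P₀ P₁ : Submodule F (Fin n → F)) : Prop where
  rank₀ : Module.finrank F P₀ = m
  rank₁ : Module.finrank F P₁ = m
  iso₀ : ∀ u ∈ P₀, ∀ v ∈ P₀, Cfsg.hermForm n F q u v = 0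
  iso₁ : ∀ u ∈ P₁, ∀ v ∈ P₁, Cfsg.hermForm n F q u v = 0
  disj : Disjoint P₀ P₁

theorem IsPolarPair.swap {m : ℕ} {P₀ P₁ : Submodule F (Fin n → F)} (P : IsPolarPair q m P₀ P₁) :
    IsPolarPair q m P₁ P₀ :=
  ⟨P.rank₁, P.rank₀, P.iso₁, P.iso₀, P.disj.symm⟩

variable {m : ℕ} {P₀ P₁ : Submodule F (Fin n → F)}

theorem sup_eq_top (P : IsPolarPair q m P₀ P₁) (hn : n = 2 * m) : P₀ ⊔ P₁ = ⊤ := by
  refine Submodule.eq_top_of_finrank_eq ?_
  have h := Submodule.finrank_sup_add_finrank_inf_eq P₀ P₁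
  rw [P.disj.eq_bot, finrank_bot, P.rank₀, P.rank₁] at h
  rw [Module.finrank_fintype_fun_eq_card, Fintype.card_fin]
  omega

theorem decompose (P : IsPolarPair q m P₀ P₁) (hn : n = 2 * m) (v : Fin n → F) :
    ∃ a ∈ P₀, ∃ b ∈ P₁, a + b = v :=
  Submodule.mem_sup.1 (sup_eq_top P hn ▸ Submodule.mem_top)

/-- Coordinates adapted to a pair of isotropic subspaces. -/
theorem exists_coord (hF : Fintype.card F = q ^ 2) (P : IsPolarPair q m P₀ P₁) (hn : n = 2 * m) :
    ∃ Φ : (Fin m ⊕ Fin m → F) ≃ₗ[F] (Fin n → F),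
      (∀ a b, Cfsg.hermForm n F q (Φ a) (Φ b) =
        ∑ i, (a (Sum.inl i) * b (Sum.inr i) ^ q + a (Sum.inr i) * b (Sum.inl i) ^ q)) ∧
      (∀ a : Fin m → F, Φ (Sum.elim a 0) ∈ P₀) ∧ (∀ b : Fin m → F, Φ (Sum.elim 0 b) ∈ P₁) := by
  classical
  have hu := UnitPow.isUnitaryForm_hermForm hF n
  set h := Cfsg.hermForm n F q
  have iso₀ : ∀ u ∈ P₀, ∀ v ∈ P₀, h u v = 0 := P.iso₀
  have iso₁ : ∀ u ∈ P₁, ∀ v ∈ P₁, h u v = 0 := P.iso₁
  let e := Module.finBasisOfFinrankEq F P₀ P.rank₀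
  let T : P₁ →ₗ[F] (Fin m → F) :=
    { toFun := fun w i => h (w : Fin n → F) (e i : Fin n → F)
      map_add' := fun x y => funext fun i => Unit.add_left hu _ _ _
      map_smul' := fun c x => funext fun i => Unit.smul_left hu _ _ _ }
  have hT : Function.Injective T := by
    rw [injective_iff_map_eq_zero]
    intro w hw
    refine Subtype.ext (by_contra fun hne => ?_)
    obtain ⟨x, hx⟩ := (hu.nondegenerate _ hne).2
    refine hx ?_
    obtain ⟨a, ha, b, hb, rfl⟩ := decompose P hn x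
    rw [Unit.add_right hu, iso₁ _ w.2 _ hb, add_zero]
    have hae : (a : Fin n → F) = ∑ i, (e.repr ⟨a, ha⟩ i) • (e i : Fin n → F) := by
      conv_lhs => rw [show a = ((⟨a, ha⟩ : P₀) : Fin n → F) from rfl, ← e.sum_repr ⟨a, ha⟩]
      simp only [Submodule.coe_sum, Submodule.coe_smul]
    rw [hae, (Unit.sesq hu).sum_right]
    exact Finset.sum_eq_zero fun i _ => by
      rw [Unit.smul_right hu, show h (w : Fin n → F) (e i : Fin n → F) = 0 from congrFun hw i, mul_zero]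
  let T' := LinearEquiv.ofInjectiveOfFinrankEq T hT (by rw [P.rank₁]; simp)
  let f : Fin m → P₁ := fun j => T'.symm (Pi.single j 1)
  have hef : ∀ j i, h (f j : Fin n → F) (e i : Fin n → F) = (Pi.single j (1 : F) : Fin m → F) i := fun j i =>
    congrFun (T'.apply_symm_apply (Pi.single j 1)) i
  let L₀ : (Fin m → F) →ₗ[F] (Fin n → F) := P₀.subtype ∘ₗ (e.equivFun.symm : (Fin m → F) ≃ₗ[F] P₀).toLinearMap
  let L₁ : (Fin m → F) →ₗ[F] (Fin n → F) := P₁.subtype ∘ₗ (T'.symm : (Fin m → F) ≃ₗ[F] P₁).toLinearMap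
  let L : (Fin m ⊕ Fin m → F) →ₗ[F] (Fin n → F) :=
    L₀ ∘ₗ LinearMap.funLeft F F Sum.inl + L₁ ∘ₗ LinearMap.funLeft F F Sum.inr
  have hL : ∀ c, L c = L₀ (c ∘ Sum.inl) + L₁ (c ∘ Sum.inr) := fun c => rfl
  have hL₀ : ∀ a, L₀ a ∈ P₀ := fun a => Submodule.coe_mem _
  have hL₁ : ∀ a, L₁ a ∈ P₁ := fun a => Submodule.coe_mem _
  have hinj : Function.Injective L := by
    rw [injective_iff_map_eq_zero]
    intro c hc
    rw [hL] at hc
    have h0 : L₀ (c ∘ Sum.inl) = 0 := Submodule.disjoint_def.1 P.disj _ (hL₀ _)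
      (by rw [eq_neg_of_add_eq_zero_left hc]; exact P₁.neg_mem (hL₁ _))
    rw [h0, zero_add] at hc
    have h0' : c ∘ Sum.inl = 0 :=
      e.equivFun.symm.map_eq_zero_iff.1 (Subtype.ext h0)
    have h1' : c ∘ Sum.inr = 0 := T'.symm.map_eq_zero_iff.1 (Subtype.ext hc)
    funext x
    rcases x with i | i
    · exact congrFun h0' i
    · exact congrFun h1' i
  let Φ := LinearEquiv.ofInjectiveOfFinrankEq L hinj (by simp; omega)
  refine ⟨Φ, fun a b => ?_, fun a => ?_, fun b => ?_⟩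
  · show h (L a) (L b) = _
    have key : ∀ (w : P₁) (c : Fin m → F), h (w : Fin n → F) (L₀ c) = ∑ i, T' w i * c i ^ q := fun w c => by
      have : L₀ c = ∑ i, c i • (e i : Fin n → F) := by
        show ((e.equivFun.symm c : P₀) : Fin n → F) = _
        rw [Module.Basis.equivFun_symm_apply, Submodule.coe_sum]
        rfl
      rw [this, (Unit.sesq hu).sum_right]
      refine Finset.sum_congr rfl fun i _ => ?_
      rw [Unit.smul_right hu, UnitPow.conj_apply, mul_comm]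
      rfl
    have k1 : ∀ x c : Fin m → F, h (L₁ x) (L₀ c) = ∑ i, x i * c i ^ q := fun x c => by
      have := key (T'.symm x) c
      rw [T'.apply_symm_apply] at this
      exact this
    have k0 : ∀ c x : Fin m → F, h (L₀ c) (L₁ x) = ∑ i, c i * x i ^ q := fun c x => by
      rw [← Unit.conj_form hu, k1, map_sum]
      refine Finset.sum_congr rfl fun i _ => ?_
      rw [map_mul, UnitPow.conj_apply, UnitPow.conj_apply, ← pow_mul, ← pow_two, ← hF, FiniteField.pow_card,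
        mul_comm]
    rw [hL, hL, Unit.add_left hu, Unit.add_right hu, Unit.add_right hu, iso₀ _ (hL₀ _) _ (hL₀ _),
      iso₁ _ (hL₁ _) _ (hL₁ _), zero_add, add_zero, k0, k1, ← Finset.sum_add_distrib]
    rfl
  · show L _ ∈ P₀
    rw [hL, Sum.elim_comp_inl, Sum.elim_comp_inr, map_zero, add_zero]
    exact hL₀ a
  · show L _ ∈ P₁
    rw [hL, Sum.elim_comp_inl, Sum.elim_comp_inr, map_zero, zero_add]
    exact hL₁ b

theorem exists_GL (E : (Fin n → F) ≃ₗ[F] (Fin n → F)) :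
    ∃ g : GL (Fin n) F, ∀ v, (g : Matrix (Fin n) (Fin n) F) *ᵥ v = E v :=
  ⟨Matrix.GeneralLinearGroup.toLin.symm ((LinearMap.GeneralLinearGroup.generalLinearEquiv F _).symm E), fun v => by
    have := congrArg (fun u : LinearMap.GeneralLinearGroup F (Fin n → F) => (u : Module.End F (Fin n → F)) v)
      (Matrix.GeneralLinearGroup.toLin.apply_symm_apply
        ((LinearMap.GeneralLinearGroup.generalLinearEquiv F _).symm E))
    exact this⟩

/-- `q - 1`-st powers cover the norm-one elements. -/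
theorem exists_pow_pred (hF : Fintype.card F = q ^ 2) {δ : F} (hδ : δ ^ (q + 1) = 1) :
    ∃ l : F, l ≠ 0 ∧ l ^ (q - 1) = δ := by
  classical
  have hq := UnitPow.two_le hF
  have hδ0 : δ ≠ 0 := fun h => by rw [h, zero_pow (by omega)] at hδ; exact zero_ne_one hδ
  obtain ⟨g, hg⟩ := IsCyclic.exists_generator (α := Fˣ)
  obtain ⟨k, hk⟩ := Submonoid.mem_powers_iff _ _ |>.1 (mem_powers_iff_mem_zpowers.2 (hg (Units.mk0 δ hδ0)))
  have h1 : g ^ (k * (q + 1)) = 1 := by
    rw [pow_mul, hk]; exact Units.ext (by push_cast; exact hδ)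
  have hd := orderOf_dvd_of_pow_eq_one h1
  rw [orderOf_eq_card_of_forall_mem_zpowers hg, Nat.card_units, Nat.card_eq_fintype_card, hF] at hd
  have hfac : q ^ 2 - 1 = (q + 1) * (q - 1) := by rw [← Nat.sq_sub_sq, one_pow]
  rw [hfac, mul_comm k] at hd
  obtain ⟨j, hj⟩ := Nat.dvd_of_mul_dvd_mul_left (by omega) hd
  refine ⟨((g ^ j : Fˣ) : F), Units.ne_zero _, ?_⟩
  rw [← Units.val_pow_eq_pow_val, ← pow_mul, mul_comm, ← hj, hk, Units.val_mk0]

theorem mem_of_iso (hF : Fintype.card F = q ^ 2) {g : GL (Fin n) F} {E : (Fin n → F) → (Fin n → F)}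
    (hg : ∀ v, (g : Matrix (Fin n) (Fin n) F) *ᵥ v = E v)
    (hE : ∀ u v, Cfsg.hermForm n F q (E u) (E v) = Cfsg.hermForm n F q u v) : g ∈ Cfsg.GU n F q := by
  rw [CfsgLib.ClassicalGroups.mem_GU_iff]
  intro u v
  show Cfsg.hermForm n F q ((g : Matrix (Fin n) (Fin n) F) *ᵥ u) ((g : Matrix (Fin n) (Fin n) F) *ᵥ v) = _
  rw [hg, hg, hE]

theorem mem_side {Φ : (Fin m ⊕ Fin m → F) ≃ₗ[F] (Fin n → F)} (P : IsPolarPair q m P₀ P₁)
    (h₀ : ∀ a : Fin m → F, Φ (Sum.elim a 0) ∈ P₀) (h₁ : ∀ b : Fin m → F, Φ (Sum.elim 0 b) ∈ P₁)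
    {v : Fin n → F} (hv : v ∈ P₀) : ∃ a : Fin m → F, Φ (Sum.elim a 0) = v := by
  refine ⟨Φ.symm v ∘ Sum.inl, ?_⟩
  have hsplit : Φ (Sum.elim (Φ.symm v ∘ Sum.inl) 0) + Φ (Sum.elim 0 (Φ.symm v ∘ Sum.inr)) = v := by
    rw [← map_add]
    conv_rhs => rw [← Φ.apply_symm_apply v]
    congr 1
    funext x
    rcases x with i | i <;> simp
  have h2 : Φ (Sum.elim 0 (Φ.symm v ∘ Sum.inr)) = 0 := Submodule.disjoint_def.1 P.disj _
    (by rw [eq_sub_of_add_eq' hsplit]; exact P₀.sub_mem hv (h₀ _)) (h₁ _)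
  rwa [h2, add_zero] at hsplit

theorem mem_side_right {Φ : (Fin m ⊕ Fin m → F) ≃ₗ[F] (Fin n → F)} (P : IsPolarPair q m P₀ P₁)
    (h₀ : ∀ a : Fin m → F, Φ (Sum.elim a 0) ∈ P₀) (h₁ : ∀ b : Fin m → F, Φ (Sum.elim 0 b) ∈ P₁)
    {v : Fin n → F} (hv : v ∈ P₁) : ∃ a : Fin m → F, Φ (Sum.elim 0 a) = v := by
  refine ⟨Φ.symm v ∘ Sum.inr, ?_⟩
  have hsplit : Φ (Sum.elim (Φ.symm v ∘ Sum.inl) 0) + Φ (Sum.elim 0 (Φ.symm v ∘ Sum.inr)) = v := by
    rw [← map_add]
    conv_rhs => rw [← Φ.apply_symm_apply v]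
    congr 1
    funext x
    rcases x with i | i <;> simp
  have h2 : Φ (Sum.elim (Φ.symm v ∘ Sum.inl) 0) = 0 := Submodule.disjoint_def.1 P.disj _ (h₀ _)
    (by rw [eq_sub_of_add_eq hsplit]; exact P₁.sub_mem hv (h₁ _))
  rwa [h2, zero_add] at hsplit

/-- `SU` is transitive on ordered pairs of complementary maximal isotropic subspaces. -/
theorem exists_SU_map (hF : Fintype.card F = q ^ 2) (hn : n = 2 * m) (hm : 0 < m)
    {Q₀ Q₁ : Submodule F (Fin n → F)} (P : IsPolarPair q m P₀ P₁) (Q : IsPolarPair q m Q₀ Q₁) :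
    ∃ g ∈ Cfsg.GU n F q ⊓ Cfsg.Geo.specialLinear (Fin n) F,
      (∀ v ∈ P₀, (g : Matrix (Fin n) (Fin n) F) *ᵥ v ∈ Q₀) ∧ (∀ v ∈ P₁, (g : Matrix (Fin n) (Fin n) F) *ᵥ v ∈ Q₁) := by
  classical
  have hq := UnitPow.two_le hF
  obtain ⟨Φ, hΦ, hΦ₀, hΦ₁⟩ := exists_coord hF P hn
  obtain ⟨Ψ, hΨ, hΨ₀, hΨ₁⟩ := exists_coord hF Q hn
  obtain ⟨g₁, hg₁⟩ := exists_GL (Φ.symm.trans Ψ)
  have hg₁U : g₁ ∈ Cfsg.GU n F q := mem_of_iso hF hg₁ fun u v => by
    rw [LinearEquiv.trans_apply, LinearEquiv.trans_apply, hΨ, ← hΦ, Φ.apply_symm_apply, Φ.apply_symm_apply]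
  have hδ := CfsgLib.ClassicalGroups.GU_det_pow hF ⟨g₁, hg₁U⟩
  set δ : F := (Matrix.GeneralLinearGroup.det g₁ : F) with hδd
  have hδ' : δ ^ (q + 1) = 1 := by
    rw [hδd, ← Units.val_pow_eq_pow_val, hδ, Units.val_one]
  obtain ⟨l, hl0, hl⟩ := exists_pow_pred hF hδ'
  let i₀ : Fin m := ⟨0, hm⟩
  let c : Fin m ⊕ Fin m → F := Sum.elim (fun i => if i = i₀ then l else 1)
    (fun i => if i = i₀ then (l ^ q)⁻¹ else 1)
  have hc : ∀ x, c x ≠ 0 := by
    rintro (i | i) <;> simp only [c, Sum.elim_inl, Sum.elim_inr] <;> split_ifs <;> simp [hl0]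
  let S : (Fin m ⊕ Fin m → F) ≃ₗ[F] (Fin m ⊕ Fin m → F) :=
    { toFun := fun a x => c x * a x
      invFun := fun a x => (c x)⁻¹ * a x
      map_add' := fun a b => funext fun x => mul_add _ _ _
      map_smul' := fun k a => funext fun x => by simp; ring
      left_inv := fun a => funext fun x => by simp [hc x]
      right_inv := fun a => funext fun x => by simp [hc x] }
  obtain ⟨g, hg⟩ := exists_GL ((Φ.symm.trans S).trans Ψ)
  have hgU : g ∈ Cfsg.GU n F q := mem_of_iso hF hg fun u v => by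
    simp only [LinearEquiv.trans_apply]
    rw [hΨ]
    conv_rhs => rw [← Φ.apply_symm_apply u, ← Φ.apply_symm_apply v, hΦ]
    refine Finset.sum_congr rfl fun i _ => ?_
    have hql : (l ^ q) ^ q = l := by rw [← pow_mul, ← pow_two, ← hF, FiniteField.pow_card]
    have hc₁ : c (Sum.inl i) * c (Sum.inr i) ^ q = 1 := by
      simp only [c, Sum.elim_inl, Sum.elim_inr]; split_ifs with h
      · rw [inv_pow, hql, mul_inv_cancel₀ hl0]
      · simp
    have hc₂ : c (Sum.inr i) * c (Sum.inl i) ^ q = 1 := by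
      simp only [c, Sum.elim_inl, Sum.elim_inr]; split_ifs with h
      · rw [inv_mul_cancel₀ (pow_ne_zero _ hl0)]
      · simp
    show c (Sum.inl i) * _ * (c (Sum.inr i) * _) ^ q + c (Sum.inr i) * _ * (c (Sum.inl i) * _) ^ q = _
    rw [mul_pow, mul_pow]
    linear_combination (Φ.symm u (Sum.inl i) * Φ.symm v (Sum.inr i) ^ q) * hc₁ +
      (Φ.symm u (Sum.inr i) * Φ.symm v (Sum.inl i) ^ q) * hc₂
  refine ⟨g, ⟨hgU, MonoidHom.mem_ker.2 (Units.ext ?_)⟩, fun v hv => ?_, fun v hv => ?_⟩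
  · have h1 : Matrix.toLin' (g : Matrix (Fin n) (Fin n) F) =
        Matrix.toLin' (g₁ : Matrix (Fin n) (Fin n) F) ∘ₗ (Φ.toLinearMap ∘ₗ S.toLinearMap ∘ₗ Φ.symm.toLinearMap) :=
      LinearMap.ext fun v => by simp [Matrix.toLin'_apply, hg, hg₁]
    have hS : LinearMap.det S.toLinearMap = ∏ x, c x := by
      rw [← LinearMap.det_toMatrix', show LinearMap.toMatrix' S.toLinearMap = Matrix.diagonal c from ?_,
        Matrix.det_diagonal]
      ext a b
      rw [LinearMap.toMatrix'_apply]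
      by_cases h : a = b
      · subst h; simp [S]
      · simp [S, h]
    have h2 := congrArg LinearMap.det h1
    rw [LinearMap.det_toLin', LinearMap.det_comp, LinearMap.det_toLin', LinearMap.det_conj, hS,
      Fintype.prod_sum_type] at h2
    simp only [c, Sum.elim_inl, Sum.elim_inr, Finset.prod_ite_eq', Finset.mem_univ, if_true] at h2
    show (g : Matrix (Fin n) (Fin n) F).det = 1
    rw [h2, show (g₁ : Matrix (Fin n) (Fin n) F).det = δ from rfl, ← hl]
    have : l ^ q = l ^ (q - 1) * l := by rw [← pow_succ, Nat.sub_add_cancel (by omega)]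
    rw [this]
    field_simp
  · obtain ⟨a, rfl⟩ := mem_side P hΦ₀ hΦ₁ hv
    rw [hg]
    simp only [LinearEquiv.trans_apply, LinearEquiv.symm_apply_apply]
    have : S (Sum.elim a 0) = Sum.elim (fun i => c (Sum.inl i) * a i) 0 := by
      funext x; rcases x with i | i <;> simp [S]
    rw [this]; exact hΨ₀ _
  · obtain ⟨a, rfl⟩ := mem_side_right P hΦ₀ hΦ₁ hv
    rw [hg]
    simp only [LinearEquiv.trans_apply, LinearEquiv.symm_apply_apply]
    have : S (Sum.elim (0 : Fin m → F) a) = Sum.elim (0 : Fin m → F) (fun i => c (Sum.inr i) * a i) := by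
      funext x; rcases x with i | i <;> simp [S]
    rw [this]; exact hΨ₁ _

/-- The elements of `GU` fixing both members realise the whole of `GL_m`. -/
theorem exists_levi (hF : Fintype.card F = q ^ 2) (hn : n = 2 * m) (P : IsPolarPair q m P₀ P₁) :
    ∃ φ : GL (Fin m) F →* GL (Fin n) F, Function.Injective φ ∧
      ∀ A, φ A ∈ Cfsg.GU n F q ∧ (∀ v ∈ P₀, (φ A : Matrix (Fin n) (Fin n) F) *ᵥ v ∈ P₀) ∧
        (∀ v ∈ P₁, (φ A : Matrix (Fin n) (Fin n) F) *ᵥ v ∈ P₁) := by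
  classical
  obtain ⟨Φ, hΦ, hΦ₀, hΦ₁⟩ := exists_coord hF P hn
  set τ : F →+* F := (UnitPow.conj hF : F →+* F) with hτd
  have hτ : ∀ x, τ x = x ^ q := fun x => rfl
  have hττ : ∀ x, τ (τ x) = x := fun x => by rw [hτ, hτ, ← pow_mul, ← pow_two, ← hF, FiniteField.pow_card]
  let co : GL (Fin m) F → Matrix (Fin m) (Fin m) F := fun A => ((↑A⁻¹ : Matrix (Fin m) (Fin m) F)ᵀ).map τ
  have co_mul : ∀ A B, co (A * B) = co A * co B := fun A B => by
    simp only [co, _root_.mul_inv_rev, Units.val_mul, Matrix.transpose_mul, Matrix.map_mul]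
  have co_one : co 1 = 1 := by simp [co]
  let N : GL (Fin m) F → Module.End F (Fin m ⊕ Fin m → F) := fun A =>
    Matrix.toLin' (Matrix.fromBlocks (A : Matrix (Fin m) (Fin m) F) 0 0 (co A))
  have N_mul : ∀ A B, N (A * B) = N A * N B := fun A B => by
    show Matrix.toLin' _ = Matrix.toLin' _ ∘ₗ Matrix.toLin' _
    rw [← Matrix.toLin'_mul, Matrix.fromBlocks_multiply]
    simp [co_mul]
  have N_one : N 1 = 1 := by
    show Matrix.toLin' _ = LinearMap.id
    simp [co_one, Matrix.fromBlocks_one]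
  let M : GL (Fin m) F →* Matrix (Fin n) (Fin n) F :=
    { toFun := fun A => LinearMap.toMatrix' (Φ.toLinearMap ∘ₗ N A ∘ₗ Φ.symm.toLinearMap)
      map_one' := by
        show LinearMap.toMatrix' _ = 1
        rw [N_one, ← LinearMap.toMatrix'_id]
        congr 1
        ext v; simp
      map_mul' := fun A B => by
        show LinearMap.toMatrix' _ = LinearMap.toMatrix' _ * LinearMap.toMatrix' _
        rw [← LinearMap.toMatrix'_comp, N_mul]
        congr 1
        ext v; simp }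
  have hMv : ∀ A v, (M.toHomUnits A : Matrix (Fin n) (Fin n) F) *ᵥ v = Φ (N A (Φ.symm v)) := fun A v => by
    rw [MonoidHom.coe_toHomUnits, ← Matrix.toLin'_apply]
    show Matrix.toLin' (LinearMap.toMatrix' _) v = _
    rw [Matrix.toLin'_toMatrix']; rfl
  have hN : ∀ A c, N A c = Sum.elim ((A : Matrix (Fin m) (Fin m) F) *ᵥ (c ∘ Sum.inl)) (co A *ᵥ (c ∘ Sum.inr)) :=
    fun A c => by
      show Matrix.toLin' _ c = _
      rw [Matrix.toLin'_apply, Matrix.fromBlocks_mulVec]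
      simp
  refine ⟨M.toHomUnits, fun A B h => ?_, fun A => ⟨?_, fun v hv => ?_, fun v hv => ?_⟩⟩
  · refine Units.ext (Matrix.ext_of_mulVec_single fun i => ?_)
    have h1 := hMv A (Φ (Sum.elim (Pi.single i 1) 0))
    rw [h, hMv, Φ.symm_apply_apply, hN, hN, Φ.injective.eq_iff] at h1
    funext j
    exact (congrFun h1 (Sum.inl j)).symm
  · refine mem_of_iso hF (hMv A) fun u v => ?_
    conv_rhs => rw [← Φ.apply_symm_apply u, ← Φ.apply_symm_apply v, hΦ]
    rw [hΦ, hN, hN]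
    set a := Φ.symm u
    set b := Φ.symm v
    simp only [Sum.elim_inl, Sum.elim_inr, Finset.sum_add_distrib, ← hτ]
    have key : ∀ x y : Fin m → F, ∑ i, ((A : Matrix (Fin m) (Fin m) F) *ᵥ x) i * τ ((co A *ᵥ y) i) = ∑ i, x i * τ (y i) := by
      intro x y
      have e : (fun i => τ ((co A *ᵥ y) i)) = (↑A⁻¹ : Matrix (Fin m) (Fin m) F)ᵀ *ᵥ (τ ∘ y) := by
        funext i
        rw [RingHom.map_mulVec]
        congr 1
        ext a b
        simp [co, hττ]
      calc ∑ i, ((A : Matrix (Fin m) (Fin m) F) *ᵥ x) i * τ ((co A *ᵥ y) i)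
          = ((A : Matrix (Fin m) (Fin m) F) *ᵥ x) ⬝ᵥ ((↑A⁻¹ : Matrix (Fin m) (Fin m) F)ᵀ *ᵥ (τ ∘ y)) := by
            rw [← e]; rfl
        _ = ((↑A⁻¹ : Matrix (Fin m) (Fin m) F) *ᵥ ((A : Matrix (Fin m) (Fin m) F) *ᵥ x)) ⬝ᵥ (τ ∘ y) := by
            rw [Matrix.dotProduct_mulVec, Matrix.vecMul_transpose]
        _ = ∑ i, x i * τ (y i) := by rw [Matrix.mulVec_mulVec, Units.inv_mul, Matrix.one_mulVec]; rfl
    rw [show (∑ i, ((A : Matrix (Fin m) (Fin m) F) *ᵥ (a ∘ Sum.inl)) i * τ ((co A *ᵥ (b ∘ Sum.inr)) i)) = _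
      from key _ _]
    congr 1
    have h2 := congrArg τ (key (b ∘ Sum.inl) (a ∘ Sum.inr))
    rw [map_sum, map_sum] at h2
    simp only [map_mul, hττ, Function.comp_apply] at h2
    simpa only [mul_comm, Function.comp_apply] using h2
  · obtain ⟨a, rfl⟩ := mem_side P hΦ₀ hΦ₁ hv
    rw [hMv, Φ.symm_apply_apply, hN, Sum.elim_comp_inl, Sum.elim_comp_inr, Matrix.mulVec_zero]
    exact hΦ₀ _
  · obtain ⟨a, rfl⟩ := mem_side_right P hΦ₀ hΦ₁ hv
    rw [hMv, Φ.symm_apply_apply, hN, Sum.elim_comp_inl, Sum.elim_comp_inr, Matrix.mulVec_zero]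
    exact hΦ₁ _

/-- An element of `GU` fixing both members of a pair has `x - s` of even rank for `s` of norm one. -/
theorem even_rank (hF : Fintype.card F = q ^ 2) (hn : n = 2 * m) (P : IsPolarPair q m P₀ P₁)
    {y : GL (Fin n) F} (hy : y ∈ Cfsg.GU n F q) (h₀ : ∀ v ∈ P₀, (y : Matrix (Fin n) (Fin n) F) *ᵥ v ∈ P₀)
    (h₁ : ∀ v ∈ P₁, (y : Matrix (Fin n) (Fin n) F) *ᵥ v ∈ P₁) {s : F} (hs : s ^ (q + 1) = 1) :
    Even ((y : Matrix (Fin n) (Fin n) F) - s • 1).rank := by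
  classical
  have hu := UnitPow.isUnitaryForm_hermForm hF n
  set h := Cfsg.hermForm n F q
  have iso₀ : ∀ u ∈ P₀, ∀ v ∈ P₀, h u v = 0 := P.iso₀
  have iso₁ : ∀ u ∈ P₁, ∀ v ∈ P₁, h u v = 0 := P.iso₁
  set L : (Fin n → F) →ₗ[F] (Fin n → F) := ((y : Matrix (Fin n) (Fin n) F) - s • 1).mulVecLin with hLd
  have hL : ∀ v, L v = (y : Matrix (Fin n) (Fin n) F) *ᵥ v - s • v := fun v => by
    rw [hLd, Matrix.mulVecLin_apply, Matrix.sub_mulVec, Matrix.smul_mulVec, Matrix.one_mulVec]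
  have hyy := CfsgLib.ClassicalGroups.mem_GU_iff.1 hy
  have hss : s * s ^ q = 1 := by rw [← pow_succ', hs]
  have hs0 : s ≠ 0 := fun e => by rw [e, zero_mul] at hss; exact zero_ne_one hss
  -- the kernel on the second member annihilates the image of the first
  have hK : P₁ ⊓ LinearMap.ker L = Unit.perp hu (P₁ ⊔ P₀.map L) := by
    have hperp : Unit.perp hu P₁ = P₁ := by
      refine (Submodule.eq_of_le_of_finrank_eq (fun x hx => (Unit.mem_perp hu).2 fun w hw => iso₁ x hx w hw) ?_).symm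
      have := Unit.finrank_perp hu P₁
      rw [Fintype.card_fin] at this
      have := P.rank₁
      omega
    ext v
    constructor
    · rintro ⟨hv, hLv⟩
      refine (Unit.mem_perp hu).2 fun w hw => ?_
      obtain ⟨w₁, hw₁, _, ⟨u, hu0, rfl⟩, rfl⟩ := Submodule.mem_sup.1 hw
      have hyv : (y : Matrix (Fin n) (Fin n) F) *ᵥ v = s • v := sub_eq_zero.1 ((hL v).symm.trans hLv)
      rw [Unit.add_right hu, iso₁ v hv w₁ hw₁, zero_add, hL, Unit.sub_right hu, Unit.smul_right hu]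
      have h2 := hyy v u
      change h ((y : Matrix (Fin n) (Fin n) F) *ᵥ v) ((y : Matrix (Fin n) (Fin n) F) *ᵥ u) = h v u at h2
      rw [hyv, Unit.smul_left hu] at h2
      rw [UnitPow.conj_apply]
      linear_combination s ^ q * h2 - h v ((y : Matrix (Fin n) (Fin n) F) *ᵥ u) * hss
    · intro hv
      rw [Unit.mem_perp hu] at hv
      have hv1 : v ∈ P₁ := hperp ▸ (Unit.mem_perp hu).2 fun w hw => hv w (Submodule.mem_sup_left hw)
      refine ⟨hv1, ?_⟩
      show L v = 0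
      by_contra hne
      obtain ⟨x, hx⟩ := (hu.nondegenerate _ hne).2
      refine hx ?_
      have hL1 : L v ∈ P₁ := by rw [hL]; exact P₁.sub_mem (h₁ v hv1) (P₁.smul_mem _ hv1)
      obtain ⟨a, ha, b, hb, rfl⟩ := decompose P hn x
      rw [Unit.add_right hu, iso₁ _ hL1 _ hb, add_zero]
      -- write `a` as an image under `y`
      have hinj : Function.Injective (Matrix.toLin' (y : Matrix (Fin n) (Fin n) F)) := fun u v huv => by
        rw [Matrix.toLin'_apply, Matrix.toLin'_apply] at huv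
        have := congrArg ((↑y⁻¹ : Matrix (Fin n) (Fin n) F) *ᵥ ·) huv
        simpa using this
      have hmap : P₀.map (Matrix.toLin' (y : Matrix (Fin n) (Fin n) F)) = P₀ :=
        Submodule.eq_of_le_of_finrank_eq (Submodule.map_le_iff_le_comap.2 fun u hu' => h₀ u hu')
          (Submodule.equivMapOfInjective _ hinj P₀).finrank_eq.symm
      obtain ⟨c, hc, rfl⟩ : ∃ c ∈ P₀, (y : Matrix (Fin n) (Fin n) F) *ᵥ c = a := by
        rw [← hmap] at ha
        obtain ⟨c, hc, rfl⟩ := ha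
        exact ⟨c, hc, rfl⟩
      have h3 := hv (L c) (Submodule.mem_sup_right (Submodule.mem_map_of_mem hc))
      rw [hL, Unit.sub_right hu, Unit.smul_right hu, UnitPow.conj_apply] at h3
      rw [hL, Unit.sub_left hu, Unit.smul_left hu]
      have h2 := hyy v c
      change h ((y : Matrix (Fin n) (Fin n) F) *ᵥ v) ((y : Matrix (Fin n) (Fin n) F) *ᵥ c) = h v c at h2
      rw [h2]
      linear_combination -s * h3 - h v c * hss
  have hdim : ∀ R : Submodule F (Fin n → F), R ≤ P₀ →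
      Module.finrank F ↥(Unit.perp hu (P₁ ⊔ R)) + Module.finrank F R = m := fun R hR => by
    have h1 := Unit.finrank_perp hu (P₁ ⊔ R)
    have h2 := Submodule.finrank_sup_add_finrank_inf_eq P₁ R
    rw [(P.disj.symm.mono_right hR).eq_bot, finrank_bot, P.rank₁] at h2
    rw [Fintype.card_fin] at h1
    omega
  have hmapR : P₀.map L ≤ P₀ := Submodule.map_le_iff_le_comap.2 fun u hu' => by
    show L u ∈ P₀
    rw [hL]; exact P₀.sub_mem (h₀ u hu') (P₀.smul_mem _ hu')
  have hnull : Module.finrank F ↥(P₀.map L) + Module.finrank F ↥(P₀ ⊓ LinearMap.ker L) = m := by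
    have := LinearMap.finrank_range_add_finrank_ker (L.domRestrict P₀)
    rw [LinearMap.range_domRestrict, LinearMap.ker_domRestrict, P.rank₀] at this
    rw [← this]
    congr 1
    rw [← Submodule.map_comap_subtype, ← Submodule.finrank_map_subtype_eq]
  have heq : Module.finrank F ↥(P₁ ⊓ LinearMap.ker L) = Module.finrank F ↥(P₀ ⊓ LinearMap.ker L) := by
    have := hdim _ hmapR
    rw [← hK] at this
    omega
  have hker : LinearMap.ker L = (P₀ ⊓ LinearMap.ker L) ⊔ (P₁ ⊓ LinearMap.ker L) := by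
    refine le_antisymm (fun v hv => ?_) (sup_le inf_le_right inf_le_right)
    obtain ⟨a, ha, b, hb, rfl⟩ := decompose P hn v
    have hLa : L a ∈ P₀ := hmapR (Submodule.mem_map_of_mem ha)
    have hLb : L b ∈ P₁ := by rw [hL]; exact P₁.sub_mem (h₁ b hb) (P₁.smul_mem _ hb)
    rw [LinearMap.mem_ker, map_add] at hv
    have h0 : L a = 0 := Submodule.disjoint_def.1 P.disj _ hLa
      (by rw [eq_neg_of_add_eq_zero_left hv]; exact P₁.neg_mem hLb)
    rw [h0, zero_add] at hv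
    exact Submodule.add_mem_sup ⟨ha, h0⟩ ⟨hb, hv⟩
  have hk := Submodule.finrank_sup_add_finrank_inf_eq (P₀ ⊓ LinearMap.ker L) (P₁ ⊓ LinearMap.ker L)
  rw [← hker, (P.disj.mono inf_le_left inf_le_left).eq_bot, finrank_bot, heq] at hk
  have hr := LinearMap.finrank_range_add_finrank_ker L
  rw [Module.finrank_fintype_fun_eq_card, Fintype.card_fin] at hr
  show Even (Module.finrank F (LinearMap.range L))
  exact ⟨m - Module.finrank F ↥(P₀ ⊓ LinearMap.ker L), by omega⟩

/-- An element exchanging the members has `x - s` of rank at least `m`. -/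
theorem le_rank (P : IsPolarPair q m P₀ P₁) {y : GL (Fin n) F}
    (h₀ : ∀ v ∈ P₀, (y : Matrix (Fin n) (Fin n) F) *ᵥ v ∈ P₁) (s : F) :
    m ≤ ((y : Matrix (Fin n) (Fin n) F) - s • 1).rank := by
  set L : (Fin n → F) →ₗ[F] (Fin n → F) := ((y : Matrix (Fin n) (Fin n) F) - s • 1).mulVecLin with hLd
  have hL : ∀ v, L v = (y : Matrix (Fin n) (Fin n) F) *ᵥ v - s • v := fun v => by
    rw [hLd, Matrix.mulVecLin_apply, Matrix.sub_mulVec, Matrix.smul_mulVec, Matrix.one_mulVec]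
  have hinj : Function.Injective (L.domRestrict P₀) := by
    rw [injective_iff_map_eq_zero]
    intro v hv
    rw [LinearMap.domRestrict_apply, hL, sub_eq_zero] at hv
    have h1 := Submodule.disjoint_def.1 P.disj _ (P₀.smul_mem s v.2) (hv ▸ h₀ v v.2)
    rw [h1] at hv
    have := congrArg ((↑y⁻¹ : Matrix (Fin n) (Fin n) F) *ᵥ ·) hv
    exact Subtype.ext (by simpa using this)
  calc m = Module.finrank F (LinearMap.range (L.domRestrict P₀)) := by
        rw [LinearMap.finrank_range_of_inj hinj, P.rank₀]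
    _ ≤ _ := Submodule.finrank_mono (LinearMap.range_comp_le_range P₀.subtype L)

end CfsgLib.PrimeElusive.UnitPair
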