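import Mathlib
import Cfsg.Prelude.Def_Classical
import Cfsg.Agent.Lib.PrimeElusive.UnitPair
import Cfsg.Agent.Lib.IsomConj.Unitary
import Cfsg.Agent.Lib.ClassicalGroups.HermGroup

/-!
Unitary matrices, fixed totally isotropic or non-degenerate subspaces, and roots of norm-one scalars.
-/

set_option autoImplicit false
set_option linter.unusedSectionVars false

open scoped MatrixGroups

namespace CfsgLib.PrimeElusive.UnitFix

open Matrix CfsgLib.IsomConj CfsgLib.GeomClasses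

variable {F : Type*} [Field F] [Fintype F] {q n m r : ℕ}

/-- `X` fixes a totally isotropic `m`-space. -/
def HasTI (q m : ℕ) (X : Matrix (Fin n) (Fin n) F) : Prop :=
  ∃ W : Submodule F (Fin n → F), Module.finrank F W = m ∧
    (∀ u ∈ W, ∀ v ∈ W, Cfsg.hermForm n F q u v = 0) ∧ ∀ v ∈ W, X *ᵥ v ∈ W

/-- `X` fixes a non-degenerate `m`-space. -/
def HasND (q m : ℕ) (X : Matrix (Fin n) (Fin n) F) : Prop :=
  ∃ W : Submodule F (Fin n → F), Module.finrank F W = m ∧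
    (∀ u ∈ W, u ≠ 0 → ∃ v ∈ W, Cfsg.hermForm n F q u v ≠ 0) ∧ ∀ v ∈ W, X *ᵥ v ∈ W

theorem map_le_iff {W : Submodule F (Fin n → F)} {X : Matrix (Fin n) (Fin n) F} :
    W.map (Matrix.toLin' X) ≤ W ↔ ∀ v ∈ W, X *ᵥ v ∈ W := by
  rw [Submodule.map_le_iff_le_comap]
  exact ⟨fun h v hv => h hv, fun h v hv => h v hv⟩

/-- The matrices preserving the form. -/
def IsU (q : ℕ) (X : Matrix (Fin n) (Fin n) F) : Prop := ctr q X * X = 1

theorem isU_iff_herm (hF : Fintype.card F = q ^ 2) {X : Matrix (Fin n) (Fin n) F} :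
    IsU q X ↔ ∀ u v, Cfsg.hermForm n F q (X *ᵥ u) (X *ᵥ v) = Cfsg.hermForm n F q u v := by
  constructor
  · intro h
    exact (mem_GU_iff_ctr hF (g := ⟨X, ctr q X, mul_eq_one_comm.1 h, h⟩)).2 h
  · intro h
    have hinj : Function.Injective X.mulVecLin := by
      rw [injective_iff_map_eq_zero]
      intro u hu
      by_contra hu0
      obtain ⟨v, hv⟩ := ((UnitPow.isUnitaryForm_hermForm hF n).nondegenerate u hu0).1
      refine hv ?_
      rw [← h]
      simp only [Matrix.mulVecLin_apply] at hu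
      rw [hu]
      exact Unit.zero_right (UnitPow.isUnitaryForm_hermForm hF n) _
    obtain ⟨g, hg⟩ := UnitPair.exists_GL (LinearEquiv.ofInjectiveEndo X.mulVecLin hinj)
    have hgX : (g : Matrix (Fin n) (Fin n) F) = X :=
      Matrix.ext_of_mulVec_single fun j => (hg _).trans rfl
    have hmem : g ∈ Cfsg.GU n F q := UnitPow.mem_GU.2 (by rw [hgX]; exact h)
    exact hgX ▸ (mem_GU_iff_ctr hF).1 hmem

theorem IsU.gl (hF : Fintype.card F = q ^ 2) {X : Matrix (Fin n) (Fin n) F} (h : IsU q X) :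
    ∃ g ∈ Cfsg.GU n F q, ((g : GL (Fin n) F) : Matrix (Fin n) (Fin n) F) = X :=
  ⟨⟨X, ctr q X, mul_eq_one_comm.1 h, h⟩, (mem_GU_iff_ctr hF).2 h, rfl⟩

theorem isU_coe (hF : Fintype.card F = q ^ 2) {g : GL (Fin n) F} (hg : g ∈ Cfsg.GU n F q) :
    IsU q (g : Matrix (Fin n) (Fin n) F) := (mem_GU_iff_ctr hF).1 hg

theorem IsU.det_pow (hF : Fintype.card F = q ^ 2) {X : Matrix (Fin n) (Fin n) F} (h : IsU q X) :
    X.det ^ (q + 1) = 1 := by
  obtain ⟨g, hg, rfl⟩ := h.gl hF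
  have := congrArg Units.val (CfsgLib.ClassicalGroups.GU_det_pow hF ⟨g, hg⟩)
  simpa using this

theorem IsU.mul (hF : Fintype.card F = q ^ 2) {X Y : Matrix (Fin n) (Fin n) F} (hX : IsU q X) (hY : IsU q Y) :
    IsU q (X * Y) := by
  obtain ⟨g, hg, rfl⟩ := hX.gl hF
  obtain ⟨g', hg', rfl⟩ := hY.gl hF
  rw [← Units.val_mul]
  exact isU_coe hF (mul_mem hg hg')

theorem isU_one (hF : Fintype.card F = q ^ 2) : IsU q (1 : Matrix (Fin n) (Fin n) F) :=
  isU_coe hF (g := 1) (one_mem _)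

theorem IsU.pow (hF : Fintype.card F = q ^ 2) {X : Matrix (Fin n) (Fin n) F} (hX : IsU q X) (k : ℕ) :
    IsU q (X ^ k) := by
  induction k with
  | zero => rw [pow_zero]; exact isU_one hF
  | succ k ih => rw [pow_succ]; exact ih.mul hF hX

theorem isU_smul_iff {X : Matrix (Fin n) (Fin n) F} {c : F} (hc : c ^ (q + 1) = 1) :
    IsU q (c • X) ↔ IsU q X := by
  have h1 : ctr q (c • X) * (c • X) = c ^ (q + 1) • (ctr q X * X) := by
    rw [show ctr q (c • X) = c ^ q • ctr q X from ?_, Matrix.smul_mul, Matrix.mul_smul, smul_smul, pow_succ]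
    ext i j
    simp [ctr, mul_pow]
  rw [IsU, IsU, h1, hc, one_smul]

theorem isU_diagonal (hF : Fintype.card F = q ^ 2) (d : Fin n → F) (hd : ∀ i, d i ^ (q + 1) = 1) :
    IsU q (Matrix.diagonal d) := by
  refine (isU_iff_herm hF).2 fun u v => ?_
  simp only [Matrix.mulVec_diagonal, Cfsg.hermForm]
  refine Finset.sum_congr rfl fun i _ => ?_
  rw [mul_pow]
  linear_combination (u i * v i ^ q) * hd i

/-- A scalar unitary matrix has norm one. -/
theorem norm_of_scalar (hF : Fintype.card F = q ^ 2) (hn : 0 < n) {z : F}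
    (h : IsU q (z • (1 : Matrix (Fin n) (Fin n) F))) : z ^ (q + 1) = 1 := by
  have h1 := (isU_iff_herm hF).1 h (Pi.single ⟨0, hn⟩ 1) (Pi.single ⟨0, hn⟩ 1)
  simp only [Matrix.smul_mulVec, Matrix.one_mulVec] at h1
  have hu := UnitPow.isUnitaryForm_hermForm hF n
  rw [Unit.smul_left hu, Unit.smul_right hu] at h1
  have he : Cfsg.hermForm n F q (Pi.single ⟨0, hn⟩ 1) (Pi.single ⟨0, hn⟩ 1) = 1 := by
    rw [Cfsg.hermForm, Fintype.sum_eq_single ⟨0, hn⟩ fun k hk => by simp [hk]]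
    simp
  rw [he, mul_one, UnitPow.conj_apply] at h1
  rw [pow_succ']
  exact h1

theorem HasTI.smul {X : Matrix (Fin n) (Fin n) F} (h : HasTI q m X) (c : F) : HasTI q m (c • X) := by
  obtain ⟨W, h1, h2, h3⟩ := h
  exact ⟨W, h1, h2, fun v hv => by rw [Matrix.smul_mulVec]; exact W.smul_mem c (h3 v hv)⟩

theorem HasND.smul {X : Matrix (Fin n) (Fin n) F} (h : HasND q m X) (c : F) : HasND q m (c • X) := by
  obtain ⟨W, h1, h2, h3⟩ := h
  exact ⟨W, h1, h2, fun v hv => by rw [Matrix.smul_mulVec]; exact W.smul_mem c (h3 v hv)⟩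

/-- Moving a subspace by an isometry. -/
theorem exists_image {X : Matrix (Fin n) (Fin n) F} {g : GL (Fin n) F} (hg : g ∈ Cfsg.GU n F q)
    (W : Submodule F (Fin n → F)) (hW : ∀ v ∈ W, X *ᵥ v ∈ W) :
    ∃ W' : Submodule F (Fin n → F), Module.finrank F W' = Module.finrank F W ∧
      ((∀ u ∈ W, ∀ v ∈ W, Cfsg.hermForm n F q u v = 0) → ∀ u ∈ W', ∀ v ∈ W', Cfsg.hermForm n F q u v = 0) ∧
      ((∀ u ∈ W, u ≠ 0 → ∃ v ∈ W, Cfsg.hermForm n F q u v ≠ 0) →
        ∀ u ∈ W', u ≠ 0 → ∃ v ∈ W', Cfsg.hermForm n F q u v ≠ 0) ∧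
      ∀ v ∈ W', ((g : Matrix (Fin n) (Fin n) F) * X * (↑g⁻¹ : Matrix (Fin n) (Fin n) F)) *ᵥ v ∈ W' := by
  have hiso := UnitPow.mem_GU.1 hg
  have hinj : Function.Injective (Matrix.toLin' (g : Matrix (Fin n) (Fin n) F)) := fun u v huv => by
    rw [Matrix.toLin'_apply, Matrix.toLin'_apply] at huv
    simpa using congrArg ((↑g⁻¹ : Matrix (Fin n) (Fin n) F) *ᵥ ·) huv
  refine ⟨W.map (Matrix.toLin' (g : Matrix (Fin n) (Fin n) F)),
    (Submodule.equivMapOfInjective _ hinj W).finrank_eq.symm, ?_, ?_, ?_⟩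
  · rintro h _ ⟨u, hu, rfl⟩ _ ⟨v, hv, rfl⟩
    rw [Matrix.toLin'_apply, Matrix.toLin'_apply, hiso]
    exact h u hu v hv
  · rintro h _ ⟨u, hu, rfl⟩ hne
    obtain ⟨v, hv, hv'⟩ := h u hu fun h0 => hne (by rw [h0, map_zero])
    refine ⟨_, Submodule.mem_map_of_mem hv, ?_⟩
    rwa [Matrix.toLin'_apply, Matrix.toLin'_apply, hiso]
  · rintro _ ⟨u, hu, rfl⟩
    refine ⟨X *ᵥ u, hW u hu, ?_⟩
    rw [Matrix.toLin'_apply, Matrix.toLin'_apply]
    simp only [← Matrix.mulVec_mulVec]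
    rw [Matrix.mulVec_mulVec u (↑g⁻¹ : Matrix (Fin n) (Fin n) F), Units.inv_mul, Matrix.one_mulVec]

theorem HasTI.conj {X : Matrix (Fin n) (Fin n) F} (h : HasTI q m X) {g : GL (Fin n) F}
    (hg : g ∈ Cfsg.GU n F q) :
    HasTI q m ((g : Matrix (Fin n) (Fin n) F) * X * (↑g⁻¹ : Matrix (Fin n) (Fin n) F)) := by
  obtain ⟨W, h1, h2, h3⟩ := h
  obtain ⟨W', e1, e2, -, e4⟩ := exists_image hg W h3
  exact ⟨W', e1.trans h1, e2 h2, e4⟩

theorem HasND.conj {X : Matrix (Fin n) (Fin n) F} (h : HasND q m X) {g : GL (Fin n) F}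
    (hg : g ∈ Cfsg.GU n F q) :
    HasND q m ((g : Matrix (Fin n) (Fin n) F) * X * (↑g⁻¹ : Matrix (Fin n) (Fin n) F)) := by
  obtain ⟨W, h1, h2, h3⟩ := h
  obtain ⟨W', e1, -, e3, e4⟩ := exists_image hg W h3
  exact ⟨W', e1.trans h1, e3 h2, e4⟩

/-- Similar unitary matrices are conjugate by a unitary matrix. -/
theorem exists_GU_conj (hF : Fintype.card F = q ^ 2) {X Y : Matrix (Fin n) (Fin n) F} (hX : IsU q X)
    (hY : IsU q Y) (h : ∃ g : GL (Fin n) F, (g : Matrix (Fin n) (Fin n) F) * X = Y * g) :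
    ∃ g ∈ Cfsg.GU n F q, Y = (g : Matrix (Fin n) (Fin n) F) * X * (↑g⁻¹ : Matrix (Fin n) (Fin n) F) := by
  obtain ⟨x, hx, rfl⟩ := hX.gl hF
  obtain ⟨y, hy, rfl⟩ := hY.gl hF
  obtain ⟨g, hg⟩ := h
  have hc : IsConj x y := isConj_iff.2 ⟨g, by
    rw [mul_inv_eq_iff_eq_mul]
    exact Units.ext hg⟩
  obtain ⟨k, hk⟩ := isConj_iff.1 (GU_isConj_of_similar hF ⟨x, hx⟩ ⟨y, hy⟩ hc)
  refine ⟨k, k.2, ?_⟩
  have := congrArg (fun w : Cfsg.GU n F q => ((w : GL (Fin n) F) : Matrix (Fin n) (Fin n) F)) hk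
  simpa using this.symm

/-- Scalars of norm one: an `r`-th root of norm one, or no `r`-th root at all. -/
theorem exists_root_norm (hF : Fintype.card F = q ^ 2) [hr : Fact r.Prime] (hr2 : r ≠ 2) {z : F}
    (hz : z ^ (q + 1) = 1) :
    (∃ t : F, t ^ (q + 1) = 1 ∧ t ^ r = z) ∨ (r ∣ q + 1 ∧ ∀ w : F, w ^ r ≠ z) := by
  by_cases hd : r ∣ q + 1
  · by_cases hw : ∃ w : F, w ^ r = z
    · obtain ⟨w, rfl⟩ := hw
      refine Or.inl ⟨w, ?_, rfl⟩
      have hq := UnitPow.two_le hF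
      have h1 : (w ^ (q + 1)) ^ r = 1 := by rw [← pow_mul, mul_comm, pow_mul, hz]
      have hw0 : w ≠ 0 := fun h => by
        rw [h, zero_pow hr.out.ne_zero, zero_pow (by omega)] at hz
        exact zero_ne_one hz
      have hfix : (w ^ (q + 1)) ^ (q - 1) = 1 := by
        rw [← pow_mul, ← Nat.sq_sub_sq, one_pow, ← hF]
        exact FiniteField.pow_card_sub_one_eq_one w hw0
      have hnd : ¬ r ∣ q - 1 := fun h => by
        have h2 := Nat.dvd_sub hd h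
        rw [show q + 1 - (q - 1) = 2 by omega] at h2
        exact hr2 ((Nat.prime_dvd_prime_iff_eq hr.out Nat.prime_two).1 h2)
      have := pow_gcd_eq_one.2 ⟨h1, hfix⟩
      rwa [((Nat.Prime.coprime_iff_not_dvd hr.out).2 hnd).gcd_eq_one, pow_one] at this
    · push Not at hw
      exact Or.inr ⟨hd, hw⟩
  · refine Or.inl ?_
    have hq := UnitPow.two_le hF
    obtain ⟨s, hs⟩ := Nat.exists_mul_mod_eq_one_of_coprime ((Nat.Prime.coprime_iff_not_dvd hr.out).2 hd)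
      (show 1 < q + 1 by omega)
    refine ⟨z ^ s, by rw [← pow_mul, mul_comm, pow_mul, hz, one_pow], ?_⟩
    rw [← pow_mul, mul_comm, pow_eq_pow_mod _ hz, hs.2, pow_one]

end CfsgLib.PrimeElusive.UnitFix
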