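import Cfsg.Agent.Lib.PrimeElusive.UnitFixBasic
import Cfsg.Agent.Lib.PrimeElusive.UnitarySimilitude
import Cfsg.Agent.Lib.PrimeElusive.Orbit
import Cfsg.Agent.Lib.UnitaryEmbed.StabNondeg
import Cfsg.Agent.Lib.Forms.Witt

/-!
The number of totally isotropic `m`-spaces: coordinates, transitivity, and the primes dividing it.
-/

set_option autoImplicit false
set_option linter.unusedSectionVars false

open scoped MatrixGroups Pointwise

namespace CfsgLib.PrimeElusive.UnitFix

open Matrix CfsgLib.GeomClasses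

variable {F : Type*} [Field F] [Fintype F] {q n m r : ℕ}

/-- Coordinates: a hyperbolic part and a standard part. -/
theorem exists_coordTI (hF : Fintype.card F = q ^ 2) {k : ℕ} (h : m + m + k = n) :
    ∃ Φ : ((Fin m ⊕ Fin m) ⊕ Fin k → F) ≃ₗ[F] (Fin n → F),
      ∀ a b, Cfsg.hermForm n F q (Φ a) (Φ b) =
        (∑ i, a (.inl (.inl i)) * b (.inl (.inr i)) ^ q + ∑ i, a (.inl (.inr i)) * b (.inl (.inl i)) ^ q) +
          ∑ j, a (.inr j) * b (.inr j) ^ q := by
  subst h
  let e : (Fin m ⊕ Fin m) ⊕ Fin k ≃ Fin (m + m + k) :=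
    (finSumFinEquiv.sumCongr (Equiv.refl _)).trans finSumFinEquiv
  let sw : (Fin m ⊕ Fin m) ⊕ Fin k → (Fin m ⊕ Fin m) ⊕ Fin k := Sum.map Sum.swap id
  have hsw : ∀ x, sw (sw x) = x := by rintro ((i | i) | j) <;> rfl
  let σ : Fin (m + m + k) → Fin (m + m + k) := fun x => e (sw (e.symm x))
  obtain ⟨E, hE⟩ := UnitarySimilitude.exists_mono hF (UnitPow.hermForm_pow hF (m + m + k))
    (σ := σ) (fun x => by simp only [σ, e.symm_apply_apply, hsw, e.apply_symm_apply]) (fun _ => 1)
    (fun _ => one_ne_zero) (fun _ => (one_pow q).symm)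
  refine ⟨(LinearEquiv.funCongrLeft F F e.symm).trans E, fun a b => ?_⟩
  rw [LinearEquiv.trans_apply, LinearEquiv.trans_apply, hE,
    ← Fintype.sum_equiv e (fun x => a x * b (sw x) ^ q) _ fun x => by
      simp only [σ, one_mul, e.symm_apply_apply, LinearEquiv.funCongrLeft_apply, LinearMap.funLeft_apply],
    Fintype.sum_sum_type, Fintype.sum_sum_type]
  rfl

/-- Any two totally isotropic subspaces of the same dimension are related by an isometry. -/
theorem exists_iso_map (hF : Fintype.card F = q ^ 2) {W W' : Submodule F (Fin n → F)}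
    (hd : Module.finrank F W = Module.finrank F W')
    (hW : ∀ u ∈ W, ∀ v ∈ W, Cfsg.hermForm n F q u v = 0) (hW' : ∀ u ∈ W', ∀ v ∈ W', Cfsg.hermForm n F q u v = 0) :
    ∃ g : (Fin n → F) ≃ₗ[F] (Fin n → F),
      (∀ u v, Cfsg.hermForm n F q (g u) (g v) = Cfsg.hermForm n F q u v) ∧ W.map g.toLinearMap = W' := by
  obtain ⟨τ, hτ, hτne, hττ⟩ := CfsgLib.UnitaryEmbed.exists_conj hF
  let e : W ≃ₗ[F] W' := LinearEquiv.ofFinrankEq _ _ hd
  obtain ⟨g, hg, hgx⟩ := CfsgLib.Forms.herm_witt_extension (CfsgLib.UnitaryEmbed.hermSesq n τ) hτne hττ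
    (fun u v => CfsgLib.UnitaryEmbed.hermSesq_symm τ hττ u v) (CfsgLib.UnitaryEmbed.hermSesq_separatingLeft τ) W
    (W'.subtype ∘ₗ e.toLinearMap) (Subtype.val_injective.comp e.injective) (fun x y => by
      rw [CfsgLib.UnitaryEmbed.hermSesq_apply τ hτ, CfsgLib.UnitaryEmbed.hermSesq_apply τ hτ]
      exact (hW' _ (e y).2 _ (e x).2).trans (hW _ y.2 _ x.2).symm)
  refine ⟨g, fun u v => by
    have := hg v u
    rwa [CfsgLib.UnitaryEmbed.hermSesq_apply τ hτ, CfsgLib.UnitaryEmbed.hermSesq_apply τ hτ] at this,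
    le_antisymm ?_ ?_⟩
  · rintro _ ⟨x, hx, rfl⟩
    rw [LinearEquiv.coe_toLinearMap, show g x = (e ⟨x, hx⟩ : Fin n → F) from hgx ⟨x, hx⟩]
    exact (e _).2
  · intro w hw
    refine ⟨(e.symm ⟨w, hw⟩ : Fin n → F), (e.symm _).2, ?_⟩
    rw [LinearEquiv.coe_toLinearMap, hgx]
    simp

/-- The isometries of the standard form. -/
def isoEquiv (n : ℕ) (F : Type*) [Field F] (q : ℕ) : Subgroup ((Fin n → F) ≃ₗ[F] (Fin n → F)) where
  carrier := {g | ∀ u v, Cfsg.hermForm n F q (g u) (g v) = Cfsg.hermForm n F q u v}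
  one_mem' _ _ := rfl
  mul_mem' {a b} ha hb u v := (ha (b u) (b v)).trans (hb u v)
  inv_mem' {a} ha u v := by
    show Cfsg.hermForm n F q (a.symm u) (a.symm v) = _
    rw [← ha, a.apply_symm_apply, a.apply_symm_apply]

theorem card_isoEquiv : Nat.card (isoEquiv n F q) = Nat.card (Cfsg.GU n F q) := by
  refine Nat.card_congr
    { toFun := fun g => CfsgLib.UnitaryEmbed.toGU g.1 g.2
      invFun := fun g => ⟨CfsgLib.UnitaryEmbed.guLin g, CfsgLib.UnitaryEmbed.guLin_herm g⟩
      left_inv := fun g => Subtype.ext (LinearEquiv.ext fun v => CfsgLib.UnitaryEmbed.guLin_toGU g.1 g.2 v)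
      right_inv := fun g => CfsgLib.UnitaryEmbed.gu_ext fun v => CfsgLib.UnitaryEmbed.guLin_toGU _ _ v }

/-- The totally isotropic subspaces of one dimension form one orbit. -/
theorem card_eq_orbit (hF : Fintype.card F = q ^ 2) {W₀ : Submodule F (Fin n → F)} (hd : Module.finrank F W₀ = m)
    (hW : ∀ u ∈ W₀, ∀ v ∈ W₀, Cfsg.hermForm n F q u v = 0) :
    Nat.card {W : Submodule F (Fin n → F) //
      Module.finrank F ↥W = m ∧ (∀ u ∈ W, ∀ v ∈ W, Cfsg.hermForm n F q u v = 0)} =
      (MulAction.orbit (isoEquiv n F q) W₀).ncard := by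
  rw [← Nat.card_coe_set_eq]
  refine Nat.card_congr (Equiv.subtypeEquivRight fun W => ⟨fun h => ?_, ?_⟩)
  · obtain ⟨g, hg, hgW⟩ := exists_iso_map hF (hd.trans h.1.symm) hW h.2
    exact ⟨⟨g, hg⟩, hgW⟩
  · rintro ⟨⟨g, hg⟩, rfl⟩
    show Module.finrank F ↥(W₀.map g.toLinearMap) = m ∧
      ∀ u ∈ W₀.map g.toLinearMap, ∀ v ∈ W₀.map g.toLinearMap, Cfsg.hermForm n F q u v = 0
    refine ⟨(LinearEquiv.finrank_map_eq g W₀).trans hd, ?_⟩
    rintro _ ⟨u, hu, rfl⟩ _ ⟨v, hv, rfl⟩
    rw [LinearEquiv.coe_toLinearMap, hg]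
    exact hW u hu v hv

/-- A `p`-group fixes a vector of an invariant subspace modulo a smaller one. -/
theorem exists_fixed_mod {V : Type*} [AddCommGroup V] [Module F V] [FiniteDimensional F V] {p : ℕ} [Fact p.Prime]
    [CharP F p] {P : Subgroup (V ≃ₗ[F] V)} (hP : IsPGroup p P) {U M : Submodule F V} (hUM : U ≤ M)
    (hU : ∀ g ∈ P, ∀ v ∈ U, g v ∈ U) (hM : ∀ g ∈ P, ∀ v ∈ M, g v ∈ M)
    (hlt : Module.finrank F U < Module.finrank F M) : ∃ v ∈ M, v ∉ U ∧ ∀ g ∈ P, g v - v ∈ U := by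
  classical
  set U' : Submodule F M := U.comap M.subtype with hU'
  let f : P → (M →ₗ[F] M) := fun g => (g : V ≃ₗ[F] V).toLinearMap.restrict (hM g g.2)
  have hc : ∀ g : P, U' ≤ U'.comap (f g) := fun g v hv => hU g g.2 _ hv
  have : Finite V := Module.finite_of_finite F
  have : Finite (M ⧸ U') := Module.finite_of_finite F
  let act : MulAction P (M ⧸ U') :=
    { smul := fun g v => U'.mapQ U' (f g) (hc g) v
      one_smul := fun v => Submodule.Quotient.induction_on _ v fun w => rfl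
      mul_smul := fun g h v => Submodule.Quotient.induction_on _ v fun w => rfl }
  have hd : Module.finrank F (M ⧸ U') ≠ 0 := by
    have := Submodule.finrank_quotient_add_finrank U'
    have h2 : Module.finrank F U' = Module.finrank F U := (Submodule.comapSubtypeEquivOfLe hUM).finrank_eq
    omega
  have hdvd : p ∣ Nat.card (M ⧸ U') := by
    rw [Module.natCard_eq_pow_finrank (K := F), Nat.card_eq_fintype_card]
    refine dvd_pow ?_ hd
    obtain ⟨k, -, hk⟩ := FiniteField.card F p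
    rw [hk]
    exact dvd_pow_self _ k.pos.ne'
  have h0 : (0 : M ⧸ U') ∈ MulAction.fixedPoints P (M ⧸ U') := fun g => map_zero (U'.mapQ U' _ (hc g))
  obtain ⟨z, hz, hz0⟩ := hP.exists_fixed_point_of_prime_dvd_card_of_fixed_point _ hdvd h0
  obtain ⟨v, rfl⟩ := Submodule.Quotient.mk_surjective U' z
  refine ⟨v, v.2, fun h => hz0.symm ((Submodule.Quotient.mk_eq_zero U').2 h), fun g hg => ?_⟩
  have h : Submodule.Quotient.mk (f ⟨g, hg⟩ v) = (Submodule.Quotient.mk v : M ⧸ U') := hz ⟨g, hg⟩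
  exact (Submodule.Quotient.eq U').1 h

/-- A `p`-group of isometries fixes a totally isotropic `m`-space. -/
theorem exists_fixed_TI (hF : Fintype.card F = q ^ 2) {p : ℕ} [Fact p.Prime] [CharP F p]
    {P : Subgroup ((Fin n → F) ≃ₗ[F] (Fin n → F))} (hP : IsPGroup p P)
    (hiso : ∀ g ∈ P, ∀ u v, Cfsg.hermForm n F q (g u) (g v) = Cfsg.hermForm n F q u v) :
    ∀ m, 2 * m ≤ n → ∃ W : Submodule F (Fin n → F), Module.finrank F W = m ∧
      (∀ u ∈ W, ∀ v ∈ W, Cfsg.hermForm n F q u v = 0) ∧ ∀ g ∈ P, ∀ v ∈ W, g v ∈ W := by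
  have hu := UnitPow.isUnitaryForm_hermForm hF n
  set h := Cfsg.hermForm n F q
  intro m
  induction m with
  | zero =>
    exact fun _ => ⟨⊥, finrank_bot F _, fun u hu' v _ => by
      rw [(Submodule.mem_bot F).1 hu']; exact Unit.zero_left hu v,
      fun g _ v hv => by rw [(Submodule.mem_bot F).1 hv, map_zero]; exact Submodule.zero_mem _⟩
  | succ k ih =>
    intro hk
    obtain ⟨W, hWd, hWi, hWP⟩ := ih (by omega)
    set M := Unit.perp hu W
    have hWM : W ≤ M := fun w hw => (Unit.mem_perp hu).2 fun v hv => hWi w hw v hv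
    have perp_inv : ∀ U : Submodule F (Fin n → F), (∀ g ∈ P, ∀ v ∈ U, g v ∈ U) →
        ∀ g ∈ P, ∀ v ∈ Unit.perp hu U, g v ∈ Unit.perp hu U := fun U hU g hg v hv => by
      refine (Unit.mem_perp hu).2 fun w hw => ?_
      rw [← hiso g⁻¹ (inv_mem hg)]
      show h (g.symm (g v)) (g.symm w) = 0
      rw [g.symm_apply_apply]
      exact (Unit.mem_perp hu).1 hv _ (hU g⁻¹ (inv_mem hg) w hw)
    have hMd := Unit.finrank_perp hu W
    rw [Fintype.card_fin] at hMd
    change Module.finrank F M + _ = n at hMd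
    obtain ⟨w, hwM, hwW, hww, hwP⟩ : ∃ w ∈ M, w ∉ W ∧ h w w = 0 ∧ ∀ g ∈ P, g w - w ∈ W := by
      obtain ⟨v, hvM, hvW, hvP⟩ := exists_fixed_mod hP hWM hWP (perp_inv W hWP) (by omega)
      by_cases hvv : h v v = 0
      · exact ⟨v, hvM, hvW, hvv, hvP⟩
      set T := W ⊔ Submodule.span F {v}
      have hTP : ∀ g ∈ P, ∀ u ∈ T, g u ∈ T := by
        intro g hg u hu'
        obtain ⟨w, hw, _, hc, rfl⟩ := Submodule.mem_sup.1 hu'
        obtain ⟨c, rfl⟩ := Submodule.mem_span_singleton.1 hc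
        rw [map_add, map_smul, show g v = (g v - v) + v by abel, smul_add]
        exact T.add_mem (Submodule.mem_sup_left (hWP g hg w hw))
          (T.add_mem (Submodule.mem_sup_left (W.smul_mem c (hvP g hg)))
            (Submodule.mem_sup_right (Submodule.smul_mem _ c (Submodule.mem_span_singleton_self v))))
      have hTd : Module.finrank F T ≤ k + 1 := (Submodule.finrank_add_le_finrank_add_finrank _ _).trans (by
        have := (finrank_span_le_card (R := F) ({v} : Set (Fin n → F)))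
        simp only [Set.toFinset_singleton, Finset.card_singleton] at this
        omega)
      have hWT : W ≤ Unit.perp hu T := fun w hw => (Unit.mem_perp hu).2 fun t ht => by
        obtain ⟨w', hw', _, hc, rfl⟩ := Submodule.mem_sup.1 ht
        obtain ⟨c, rfl⟩ := Submodule.mem_span_singleton.1 hc
        rw [Unit.add_right hu, Unit.smul_right hu, hWi w hw w' hw',
          Unit.eq_zero_comm hu ((Unit.mem_perp hu).1 hvM w hw), mul_zero, add_zero]
      have hT'd := Unit.finrank_perp hu T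
      rw [Fintype.card_fin] at hT'd
      obtain ⟨u, huT, huW, huP⟩ := exists_fixed_mod hP hWT hWP (perp_inv T hTP) (by omega)
      have huM : u ∈ M := (Unit.mem_perp hu).2 fun w hw => (Unit.mem_perp hu).1 huT w (Submodule.mem_sup_left hw)
      have huv : h u v = 0 :=
        (Unit.mem_perp hu).1 huT v (Submodule.mem_sup_right (Submodule.mem_span_singleton_self v))
      by_cases huu : h u u = 0
      · exact ⟨u, huM, huW, huu, huP⟩
      obtain ⟨x, hx⟩ := Unit.exists_norm hu.ne_refl hu.involutive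
        (show UnitPow.conj hF (- h u u / h v v) = - h u u / h v v by
          rw [map_div₀, map_neg, Unit.self_fixed hu, Unit.self_fixed hu])
      refine ⟨u + x • v, M.add_mem huM (M.smul_mem x hvM), fun hmem => ?_, ?_, fun g hg => ?_⟩
      · have h1 := (Unit.mem_perp hu).1 hvM _ hmem
        rw [Unit.add_right hu, Unit.smul_right hu, Unit.eq_zero_comm hu huv, zero_add, mul_eq_zero] at h1
        have hx0 : x = 0 := by
          rcases h1 with h1 | h1
          · exact (RingEquiv.map_eq_zero_iff _).1 h1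
          · exact absurd h1 hvv
        rw [hx0, zero_smul, add_zero] at hmem
        exact huW hmem
      · rw [Unit.self_add_smul hu, hx, Unit.eq_zero_comm hu huv, mul_zero, map_zero, div_mul_cancel₀ _ hvv]
        ring
      · rw [map_add, map_smul, show g u + x • g v - (u + x • v) = (g u - u) + x • (g v - v) by module]
        exact W.add_mem (huP g hg) (W.smul_mem x (hvP g hg))
    refine ⟨W ⊔ Submodule.span F {w}, ?_, ?_, ?_⟩
    · have h1 := Submodule.finrank_sup_add_finrank_inf_eq W (Submodule.span F {w})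
      have hw0 : w ≠ 0 := fun h0 => hwW (h0 ▸ W.zero_mem)
      rw [((Submodule.disjoint_span_singleton' hw0).2 hwW).eq_bot, finrank_bot, finrank_span_singleton hw0] at h1
      omega
    · intro a ha b hb
      obtain ⟨a₁, ha₁, _, hc, rfl⟩ := Submodule.mem_sup.1 ha
      obtain ⟨c, rfl⟩ := Submodule.mem_span_singleton.1 hc
      obtain ⟨b₁, hb₁, _, hd, rfl⟩ := Submodule.mem_sup.1 hb
      obtain ⟨d, rfl⟩ := Submodule.mem_span_singleton.1 hd
      rw [Unit.add_left hu, Unit.add_right hu, Unit.add_right hu, Unit.smul_left hu, Unit.smul_left hu,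
        Unit.smul_right hu, Unit.smul_right hu, hWi a₁ ha₁ b₁ hb₁, hww, (Unit.mem_perp hu).1 hwM b₁ hb₁,
        Unit.eq_zero_comm hu ((Unit.mem_perp hu).1 hwM a₁ ha₁)]
      simp
    · intro g hg a ha
      obtain ⟨a₁, ha₁, _, hc, rfl⟩ := Submodule.mem_sup.1 ha
      obtain ⟨c, rfl⟩ := Submodule.mem_span_singleton.1 hc
      rw [map_add, map_smul, show g w = (g w - w) + w by abel, smul_add, ← add_assoc]
      exact Submodule.add_mem_sup (W.add_mem (hWP g hg a₁ ha₁) (W.smul_mem c (hwP g hg)))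
        (Submodule.smul_mem _ c (Submodule.mem_span_singleton_self w))

/-- A growth of the `r`-part of `|GU|` comes from a factor. -/
theorem exists_factor (hF : Fintype.card F = q ^ 2) [hr : Fact r.Prime] (hrq : ¬ r ∣ q) (a : ℕ) :
    ∀ n, a ≤ n → padicValNat r (Nat.card (Cfsg.GU a F q)) < padicValNat r (Nat.card (Cfsg.GU n F q)) →
      ∃ j, a < j ∧ j ≤ n ∧ (-(q : ZMod r)) ^ j = 1 := by
  have hq := UnitPow.two_le hF
  intro n hn
  induction n, hn using Nat.le_induction with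
  | base => exact fun h => absurd h (lt_irrefl _)
  | succ n hn ih =>
    intro hlt
    by_cases hd : r ∣ (if Even n then q ^ (n + 1) + 1 else q ^ (n + 1) - 1)
    · refine ⟨n + 1, by omega, le_rfl, ?_⟩
      rcases Nat.even_or_odd n with he | ho
      · rw [if_pos he, ← ZMod.natCast_eq_zero_iff, Nat.cast_add, Nat.cast_pow, Nat.cast_one] at hd
        rw [Odd.neg_pow he.add_one]
        linear_combination -hd
      · rw [if_neg (Nat.not_even_iff_odd.2 ho), ← ZMod.natCast_eq_zero_iff,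
          Nat.cast_sub (Nat.one_le_pow _ _ (by omega)), Nat.cast_pow, Nat.cast_one, sub_eq_zero] at hd
        rw [Even.neg_pow ho.add_one, hd]
    · obtain ⟨j, h1, h2, h3⟩ := ih (by
        refine lt_of_lt_of_le hlt (le_of_eq ?_)
        rw [CfsgLib.ClassicalGroups.card_GU hF, CfsgLib.ClassicalGroups.card_GU hF, Finset.prod_range_succ]
        have hpos : ∀ i : ℕ, (if Even i then q ^ (i + 1) + 1 else q ^ (i + 1) - 1) ≠ 0 := fun i => by
          have := Nat.one_lt_pow (show i + 1 ≠ 0 by omega) hq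
          split_ifs <;> omega
        have hq0 : ∀ e : ℕ, padicValNat r (q ^ e) = 0 := fun e =>
          padicValNat.eq_zero_of_not_dvd fun h => hrq (hr.out.dvd_of_dvd_pow h)
        have hP := fun k => Finset.prod_ne_zero_iff.2 fun i (_ : i ∈ Finset.range k) => hpos i
        rw [padicValNat.mul (pow_ne_zero _ (by omega)) (mul_ne_zero (hP _) (hpos _)),
          padicValNat.mul (hP _) (hpos _), padicValNat.mul (pow_ne_zero _ (by omega)) (hP _), hq0, hq0,
          padicValNat.eq_zero_of_not_dvd hd, add_zero])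
      exact ⟨j, h1, by omega, h3⟩

/-- A prime dividing the number of totally isotropic `m`-spaces. -/
theorem of_dvd_count (hF : Fintype.card F = q ^ 2) {p : ℕ} [Fact p.Prime] [CharP F p] [hr : Fact r.Prime]
    (hmn : 2 * m ≤ n)
    (h : r ∣ Nat.card {W : Submodule F (Fin n → F) //
      Module.finrank F ↥W = m ∧ (∀ u ∈ W, ∀ v ∈ W, Cfsg.hermForm n F q u v = 0)}) :
    r ≠ p ∧ ∃ j, n - 2 * m < j ∧ j ≤ n ∧ (-(q : ZMod r)) ^ j = 1 := by
  classical
  have : Finite ((Fin n → F) ≃ₗ[F] (Fin n → F)) :=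
    Finite.of_injective (fun g => (g : (Fin n → F) → (Fin n → F))) DFunLike.coe_injective
  have hu := UnitPow.isUnitaryForm_hermForm hF n
  have hrp : r ≠ p := by
    rintro rfl
    let Q : Sylow r (isoEquiv n F q) := default
    have hP : IsPGroup r ((Q : Subgroup (isoEquiv n F q)).map (isoEquiv n F q).subtype) := Q.isPGroup'.map _
    obtain ⟨W, hWd, hWi, hWP⟩ := exists_fixed_TI hF hP (by rintro _ ⟨g, -, rfl⟩; exact g.2) m hmn
    rw [card_eq_orbit hF hWd hWi] at h
    refine not_dvd_card_orbit Q (fun g hg => ?_) h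
    exact smul_eq_of_map_le (g := (g : (Fin n → F) ≃ₗ[F] (Fin n → F)))
      (Submodule.map_le_iff_le_comap.2 fun v hv => hWP _ (Subgroup.mem_map_of_mem _ hg) v hv)
  refine ⟨hrp, ?_⟩
  have hrq : ¬ r ∣ q := by
    obtain ⟨p', k, hp', hcp, hqk⟩ : ∃ p' k, p'.Prime ∧ p' = p ∧ q = p' ^ k := by
      obtain ⟨f, hp, hFp⟩ := FiniteField.card F p
      obtain ⟨k, -, hk⟩ := (Nat.dvd_prime_pow hp).1 (show q ∣ p ^ (f : ℕ) from hFp ▸ hF ▸ dvd_pow_self q two_ne_zero)
      exact ⟨p, k, hp, rfl, hk⟩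
    subst hcp
    intro hd
    exact hrp ((Nat.prime_dvd_prime_iff_eq hr.out hp').1 (hr.out.dvd_of_dvd_pow (hqk ▸ hd)))
  set k := n - 2 * m
  obtain ⟨Φ, hΦ⟩ := exists_coordTI hF (show m + m + k = n by omega)
  let W₀ : Submodule F (Fin n → F) :=
    (LinearMap.range (LinearMap.funLeft F F (Sum.elim (Sum.elim some fun _ => none) fun _ => none :
      (Fin m ⊕ Fin m) ⊕ Fin k → Option (Fin m)) ∘ₗ
      LinearMap.pi fun o : Option (Fin m) => Option.elim o 0 fun i => LinearMap.proj i)).map Φ.toLinearMap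
  have hmem : ∀ v, v ∈ W₀ ↔ (∀ i, Φ.symm v (.inl (.inr i)) = 0) ∧ ∀ j, Φ.symm v (.inr j) = 0 := by
    intro v
    constructor
    · rintro ⟨_, ⟨a, rfl⟩, rfl⟩
      rw [LinearEquiv.coe_toLinearMap, Φ.symm_apply_apply]
      exact ⟨fun i => rfl, fun j => rfl⟩
    · rintro ⟨h1, h2⟩
      refine ⟨Φ.symm v, ⟨fun i => Φ.symm v (.inl (.inl i)), ?_⟩, Φ.apply_symm_apply v⟩
      funext x
      rcases x with (i | i) | j
      · rfl
      · exact (h1 i).symm
      · exact (h2 j).symm
  have hd : Module.finrank F W₀ = m := by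
    rw [LinearEquiv.finrank_map_eq, LinearMap.finrank_range_of_inj, Module.finrank_fin_fun]
    intro a b hab
    funext i
    exact congrFun hab (.inl (.inl i))
  have hi : ∀ u ∈ W₀, ∀ v ∈ W₀, Cfsg.hermForm n F q u v = 0 := by
    intro u hu' v hv
    rw [hmem] at hu' hv
    have hq0 : q ≠ 0 := by have := UnitPow.two_le hF; omega
    rw [← Φ.apply_symm_apply u, ← Φ.apply_symm_apply v, hΦ]
    simp [hu'.1, hu'.2, hv.1, hv.2, hq0]
  rw [card_eq_orbit hF hd hi, ← MulAction.index_stabilizer] at h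
  let R : Cfsg.GU k F q → ((Fin m ⊕ Fin m) ⊕ Fin k → F) →ₗ[F] ((Fin m ⊕ Fin m) ⊕ Fin k → F) := fun D =>
    Matrix.toLin' (Matrix.fromBlocks 1 0 0 ((D : GL (Fin k) F) : Matrix (Fin k) (Fin k) F))
  have hR : ∀ D a, R D a = Sum.elim (a ∘ Sum.inl) (((D : GL (Fin k) F) : Matrix (Fin k) (Fin k) F) *ᵥ (a ∘ Sum.inr)) :=
    fun D a => by simp [R, Matrix.fromBlocks_mulVec]
  have hRinj : ∀ D, Function.Injective (R D) := fun D a b hab => by
    rw [hR, hR] at hab
    funext x
    rcases x with x | x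
    · exact congrFun hab (Sum.inl x)
    · have h2 : ((D : GL (Fin k) F) : Matrix (Fin k) (Fin k) F) *ᵥ (a ∘ Sum.inr) =
          ((D : GL (Fin k) F) : Matrix (Fin k) (Fin k) F) *ᵥ (b ∘ Sum.inr) :=
        funext fun y => congrFun hab (Sum.inr y)
      have h3 := congrArg ((↑(D : GL (Fin k) F)⁻¹ : Matrix (Fin k) (Fin k) F) *ᵥ ·) h2
      simp only [Matrix.mulVec_mulVec, Units.inv_mul, Matrix.one_mulVec] at h3
      exact congrFun h3 x
  let ψ : Cfsg.GU k F q → isoEquiv n F q := fun D =>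
    ⟨(Φ.symm.trans (LinearEquiv.ofInjectiveEndo (R D) (hRinj D))).trans Φ, fun u v => by
      show Cfsg.hermForm n F q (Φ (R D (Φ.symm u))) (Φ (R D (Φ.symm v))) = _
      conv_rhs => rw [← Φ.apply_symm_apply u, ← Φ.apply_symm_apply v, hΦ]
      rw [hΦ, hR, hR]
      simp only [Sum.elim_inl, Sum.elim_inr, Function.comp_apply]
      congr 1
      exact D.2 (Φ.symm u ∘ Sum.inr) (Φ.symm v ∘ Sum.inr)⟩
  have hψ : ∀ D v, ((ψ D).1 : (Fin n → F) ≃ₗ[F] (Fin n → F)) v = Φ (R D (Φ.symm v)) := fun D v => rfl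
  have hmul : ∀ D D', ψ (D * D') = ψ D * ψ D' := fun D D' => Subtype.ext (LinearEquiv.ext fun v => by
    show Φ (R (D * D') _) = Φ (R D (Φ.symm (Φ (R D' _))))
    rw [Φ.symm_apply_apply, hR, hR, hR]
    simp [Matrix.mulVec_mulVec])
  let ψh : Cfsg.GU k F q →* isoEquiv n F q := MonoidHom.mk' ψ hmul
  have hψinj : Function.Injective ψh := fun D D' hDD => CfsgLib.UnitaryEmbed.gu_ext fun w => by
    have h1 := DFunLike.congr_fun (congrArg Subtype.val hDD) (Φ (Sum.elim 0 w))
    change ((ψ D).1 : (Fin n → F) ≃ₗ[F] (Fin n → F)) _ = ((ψ D').1 : (Fin n → F) ≃ₗ[F] (Fin n → F)) _ at h1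
    rw [hψ, hψ, Φ.symm_apply_apply, Φ.injective.eq_iff, hR, hR, Sum.elim_comp_inr] at h1
    funext j
    exact congrFun h1 (Sum.inr j)
  have hle : ψh.range ≤ MulAction.stabilizer (isoEquiv n F q) W₀ := by
    rintro _ ⟨D, rfl⟩
    refine smul_eq_of_map_le (g := ((ψ D).1 : (Fin n → F) ≃ₗ[F] (Fin n → F))) ?_
    rintro _ ⟨v, hv, rfl⟩
    rw [SetLike.mem_coe, hmem] at hv
    rw [hmem, LinearEquiv.coe_toLinearMap, hψ, Φ.symm_apply_apply, hR]
    refine ⟨fun i => hv.1 i, fun j => ?_⟩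
    rw [Sum.elim_inr, show Φ.symm v ∘ Sum.inr = 0 from funext hv.2, Matrix.mulVec_zero, Pi.zero_apply]
  have hlt : padicValNat r (Nat.card (Cfsg.GU k F q)) < padicValNat r (Nat.card (Cfsg.GU n F q)) := by
    have h1 : r ∣ ψh.range.index := h.trans (Subgroup.index_dvd_of_le hle)
    have h2 : Nat.card (Cfsg.GU k F q) * ψh.range.index = Nat.card (Cfsg.GU n F q) := by
      rw [Nat.card_congr (MonoidHom.ofInjective hψinj).toEquiv, Subgroup.card_mul_index, card_isoEquiv]
    rw [← h2, padicValNat.mul Nat.card_pos.ne' Subgroup.index_ne_zero_of_finite]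
    have := one_le_padicValNat_of_dvd Subgroup.index_ne_zero_of_finite h1
    omega
  exact exists_factor hF hrq k n (by omega) hlt

end CfsgLib.PrimeElusive.UnitFix
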