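import Cfsg.Agent.Lib.PrimeElusive.UnitFixCount
import Cfsg.Agent.Lib.PrimeClasses.Unitary
import Cfsg.Agent.Lib.PrimeClasses.Orthogonal

/-!
Totally isotropic subspaces fixed by semisimple unitary matrices of prime order: the criterion in terms of the
orbit multiplicities.
-/

set_option autoImplicit false
set_option linter.unusedSectionVars false

open scoped MatrixGroups

namespace CfsgLib.PrimeElusive.UnitFix

open Matrix CfsgLib.PrimeClasses CfsgLib.IsomConj CfsgLib.GeomClasses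

variable {F : Type*} [Field F] [Fintype F] {q n m r : ℕ} [hr : Fact r.Prime]
variable {L : Type*} [Field L] [Algebra F L] {ζ : L} (hζ : IsPrimitiveRoot ζ r)

/-- `B P C = 0` bounds the ranks of `B P` and `P C`. -/
theorem rank_add_le {K : Type*} [Field K] {ι κ μ : Type*} [Fintype ι] [DecidableEq ι] [Fintype κ] [Fintype μ]
    (P : Matrix ι ι K) (B : Matrix κ ι K) (C : Matrix ι μ K) (h : B * P * C = 0) :
    (B * P).rank + (P * C).rank ≤ P.rank := by
  classical
  set R := LinearMap.range P.mulVecLin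
  set f := B.mulVecLin.domRestrict R
  have h1 : LinearMap.range f = LinearMap.range (B * P).mulVecLin := by
    rw [LinearMap.range_domRestrict, Matrix.mulVecLin_mul, LinearMap.range_comp]
  have h2 : (LinearMap.range (P * C).mulVecLin).comap R.subtype ≤ LinearMap.ker f := by
    rintro v ⟨w, hw⟩
    show B *ᵥ (v : ι → K) = 0
    rw [← show (P * C) *ᵥ w = (v : ι → K) from hw, Matrix.mulVec_mulVec, ← Matrix.mul_assoc, h, Matrix.zero_mulVec]
  have h3 : LinearMap.range (P * C).mulVecLin ≤ R := by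
    rw [Matrix.mulVecLin_mul]; exact LinearMap.range_comp_le_range _ _
  have h4 := LinearMap.finrank_range_add_finrank_ker f
  have h5 := Submodule.finrank_mono h2
  rw [(Submodule.comapSubtypeEquivOfLe h3).finrank_eq] at h5
  rw [h1] at h4
  show Module.finrank K (LinearMap.range (B * P).mulVecLin) + Module.finrank K (LinearMap.range (P * C).mulVecLin) ≤
    Module.finrank K R
  omega

/-- Enough room realises a symmetric tuple. -/
theorem realised_of_le (hF : Fintype.card F = q ^ 2) (hr2 : r ≠ 2) {hrK : (r : F) ≠ 0} {i : ℕ}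
    (hi : i = orderOf (q : ZMod r)) {c : Orbits hrK → ℕ} (hc : IsSym (gOrb hF hrK) c) {n : ℕ}
    (hn : orderOf (Fintype.card F : ZMod r) * ∑ ω, c ω ≤ n) : GURealised hζ q hrK n c := by
  classical
  by_cases hg : gOrb hF hrK = 1
  · have h4 := (gOrb_eq_one_iff hF hrK hr2 hi).1 hg
    have hb : orderOf (Fintype.card F : ZMod r) = i / 2 := by
      refine (orbit_size_eq_b hF hrK hi rfl).trans (if_neg ?_)
      rw [Nat.not_odd_iff_even]; exact ⟨i / 2, by omega⟩
    have hdvd : r ∣ q ^ (i / 2) + 1 := by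
      rw [← ZMod.natCast_eq_zero_iff, Nat.cast_add, Nat.cast_pow, Nat.cast_one]
      have h1 : ((q : ZMod r) ^ (i / 2)) * (q : ZMod r) ^ (i / 2) = 1 := by
        rw [← pow_add, show i / 2 + i / 2 = i by omega, hi, pow_orderOf_eq_one]
      rcases mul_self_eq_one_iff.1 h1 with h2 | h2
      · exfalso
        have := Nat.le_of_dvd (by omega) (orderOf_dvd_of_pow_eq_one h2)
        rw [← hi] at this
        omega
      · rw [h2, neg_add_cancel]
    exact realise_induction (R := GURealised hζ q hrK) _ (GU_realised_zero hζ hF hrK)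
      (fun ω => GU_realised_single hζ hF hrK rfl (hb ▸ ⟨i / 4, by omega⟩) (hb ▸ hdvd) ω)
      (fun a a' d d' h h' => GU_realised_add hζ hF hrK h h') c n hn
  · exact realise_sym_induction (R := GURealised hζ q hrK) _ (gOrb_sq hF hrK) hg (GU_realised_zero hζ hF hrK)
      (GU_realised_pair hζ hF hrK) (fun a a' d d' h h' => GU_realised_add hζ hF hrK h h') c hc n hn

/-- The conjugate-inverse-transpose carries the dual tuple. -/
theorem orbitMult_ctr_inv (hF : Fintype.card F = q ^ 2) (hrK : (r : F) ≠ 0) {k : ℕ}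
    {A A' : Matrix (Fin k) (Fin k) F} (hA : A ^ r = 1) (h : A' * A = 1) (η : Orbits hrK) :
    orbitMult hζ hrK (ctr q A') η = orbitMult hζ hrK A (gOrb hF hrK * η) := by
  have hs : orb hrK (sqrtUnit hF hrK) * orb hrK (sqrtUnit hF hrK) = 1 := by
    rw [← QuotientGroup.mk_mul, ← pow_two, sqrtUnit_sq, QuotientGroup.eq_one_iff]
    exact Subgroup.mem_zpowers _
  have h1 := orbitMult_map_conj hζ hF hrK A'ᵀ (orb hrK (sqrtUnit hF hrK) * η)
  rw [← mul_assoc, hs, one_mul] at h1
  rw [show ctr q A' = A'ᵀ.map (· ^ q) from (Matrix.transpose_map ..).symm, h1,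
    ← orbitMult_inv_transpose hζ hrK hA h (gOrb hF hrK * η)]
  congr 1
  rw [gOrb, mul_assoc (orb hrK (-1)), ← mul_assoc (orb hrK (-1)), orb_neg_one_sq, one_mul]

/-- An invariant totally isotropic subspace bounds the multiplicities. -/
theorem exists_tuple_of_TI (hF : Fintype.card F = q ^ 2) (hrK : (r : F) ≠ 0) {X : Matrix (Fin n) (Fin n) F}
    (hX : X ^ r = 1) (hXu : IsU q X) (h : HasTI q m X) :
    ∃ cA : Orbits hrK → ℕ, (∀ ω, cA ω + cA (gOrb hF hrK * ω) ≤ orbitMult hζ hrK X ω) ∧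
      orderOf (Fintype.card F : ZMod r) * ∑ ω, cA ω ≤ m ∧
      2 * (m - orderOf (Fintype.card F : ZMod r) * ∑ ω, cA ω) +
        orderOf (Fintype.card F : ZMod r) * ∑ ω, orbitMult hζ hrK X ω ≤ n := by
  classical
  obtain ⟨W, hWd, hWi, hWX⟩ := h
  obtain ⟨p, k, hp, hcp, hqk⟩ := q_pow_eq hF
  have := Fact.mk hp
  let e := Module.finBasisOfFinrankEq F W hWd
  let f : (Fin m → F) →ₗ[F] (Fin n → F) := W.subtype ∘ₗ (e.equivFun.symm : (Fin m → F) ≃ₗ[F] W).toLinearMap
  have hfinj : Function.Injective f := Subtype.val_injective.comp e.equivFun.symm.injective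
  have hfW : ∀ a, f a ∈ W := fun a => Submodule.coe_mem _
  let M : Matrix (Fin n) (Fin m) F := LinearMap.toMatrix' f
  have hMv : ∀ a, M *ᵥ a = f a := fun a => LinearMap.toMatrix'_mulVec f a
  let T : (Fin m → F) →ₗ[F] (Fin m → F) :=
    (e.equivFun : W ≃ₗ[F] (Fin m → F)).toLinearMap ∘ₗ (Matrix.toLin' X ∘ₗ f).codRestrict W fun a => hWX _ (hfW a)
  let A : Matrix (Fin m) (Fin m) F := LinearMap.toMatrix' T
  have hXM : M * A = X * M := Matrix.ext_of_mulVec_single fun j => by
    rw [← Matrix.mulVec_mulVec, ← Matrix.mulVec_mulVec, hMv, hMv, LinearMap.toMatrix'_mulVec]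
    have h1 : f (T (Pi.single j 1)) = X *ᵥ f (Pi.single j 1) := by
      show ((e.equivFun.symm (e.equivFun _) : W) : Fin n → F) = _
      rw [LinearEquiv.symm_apply_apply]
      rfl
    exact h1
  obtain ⟨N, hN⟩ := f.exists_leftInverse_of_injective (LinearMap.ker_eq_bot.2 hfinj)
  have hNM : LinearMap.toMatrix' N * M = 1 := by
    rw [← LinearMap.toMatrix'_comp, hN, LinearMap.toMatrix'_id]
  have hA : A ^ r = 1 := by
    have hpow : ∀ l : ℕ, M * A ^ l = X ^ l * M := fun l => by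
      induction l with
      | zero => simp
      | succ l ih => rw [pow_succ, pow_succ, ← Matrix.mul_assoc, ih, Matrix.mul_assoc, hXM, ← Matrix.mul_assoc]
    calc A ^ r = LinearMap.toMatrix' N * (M * A ^ r) := by rw [← Matrix.mul_assoc, hNM, Matrix.one_mul]
      _ = 1 := by rw [hpow, hX, Matrix.one_mul, hNM]
  have hgram : Mᵀ * M.map (· ^ q) = 0 := by
    ext a b
    rw [Matrix.mul_apply]
    have h1 := hWi _ (hfW (Pi.single a 1)) _ (hfW (Pi.single b 1))
    rw [← hMv, ← hMv, Matrix.mulVec_single_one, Matrix.mulVec_single_one] at h1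
    simpa [Cfsg.hermForm] using h1
  -- over the splitting field
  have hr0 : (r : L) ≠ 0 := rootCast_ne_zero (L := L) hrK
  let Mq : Matrix (Fin n) (Fin m) L := up (M.map (· ^ q))
  let MU : Matrix (Fin n) (Fin m) L := up M
  let Xq := X.map (· ^ q)
  let Aq := A.map (· ^ q)
  let φ : F →+* F := iterateFrobenius F p k
  have hφ : (fun x : F => x ^ q) = φ := funext fun x => by rw [hqk, iterateFrobenius_def]
  have hXqM : M.map (· ^ q) * Aq = Xq * M.map (· ^ q) := by
    simp only [Aq, Xq, hφ, ← Matrix.map_mul, hXM]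
  have hPT : ∀ u, (eigProj hζ (up X) u)ᵀ = eigProj hζ (up Xq) (-u) := fun u => by
    have h1 : (up (L := L) X)ᵀ ^ r = 1 := by rw [← Matrix.transpose_pow, up_pow hX, Matrix.transpose_one]
    have h2 : Xᵀ * Xq = 1 := by
      rw [← Matrix.transpose_one, ← hXu, Matrix.transpose_mul]
      simp [Xq, ctr]
    have h3 : up (L := L) Xq = (up X)ᵀ ^ (((-1 : (ZMod r)ˣ) : ZMod r)).val := by
      have h4 : (up (L := L) X)ᵀ * up Xq = 1 := by
        rw [← Matrix.transpose_map, ← Matrix.map_mul, h2, Matrix.map_one _ (map_zero _) (map_one _)]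
      have h5 : (up (L := L) X)ᵀ ^ (((-1 : (ZMod r)ˣ) : ZMod r)).val * (up X)ᵀ = 1 := by
        rw [← pow_succ, pow_eq_pow_mod _ h1,
          show (((-1 : (ZMod r)ˣ) : ZMod r).val + 1) % r = ((((-1 : (ZMod r)ˣ) : ZMod r)) + 1).val by
            rw [ZMod.val_add, ZMod.val_one],
          Units.val_neg, Units.val_one, neg_add_cancel, ZMod.val_zero, pow_zero]
      exact (left_inv_eq_right_inv h5 h4).symm
    rw [← eigProj_transpose hζ, h3, ← eigProj_pow hζ h1 (-1) u]
    congr 1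
    simp
  have hrankM : ∀ Q : Matrix (Fin m) (Fin m) L, (MU * Q).rank = Q.rank := fun Q => by
    refine le_antisymm (Matrix.rank_mul_le_right _ _) ?_
    have h1 : up (L := L) (LinearMap.toMatrix' N) * (MU * Q) = Q := by
      simp only [MU]
      rw [← Matrix.mul_assoc, ← Matrix.map_mul, hNM, Matrix.map_one _ (map_zero _) (map_one _), Matrix.one_mul]
    conv_lhs => rw [← h1]
    exact Matrix.rank_mul_le_right _ _
  have hrankMq : ∀ Q : Matrix (Fin m) (Fin m) L, (Mq * Q).rank = Q.rank := fun Q => by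
    refine le_antisymm (Matrix.rank_mul_le_right _ _) ?_
    have h0 : (LinearMap.toMatrix' N).map φ * M.map φ = 1 := by
      rw [← Matrix.map_mul, hNM, Matrix.map_one _ (map_zero φ) (map_one φ)]
    have h1 : up (L := L) ((LinearMap.toMatrix' N).map φ) * (Mq * Q) = Q := by
      simp only [Mq, hφ]
      rw [← Matrix.mul_assoc, ← Matrix.map_mul, h0, Matrix.map_one _ (map_zero _) (map_one _), Matrix.one_mul]
    conv_lhs => rw [← h1]
    exact Matrix.rank_mul_le_right _ _
  have key : ∀ u, mult hζ (up A) u + mult hζ (up Aq) (-u) ≤ mult hζ (up X) u := by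
    intro u
    set P := eigProj hζ (up X) u
    have hR1 : P * MU = MU * eigProj hζ (up A) u :=
      (eigProj_intertwine hζ (A := MU) (by simp only [MU]; rw [← Matrix.map_mul, ← Matrix.map_mul, hXM]) u).symm
    have hR2 : Pᵀ * Mq = Mq * eigProj hζ (up Aq) (-u) := by
      rw [hPT]
      exact (eigProj_intertwine hζ (A := Mq) (by simp only [Mq]; rw [← Matrix.map_mul, ← Matrix.map_mul, hXqM]) _).symm
    have hzero : Mqᵀ * P * MU = 0 := by
      have hg : Mqᵀ * MU = 0 := by
        have : (M.map (· ^ q))ᵀ * M = 0 := by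
          rw [← Matrix.transpose_zero, ← hgram, Matrix.transpose_mul, Matrix.transpose_transpose]
        show (up (L := L) (M.map (· ^ q)))ᵀ * up M = 0
        rw [← Matrix.transpose_map, ← Matrix.map_mul, this, Matrix.map_zero _ (map_zero _)]
      rw [Matrix.mul_assoc, hR1, ← Matrix.mul_assoc, hg, Matrix.zero_mul]
    have := rank_add_le P Mqᵀ MU hzero
    rw [hR1, hrankM, ← Matrix.rank_transpose (Mqᵀ * P), Matrix.transpose_mul, Matrix.transpose_transpose, hR2,
      hrankMq] at this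
    simp only [mult]
    rw [add_comm]
    exact this
  set cA := orbitMult hζ hrK A
  set b := orderOf (Fintype.card F : ZMod r)
  refine ⟨cA, fun ω => ?_, ?_, ?_⟩
  · have h2 : mult hζ (up Aq) (-((ω.out : (ZMod r)ˣ) : ZMod r)) = cA (gOrb hF hrK * ω) := by
      have hs : orb hrK (sqrtUnit hF hrK) * orb hrK (sqrtUnit hF hrK) = 1 := by
        rw [← QuotientGroup.mk_mul, ← pow_two, sqrtUnit_sq, QuotientGroup.eq_one_iff]
        exact Subgroup.mem_zpowers _
      show _ = orbitMult hζ hrK A _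
      rw [← Units.val_neg, mult_eq_orbitMult hζ hrK,
        ← orbitMult_map_conj hζ hF hrK A (gOrb hF hrK * ω)]
      congr 1
      have e1 : orb hrK (sqrtUnit hF hrK) * (orb hrK (-1) * orb hrK (sqrtUnit hF hrK)) = orb hrK (-1) :=
        (@mul_left_comm (Orbits hrK) _ _ _ _).trans ((congrArg (orb hrK (-1) * ·) hs).trans (mul_one _))
      rw [gOrb, ← mul_assoc, e1, ← neg_one_mul ω.out, QuotientGroup.mk_mul, QuotientGroup.out_eq']
    have := key (ω.out : ZMod r)
    rw [h2] at this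
    exact this
  · have := sum_orbitMult hζ hrK hA
    rw [Fintype.card_fin] at this
    change mult hζ (up A) 0 + b * ∑ ω, cA ω = m at this
    omega
  · have h0 := key 0
    rw [neg_zero] at h0
    have h00 : mult hζ (up (L := L) Aq) 0 = mult hζ (up A) 0 := by
      have : CharP L p := charP_of_injective_algebraMap (algebraMap F L).injective p
      have hup : up (L := L) Aq = (up A).map (iterateFrobenius L p k) := by
        ext a b
        simp [Aq, hqk, iterateFrobenius_def]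
      have h1 := eigProj_map hζ hζ (M := up (L := L) A) (iterateFrobenius L p k) (p ^ k) (iterateFrobenius_def p k ζ) 0
      rw [mul_zero] at h1
      rw [mult, hup, h1, rank_map_ringHom]
      rfl
    have h1 := sum_orbitMult hζ hrK hA
    have h2 := sum_orbitMult hζ hrK hX
    rw [Fintype.card_fin] at h1 h2
    change mult hζ (up A) 0 + b * ∑ ω, cA ω = m at h1
    change mult hζ (up X) 0 + b * ∑ ω, orbitMult hζ hrK X ω = n at h2
    show 2 * (m - b * ∑ ω, cA ω) + b * ∑ ω, orbitMult hζ hrK X ω ≤ n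
    omega

/-- Conversely, suitable multiplicities give a fixed totally isotropic subspace. -/
theorem exists_model_TI (hF : Fintype.card F = q ^ 2) (hr2 : r ≠ 2) {hrK : (r : F) ≠ 0} {i : ℕ}
    (hi : i = orderOf (q : ZMod r)) (hmn : 2 * m ≤ n) {c : Orbits hrK → ℕ} (hc : IsSym (gOrb hF hrK) c)
    (cA : Orbits hrK → ℕ) (hle : ∀ ω, cA ω + cA (gOrb hF hrK * ω) ≤ c ω)
    (hA : orderOf (Fintype.card F : ZMod r) * ∑ ω, cA ω ≤ m)
    (hD : 2 * (m - orderOf (Fintype.card F : ZMod r) * ∑ ω, cA ω) +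
      orderOf (Fintype.card F : ZMod r) * ∑ ω, c ω ≤ n) :
    ∃ X : Matrix (Fin n) (Fin n) F, X ^ r = 1 ∧ IsU q X ∧ orbitMult hζ hrK X = c ∧ HasTI q m X := by
  classical
  set g := gOrb hF hrK
  set b := orderOf (Fintype.card F : ZMod r)
  let rest : Orbits hrK → ℕ := fun ω => c ω - (cA ω + cA (g * ω))
  have hgg : ∀ ω, g * (g * ω) = ω := fun ω => by rw [← mul_assoc, gOrb_sq, one_mul]
  have hrest : IsSym g rest := fun ω => by
    simp only [rest, hgg, hc ω]
    rw [add_comm (cA (g * ω))]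
  have hsum : ∑ ω, cA (g * ω) = ∑ ω, cA ω := Fintype.sum_equiv (Equiv.mulLeft g) _ _ fun ω => rfl
  have hrs : ∑ ω, rest ω + 2 * ∑ ω, cA ω = ∑ ω, c ω := by
    rw [two_mul, show ∑ ω, cA ω + ∑ ω, cA ω = ∑ ω, (cA ω + cA (g * ω)) by rw [Finset.sum_add_distrib, hsum],
      ← Finset.sum_add_distrib]
    exact Finset.sum_congr rfl fun ω _ => Nat.sub_add_cancel (hle ω)
  set k := n - 2 * m
  obtain ⟨A, hAr, hAc⟩ := exists_GL_realise hζ hrK cA m hA
  obtain ⟨D, hDr, hDu, hDc⟩ := realised_of_le hζ hF hr2 hi hrest (n := k) (by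
    have h1 : b * ∑ ω, c ω = b * ∑ ω, rest ω + 2 * (b * ∑ ω, cA ω) := by rw [← hrs]; ring
    change b * ∑ ω, cA ω ≤ m at hA
    change 2 * (m - b * ∑ ω, cA ω) + b * ∑ ω, c ω ≤ n at hD
    show b * ∑ ω, rest ω ≤ k
    omega)
  let A' := A ^ (r - 1)
  have hA' : A' * A = 1 := by
    show A ^ (r - 1) * A = 1
    rw [← pow_succ, Nat.sub_add_cancel hr.out.pos, hAr]
  have hA'r : A' ^ r = 1 := by rw [← pow_mul, mul_comm, pow_mul, hAr, one_pow]
  obtain ⟨τ, hτ, hτne, hττ⟩ := CfsgLib.UnitaryEmbed.exists_conj hF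
  have hctr : ∀ Z : Matrix (Fin m) (Fin m) F, ctr q Z = (Z.map τ)ᵀ := fun Z => by
    unfold ctr; congr 2; exact funext fun c => (hτ c).symm
  have hcr : (ctr q A') ^ r = 1 := by
    rw [hctr, ← Matrix.transpose_pow, ← RingHom.mapMatrix_apply, ← map_pow, hA'r, map_one, Matrix.transpose_one]
  obtain ⟨Φ, hΦ⟩ := exists_coordTI hF (show m + m + k = n by omega)
  let Z : Matrix ((Fin m ⊕ Fin m) ⊕ Fin k) ((Fin m ⊕ Fin m) ⊕ Fin k) F :=
    Matrix.fromBlocks (Matrix.fromBlocks A 0 0 (ctr q A')) 0 0 D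
  have hZr : Z ^ r = 1 := by
    rw [CfsgLib.PrimeClasses.fromBlocks_pow, CfsgLib.PrimeClasses.fromBlocks_pow, hAr, hcr, hDr,
      Matrix.fromBlocks_one, Matrix.fromBlocks_one]
  obtain ⟨Y, hYr, hYc, hYv⟩ := exists_transport hζ hrK Φ hZr
  have hZv : ∀ a, Z *ᵥ a = Sum.elim (Sum.elim (A *ᵥ fun i => a (.inl (.inl i))) (ctr q A' *ᵥ fun i => a (.inl (.inr i))))
      (D *ᵥ fun j => a (.inr j)) := fun a => by
    simp [Z, Matrix.fromBlocks_mulVec, Function.comp_def]
  have key : ∀ x y : Fin m → F, ∑ i, (A *ᵥ x) i * τ ((ctr q A' *ᵥ y) i) = ∑ i, x i * τ (y i) := by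
    intro x y
    have e : (fun i => τ ((ctr q A' *ᵥ y) i)) = A'ᵀ *ᵥ (τ ∘ y) := by
      funext i
      rw [RingHom.map_mulVec]
      congr 1
      ext a b
      simp [hctr, hττ]
    calc ∑ i, (A *ᵥ x) i * τ ((ctr q A' *ᵥ y) i) = (A *ᵥ x) ⬝ᵥ (A'ᵀ *ᵥ (τ ∘ y)) := by rw [← e]; rfl
      _ = (A' *ᵥ (A *ᵥ x)) ⬝ᵥ (τ ∘ y) := by rw [Matrix.dotProduct_mulVec, Matrix.vecMul_transpose]
      _ = _ := by rw [Matrix.mulVec_mulVec, hA', Matrix.one_mulVec]; rfl
  refine ⟨Y, hYr, (isU_iff_herm hF).2 fun u v => ?_, ?_, ?_⟩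
  · conv_lhs => rw [← Φ.apply_symm_apply u, ← Φ.apply_symm_apply v, hYv, hYv, hΦ, hZv, hZv]
    conv_rhs => rw [← Φ.apply_symm_apply u, ← Φ.apply_symm_apply v, hΦ]
    simp only [Sum.elim_inl, Sum.elim_inr, ← hτ]
    set a := Φ.symm u
    set b := Φ.symm v
    congr 1
    · congr 1
      · exact key _ _
      · have h2 := congrArg τ (key (fun i => b (.inl (.inl i))) (fun i => a (.inl (.inr i))))
        rw [map_sum, map_sum] at h2
        simp only [map_mul, hττ] at h2
        simpa only [mul_comm] using h2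
    · have h2 := (isU_iff_herm hF).1 hDu (fun j => a (.inr j)) fun j => b (.inr j)
      simpa only [Cfsg.hermForm, ← hτ] using h2
  · rw [hYc]
    show orbitMult hζ hrK Z = c
    rw [orbitMult_fromBlocks, orbitMult_fromBlocks, hAc, hDc]
    funext ω
    simp only [Pi.add_apply, orbitMult_ctr_inv hζ hF hrK hAr hA' ω, hAc]
    exact Nat.add_sub_cancel' (hle ω)
  · let ι₀ : (Fin m → F) →ₗ[F] ((Fin m ⊕ Fin m) ⊕ Fin k → F) :=
      { toFun := fun a => Sum.elim (Sum.elim a 0) 0
        map_add' := fun a a' => by funext x; rcases x with (x | x) | x <;> simp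
        map_smul' := fun s a => by funext x; rcases x with (x | x) | x <;> simp }
    have hι : ∀ a, ι₀ a = Sum.elim (Sum.elim a 0) 0 := fun a => rfl
    refine ⟨LinearMap.range (Φ.toLinearMap ∘ₗ ι₀), ?_, ?_, ?_⟩
    · rw [LinearMap.finrank_range_of_inj, Module.finrank_fin_fun]
      intro a a' haa'
      funext i
      exact congrFun (Φ.injective haa') (.inl (.inl i))
    · rintro _ ⟨a, rfl⟩ _ ⟨a', rfl⟩
      have hq0 : q ≠ 0 := by have := UnitPow.two_le hF; omega
      simp only [LinearMap.comp_apply, LinearEquiv.coe_coe, hΦ, hι]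
      simp [hq0]
    · rintro _ ⟨a, rfl⟩
      refine ⟨A *ᵥ a, ?_⟩
      simp only [LinearMap.comp_apply, LinearEquiv.coe_coe, hYv, hι, hZv]
      congr 1
      funext x
      rcases x with (x | x) | x <;> simp [← Pi.zero_def]

/-- The criterion. -/
theorem hasTI_iff (hF : Fintype.card F = q ^ 2) (hr2 : r ≠ 2) (hrK : (r : F) ≠ 0) (hmn : 2 * m ≤ n) {i : ℕ}
    (hi : i = orderOf (q : ZMod r)) (hgen : Algebra.adjoin F ({ζ} : Set L) = ⊤) {X : Matrix (Fin n) (Fin n) F}
    (hX : X ^ r = 1) (hXu : IsU q X) :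
    HasTI q m X ↔ ∃ cA : Orbits hrK → ℕ, (∀ ω, cA ω + cA (gOrb hF hrK * ω) ≤ orbitMult hζ hrK X ω) ∧
      orderOf (Fintype.card F : ZMod r) * ∑ ω, cA ω ≤ m ∧
      2 * (m - orderOf (Fintype.card F : ZMod r) * ∑ ω, cA ω) +
        orderOf (Fintype.card F : ZMod r) * ∑ ω, orbitMult hζ hrK X ω ≤ n := by
  refine ⟨exists_tuple_of_TI hζ hF hrK hX hXu, fun ⟨cA, h1, h2, h3⟩ => ?_⟩
  obtain ⟨Y, hY, hYu, hYc, hYT⟩ := exists_model_TI hζ hF hr2 hi hmn (GU_isSym hζ hF hrK hX hXu) cA h1 h2 h3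
  obtain ⟨g, hg, rfl⟩ := exists_GU_conj hF hYu hXu (exists_conj_of_orbitMult hζ hgen hrK hY hX hYc)
  exact hYT.conj hg

end CfsgLib.PrimeElusive.UnitFix
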